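import Cfsg.Agent.BenderWorld.TwoTransitive
import Cfsg.Agent.Transfer.Fusion
import Cfsg.Agent.LocalStructure.Tools

/-!
# Facts of the doubly transitive world for `Shape.Setup`: `noSwap`, `noQuotient`, `primeInto`

`H = stabilizer a`, `D = pairStab a b`, `w` a swapper of `(a, b)`.
-/

set_option autoImplicit false

namespace CfsgLib.BenderWorld

open scoped commutatorElement

open CfsgLib.Small CfsgLib.SEmbed Subgroup

variable {G : Type*} [Group G] [Finite G] {Ω : Type*} [MulAction G Ω]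

/-- What remains of slices A, B, C: a world, no configurations, centralised cores. -/
structure Clean (G : Type*) [Group G] (Ω : Type*) [MulAction G Ω] : Prop where
  world : World G Ω
  noConfig : NoConfig G Ω
  core : CoreCentral G Ω

omit [Finite G] in
theorem Clean.good (h : Clean G Ω) {q : ℕ} {a : Ω} (hdvd : q ∣ numInv G a) : Good G Ω q :=
  ⟨h.world, h.noConfig, h.core, a, hdvd⟩

/-- `primeInto`: an element of `C_H(t)` of prime order dividing `m` is conjugate into `D` under `C_H(t)`. -/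
theorem Clean.primeInto (h : Clean G Ω) {a b : Ω} (hab : a ≠ b) {t : G} (ht : t ∈ invMap (G := G) a a)
    {x : G} (hxt : Commute x t) (hx : (orderOf x).Prime) (hdvd : orderOf x ∣ numInv G a) :
    ∃ k : G, k • a = a ∧ Commute k t ∧ k * x * k⁻¹ ∈ pairStab G a b := by
  haveI := Fact.mk hx
  have hu := h.world.uf
  have hg := h.good hdvd
  have hxa : x • a = a := commute_fix hu ht.1 hxt ht.2
  obtain ⟨y₁, y₂, h12, h1, h2⟩ := hg.exists_two_fixed
    (Q := zpowers x) (IsPGroup.of_card (n := 1) (by rw [Nat.card_zpowers, pow_one]))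
  obtain ⟨y, hy, hya⟩ : ∃ y ∈ fixSet (Ω := Ω) (zpowers x), a ≠ y := by
    by_cases h' : a = y₁
    · exact ⟨y₂, h2, h' ▸ h12⟩
    · exact ⟨y₁, h1, h'⟩
  obtain ⟨g, hga, hgb⟩ := hg.two_transitive hya hab
  obtain ⟨c, hc, d, hd, hgdc⟩ := stabilizer_eq_centralizer_mul hu hab ht hga
  have hct : Commute c t := mem_centralizer_singleton_iff.1 hc
  have hca : c • a = a := commute_fix hu ht.1 hct ht.2
  have hcb : c • y = b := by
    have h3 : d • (c • y) = d • b := by rw [← mul_smul, ← hgdc, hgb, (mem_pairStab.1 hd).2]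
    exact smul_left_cancel d h3
  refine ⟨c, hca, hct, mem_pairStab.2 ⟨?_, ?_⟩⟩
  · rw [mul_smul, mul_smul, inv_smul_eq_iff.2 hca.symm, hxa, hca]
  · rw [mul_smul, mul_smul, inv_smul_eq_iff.2 hcb.symm, hy x (mem_zpowers x), hcb]

/-- **F3** (`noSwap`). -/
theorem Clean.noSwap (h : Clean G Ω) {a b : Ω} (hab : a ≠ b) {x t s : G} (hx : x ∈ pairStab G a b)
    (hx1 : x ≠ 1) (ht : t ∈ invMap (G := G) a a) (hs : s ∈ invMap (G := G) a a) (hst : s ≠ t)
    (hcts : Commute s t) (hxt : Commute x t) (hxs : Commute x s) :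
    ¬ ∃ k : G, k • a = a ∧ k * t * k⁻¹ = s ∧ k * s * k⁻¹ = t := by
  rintro ⟨k, hka, hkt, hks⟩
  have hu := h.world.uf
  haveI := h.world.simple
  set p := (orderOf x).minFac with hp
  have hord : orderOf x ≠ 1 := fun e => hx1 (orderOf_eq_one_iff.1 e)
  haveI : Fact p.Prime := ⟨Nat.minFac_prime hord⟩
  have hpodd : p ≠ 2 := fun e => by
    have h2 : 2 ∣ Nat.card (pairStab G a b) :=
      (e ▸ Nat.minFac_dvd (orderOf x) : 2 ∣ orderOf x).trans (Subgroup.orderOf_dvd_natCard _ hx)
    exact (odd_pairStab hu hab).not_two_dvd_nat h2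
  set x₁ := x ^ (orderOf x / p) with hx₁
  have hx₁o : orderOf x₁ = p := by
    rw [hx₁, orderOf_pow_of_dvd (Nat.div_pos (Nat.minFac_le (orderOf_pos x)) (Nat.minFac_pos _)).ne'
      (Nat.div_dvd_of_dvd (Nat.minFac_dvd _)), Nat.div_div_self (Nat.minFac_dvd _) (orderOf_pos x).ne']
  set Y := centralizer ({t} : Set G) ⊓ centralizer ({s} : Set G) with hY
  have hYa : ∀ g ∈ Y, g • a = a := fun g hg =>
    commute_fix hu ht.1 (mem_centralizer_singleton_iff.1 hg.1) ht.2
  -- a largest `p`-subgroup of `Y` fixing a second point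
  obtain ⟨R, ⟨hR, hRY, hR1, c, hca, hRc⟩, hmax⟩ := Set.exists_max_image
    {R : Subgroup G | IsPGroup p R ∧ R ≤ Y ∧ R ≠ ⊥ ∧ ∃ c : Ω, c ≠ a ∧ c ∈ fixSet (Ω := Ω) R}
    (fun R => Nat.card R) (Set.toFinite _)
    ⟨zpowers x₁, IsPGroup.of_card (n := 1) (by rw [Nat.card_zpowers, hx₁o, pow_one]),
      zpowers_le.2 ⟨mem_centralizer_singleton_iff.2 (hxt.pow_left _).eq,
        mem_centralizer_singleton_iff.2 (hxs.pow_left _).eq⟩,
      zpowers_ne_bot.2 (fun e => by
        rw [e, orderOf_one] at hx₁o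
        exact (Fact.out : p.Prime).one_lt.ne hx₁o),
      b, hab.symm, fun r hr => (mem_pairStab.1 (zpowers_le.2 (pow_mem hx _) hr)).2⟩
  have hRa : a ∈ fixSet (Ω := Ω) R := fun r hr => hYa r (hRY hr)
  have hRt : ∀ r ∈ R, Commute r t := fun r hr => mem_centralizer_singleton_iff.1 (hRY hr).1
  have hRs : ∀ r ∈ R, Commute r s := fun r hr => mem_centralizer_singleton_iff.1 (hRY hr).2
  -- an involution at each fixed point
  have hinv : ∀ z ∈ fixSet (Ω := Ω) R, z ≠ a → ∃ v ∈ invMap (G := G) z z, ∀ r ∈ R, Commute r v := by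
    intro z hz hza
    by_cases hdvd : p ∣ numInv G a
    · exact ((h.good hdvd).star hza.symm ht hR (le_pairStab_of_mem hRa hz)
        (fun r hr => mem_centralizer_singleton_iff.2 (hRt r hr).eq) hR1).2
    · have hndvd : ¬ p ∣ Nat.card (invMap (G := G) z z) := by
        rw [card_invMap_self hu z a]; exact hdvd
      letI : MulAction R (invMap (G := G) z z) := {
        smul := fun r i => ⟨(r : G) * i.1 * (r : G)⁻¹, conj_mem_invMap (hz r r.2) i.2⟩
        one_smul := fun i => Subtype.ext (by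
          show ((1 : R) : G) * i.1 * ((1 : R) : G)⁻¹ = i.1
          rw [Subgroup.coe_one, one_mul, inv_one, mul_one])
        mul_smul := fun r r' i => Subtype.ext (by
          show ((r * r' : R) : G) * i.1 * ((r * r' : R) : G)⁻¹ =
            (r : G) * ((r' : G) * i.1 * (r' : G)⁻¹) * (r : G)⁻¹
          rw [Subgroup.coe_mul]; group) }
      obtain ⟨i, hi⟩ := hR.nonempty_fixed_point_of_prime_not_dvd_card _ hndvd
      exact ⟨i.1, i.2, fun r hr => mul_inv_eq_iff_eq_mul.1 (congrArg Subtype.val (hi ⟨r, hr⟩))⟩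
  obtain ⟨v, hv, hvR⟩ := hinv c hRc hca
  set M := normalizer (R : Set G) with hM
  have hmemM : ∀ g : G, (∀ r ∈ R, Commute r g) → g ∈ M := fun g hg =>
    centralizer_le_normalizer _ (mem_centralizer_iff.2 fun r hr => (hg r hr).eq)
  have htM : t ∈ M := hmemM t hRt
  have hMtop : M ≠ ⊤ := by
    intro htop
    haveI := normalizer_eq_top_iff.1 htop
    rcases IsSimpleGroup.eq_bot_or_eq_top_of_normal R inferInstance with h0 | h0
    · exact hR1 h0
    · have hdvd := Subgroup.orderOf_dvd_natCard R (show t ∈ R from h0 ▸ mem_top t)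
      rw [ht.1] at hdvd
      obtain ⟨n, hn⟩ := IsPGroup.iff_card.1 hR
      rw [hn] at hdvd
      exact hpodd ((Nat.prime_dvd_prime_iff_eq Nat.prime_two Fact.out).1
        (Nat.prime_two.dvd_of_dvd_pow hdvd)).symm
  obtain ⟨m, hm, hmt⟩ := exists_conj_in hu htM (hmemM v hvR) ht.1 hv.1 ht.2 hv.2 hca.symm
  have hma : m • a = c :=
    hu.unique v hv.1 _ _ (by rw [← hmt, mul_smul, mul_smul, inv_smul_smul, ht.2]) hv.2
  set V := Subgroup.closure ({t, s} : Set G) with hVdef
  have hV : IsFour V := isFour_closure_pair ht.1 hs.1 hst.symm hcts.symm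
  have hVM : V ≤ M := (closure_le _).2 (by rintro g (rfl | rfl); exacts [htM, hmemM _ hRs])
  have hVa : V ≤ MulAction.stabilizer G a :=
    (closure_le _).2 (by rintro g (rfl | rfl); exacts [ht.2, hs.2])
  have hR2 : IsR2 M a := by
    refine (h.world.ih M hMtop a ⟨t, htM, ht.1, ht.2⟩ ⟨m, hm, fun e => hca (hma.symm.trans e)⟩).resolve_left
      fun h1 => ?_
    obtain ⟨o, ho, c', -, hc', hmoc⟩ := h1 t htM ht.1 m hm
    have hO : coreIn M ≤ MulAction.stabilizer G a := by
      refine le_stabilizer_of_normal_odd hu (N := coreIn M) ?_ ?_ hV hVa hVM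
      · intro g hg
        exact le_normalizer_map M.subtype ⟨⟨g, hg⟩, by rw [normalizer_eq_top]; exact mem_top _, rfl⟩
      · rw [coreIn, card_map_of_injective M.subtype_injective]
        exact CfsgLib.TwoGroups.odd_card_oddCore
    refine hca (hma.symm.trans ?_)
    rw [hmoc, mul_smul, commute_fix hu ht.1 hc' ht.2]
    exact hO ho
  -- `R` is a Sylow subgroup of `Y`
  have hfixdvd : ¬ p ∣ Nat.card ↥(fixSet (Ω := Ω) R \ {a} : Set Ω) := by
    haveI := finite_points hu
    rw [Nat.card_coe_set_eq, Set.ncard_sdiff_singleton_of_mem hRa]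
    have hpos : 0 < (fixSet (Ω := Ω) R).ncard := (Set.ncard_pos (Set.toFinite _)).2 ⟨a, hRa⟩
    by_cases hdvd : p ∣ numInv G a
    · have hg := h.good hdvd
      obtain ⟨P, hP⟩ := hg.exists_sylow_pair hab
      have h1 := (card_fixSet_modEq hu hR).symm.trans (card_fixSet_modEq hu P.2)
      rw [hP, Nat.card_coe_set_eq, Nat.card_coe_set_eq, Set.ncard_pair hab] at h1
      intro hd
      have h2 : (fixSet (Ω := Ω) R).ncard ≡ 1 [MOD p] := by
        have := (Nat.modEq_zero_iff_dvd.2 hd).add_right 1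
        rwa [Nat.sub_add_cancel hpos, zero_add] at this
      exact (Fact.out : p.Prime).not_dvd_one ((Nat.modEq_iff_dvd' (by norm_num : 1 ≤ 2)).1 (h2.symm.trans h1))
    · obtain ⟨e, -, hdeg⟩ := hR2.degree
      have horb : fixSet (Ω := Ω) R = MulAction.orbit M a := by
        ext z
        constructor
        · intro hz
          by_cases hza : z = a
          · rw [hza]; exact MulAction.mem_orbit_self a
          · obtain ⟨v', hv', hv'R⟩ := hinv z hz hza
            obtain ⟨n, hn, hnt⟩ := exists_conj_in hu htM (hmemM v' hv'R) ht.1 hv'.1 ht.2 hv'.2 (Ne.symm hza)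
            exact ⟨⟨n, hn⟩, hu.unique v' hv'.1 _ _ (by
              show v' • n • a = n • a
              rw [← hnt, mul_smul, mul_smul, inv_smul_smul, ht.2]) hv'.2⟩
        · rintro ⟨g, rfl⟩
          exact smul_mem_fixSet g.2 hRa
      rw [horb, ← Nat.card_coe_set_eq, hdeg, Nat.add_sub_cancel]
      exact fun hd => hpodd ((Nat.prime_dvd_prime_iff_eq Fact.out Nat.prime_two).1
        ((Fact.out : p.Prime).dvd_of_dvd_pow hd))
  let S : Sylow p Y := ⟨R.subgroupOf Y, hR.comap_subtype, fun {Q} hQ hle => by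
    by_contra hne
    obtain ⟨g, hgQ, hgN, hgR⟩ := exists_normalizer_not_mem (P := Q.map Y.subtype) (hQ.map _)
      (R := R) (fun r hr => ⟨⟨r, hRY hr⟩, hle hr, rfl⟩) (fun e => hne (by
        rw [e, subgroupOf, comap_map_eq_self_of_injective Y.subtype_injective]))
    set R₁ := R ⊔ zpowers g with hR₁def
    have hR₁ : IsPGroup p R₁ := (hQ.map Y.subtype).to_le
      (sup_le (fun r hr => ⟨⟨r, hRY hr⟩, hle hr, rfl⟩) (zpowers_le.2 hgQ))
    have hR₁Y : R₁ ≤ Y := sup_le hRY (zpowers_le.2 (map_subtype_le _ hgQ))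
    have hR₁N : R₁ ≤ M := sup_le le_normalizer (zpowers_le.2 hgN)
    haveI := finite_points hu
    letI : MulAction R₁ ↥(fixSet (Ω := Ω) R \ {a} : Set Ω) := {
      smul := fun r z => ⟨(r : G) • z.1, smul_mem_fixSet (hR₁N r.2) z.2.1, fun e =>
        z.2.2 (smul_left_cancel (r : G)
          (e.trans (hYa r (hR₁Y r.2)).symm))⟩
      one_smul := fun z => Subtype.ext (one_smul G z.1)
      mul_smul := fun r r' z => Subtype.ext (mul_smul (r : G) (r' : G) z.1) }
    obtain ⟨z, hz⟩ := hR₁.nonempty_fixed_point_of_prime_not_dvd_card _ hfixdvd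
    have h1 := hmax R₁ ⟨hR₁, hR₁Y, fun e => hR1 (le_bot_iff.1 (e ▸ le_sup_left)), z.1,
      fun e => z.2.2 e, fun r hr => congrArg Subtype.val (hz ⟨r, hr⟩)⟩
    exact hgR (eq_of_le_of_card_ge (le_sup_left : R ≤ R₁) h1 ▸ mem_sup_right (mem_zpowers g))⟩
  -- Frattini
  have hkY : k ∈ normalizer (Y : Set G) := by
    refine CfsgLib.LocalStructure.mem_normalizer_of_forall fun g hg => ?_
    have e1 := mem_centralizer_singleton_iff.1 hg.1
    have e2 := mem_centralizer_singleton_iff.1 hg.2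
    refine ⟨mem_centralizer_singleton_iff.2 ?_, mem_centralizer_singleton_iff.2 ?_⟩
    · rw [← hks]
      calc k * g * k⁻¹ * (k * s * k⁻¹) = k * (g * s) * k⁻¹ := by group
        _ = _ := by rw [e2]; group
    · rw [← hkt]
      calc k * g * k⁻¹ * (k * t * k⁻¹) = k * (g * t) * k⁻¹ := by group
        _ = _ := by rw [e1]; group
  obtain ⟨g, hg, y, hy, hky⟩ := CfsgLib.LocalStructure.frattini_argument
    (L := normalizer (Y : Set G)) le_normalizer le_rfl S hkY
  have hgM : g ∈ M := by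
    have h2 := hg.2
    rwa [show (S : Subgroup Y).map Y.subtype = R from map_subgroupOf_eq_of_le hRY] at h2
  have hyt : Commute y t := mem_centralizer_singleton_iff.1 hy.1
  have hys : Commute y s := mem_centralizer_singleton_iff.1 hy.2
  have hga : g • a = a := by
    have h2 := hka
    rw [hky, mul_smul, hYa y hy] at h2
    exact h2
  have hgt : g * t * g⁻¹ = s := by
    rw [← hkt, hky]
    calc g * t * g⁻¹ = g * (y * t * y⁻¹) * g⁻¹ := by rw [hyt.eq, mul_inv_cancel_right]
      _ = _ := by group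
  have hgs : g * s * g⁻¹ = t := by
    rw [← hks, hky]
    calc g * s * g⁻¹ = g * (y * s * y⁻¹) * g⁻¹ := by rw [hys.eq, mul_inv_cancel_right]
      _ = _ := by group
  -- the two-part of `g`
  obtain ⟨i, r, hr, hir⟩ := Nat.exists_eq_pow_mul_and_not_dvd (orderOf_pos g).ne' 2 (by norm_num)
  obtain ⟨j, rfl⟩ : Odd r := Nat.odd_iff.2 (Nat.two_dvd_ne_zero.1 hr)
  set g₂ := g ^ (2 * j + 1) with hg₂
  have hg₂t : g₂ * t * g₂⁻¹ = s := by
    have hsq : Commute (g * g) t := by
      show g * g * t = t * (g * g)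
      calc g * g * t = g * (g * t * g⁻¹) * g⁻¹ * (g * g) := by group
        _ = _ := by rw [hgt, hgs]
    have hpow : Commute (g ^ (2 * j)) t := by rw [pow_mul, sq]; exact hsq.pow_left j
    rw [hg₂, pow_succ', mul_inv_rev]
    calc g * g ^ (2 * j) * t * ((g ^ (2 * j))⁻¹ * g⁻¹) = g * (g ^ (2 * j) * t * (g ^ (2 * j))⁻¹) * g⁻¹ := by
          group
      _ = s := by rw [hpow.eq, mul_inv_cancel_right, hgt]
  obtain ⟨U, -, -, -, -, hUc, -, hUcomm⟩ := hR2.twoClosed
  have hg₂U : g₂ ∈ U := hUc g₂ ⟨pow_mem hgM _, (MulAction.mem_stabilizer_iff).2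
      ((MulAction.mem_stabilizer_iff).1 (pow_mem (show g ∈ MulAction.stabilizer G a from hga) _))⟩ i (by
    rw [hg₂, ← pow_mul, mul_comm, ← hir, pow_orderOf_eq_one]; exact one_mem _)
  have htU : t ∈ U := hUc t ⟨htM, ht.2⟩ 1 (by
    rw [pow_one, sq, mul_self_of_orderOf_two ht.1]; exact one_mem _)
  have hmem := hUcomm g₂ hg₂U t htU ht.1
  rw [hg₂t, inv_eq_self_of_orderOf_two ht.1] at hmem
  have hodd : Odd (Nat.card (coreIn M)) := by
    rw [coreIn, card_map_of_injective M.subtype_injective]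
    exact CfsgLib.TwoGroups.odd_card_oddCore
  have hsq : (s * t) ^ 2 = 1 := by
    rw [hcts.mul_pow, sq, sq, mul_self_of_orderOf_two hs.1, mul_self_of_orderOf_two ht.1, one_mul]
  have h11 : s * t = 1 := orderOf_eq_one_iff.1 (Nat.eq_one_of_dvd_coprimes (Nat.coprime_two_left.2 hodd)
    (orderOf_dvd_of_pow_eq_one hsq) (Subgroup.orderOf_dvd_natCard _ hmem))
  exact hst ((eq_inv_of_mul_eq_one_left h11).trans (inv_eq_self_of_orderOf_two ht.1))

/-- `noQuotient`: transfer in the simple group. -/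
theorem Clean.noQuotient (h : Clean G Ω) {r : ℕ} [Fact r.Prime] {a b : Ω} (hab : a ≠ b) {w : G}
    (hw : w ∈ invMap (G := G) a b) (hr : r ∣ numInv G a)
    (φ : ↥(pairStab G a b) →* Multiplicative (ZMod r))
    (hφ : ∀ p : ↥(pairStab G a b), w * (p : G) * w⁻¹ = (p : G)⁻¹ → φ p = 1) : φ = 1 := by
  have hu := h.world.uf
  haveI := h.world.simple
  have hg := h.good hr
  obtain ⟨P, hP⟩ := hg.exists_sylow_pair hab
  have hPD : (P : Subgroup G) ≤ (pairStab G a b) :=
    le_pairStab_of_mem (hP.ge (Or.inl rfl)) (hP.ge (Or.inr rfl))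
  -- conjugation does not change `φ` on the Sylow subgroup
  have key : ∀ (x g : G) (hx : x ∈ (P : Subgroup G)) (hgx : g * x * g⁻¹ ∈ (P : Subgroup G)),
      φ ⟨g * x * g⁻¹, hPD hgx⟩ = φ ⟨x, hPD hx⟩ := by
    intro x g hx hgx
    rcases eq_or_ne x 1 with rfl | hx1
    · congr 1; exact Subtype.ext (by simp)
    obtain ⟨hxa, hxb⟩ := mem_pairStab.1 (hPD hx)
    obtain ⟨hga, hgb⟩ := mem_pairStab.1 (hPD hgx)
    have hga' : x • (g⁻¹ • a) = g⁻¹ • a := by
      rw [mul_smul, mul_smul] at hga; exact eq_inv_smul_iff.2 hga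
    have hgb' : x • (g⁻¹ • b) = g⁻¹ • b := by
      rw [mul_smul, mul_smul] at hgb; exact eq_inv_smul_iff.2 hgb
    have hconjD : ∀ d ∈ (pairStab G a b), ∀ y : G, ∀ hy : y ∈ (pairStab G a b), ∀ hd' : d * y * d⁻¹ ∈ (pairStab G a b),
        φ ⟨d * y * d⁻¹, hd'⟩ = φ ⟨y, hy⟩ := by
      intro d hd y hy hd'
      rw [show (⟨d * y * d⁻¹, hd'⟩ : (pairStab G a b)) = ⟨d, hd⟩ * ⟨y, hy⟩ * ⟨d, hd⟩⁻¹ from Subtype.ext rfl,
        map_mul, map_mul, map_inv, mul_comm (φ _) (φ _), mul_inv_cancel_right]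
    by_cases htwo : ∀ z : Ω, x • z = z → z = a ∨ z = b
    · rcases htwo _ hga' with h1 | h1
      · have h2 : g⁻¹ • b = b := (htwo _ hgb').resolve_left fun e =>
          hab (smul_left_cancel g⁻¹ (h1.trans e.symm))
        exact hconjD g (mem_pairStab.2 ⟨(inv_smul_eq_iff.1 h1).symm, (inv_smul_eq_iff.1 h2).symm⟩) x
          (hPD hx) (hPD hgx)
      · have h2 : g⁻¹ • b = a := (htwo _ hgb').resolve_right fun e =>
          hab (smul_left_cancel g⁻¹ (h1.trans e.symm))
        have hd : g * w ∈ (pairStab G a b) := mem_pairStab.2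
          ⟨by rw [mul_smul, hw.2]; exact (inv_smul_eq_iff.1 h1).symm,
            by rw [mul_smul, smul_back hw.1 hw.2]; exact (inv_smul_eq_iff.1 h2).symm⟩
        have hww : w * w = 1 := mul_self_of_orderOf_two hw.1
        have hwx : w * x * w⁻¹ ∈ (pairStab G a b) := conj_mem_pairStab hw (hPD hx)
        have e : g * x * g⁻¹ = g * w * (w * x * w⁻¹) * (g * w)⁻¹ := by
          calc g * x * g⁻¹ = g * (w * w) * x * ((w * w)⁻¹ * g⁻¹) := by rw [hww]; group
            _ = _ := by group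
        have hp := hφ ⟨x⁻¹ * (w * x * w⁻¹), mul_mem (inv_mem (hPD hx)) hwx⟩ (by
          show w * (x⁻¹ * (w * x * w⁻¹)) * w⁻¹ = (x⁻¹ * (w * x * w⁻¹))⁻¹
          calc w * (x⁻¹ * (w * x * w⁻¹)) * w⁻¹ = (w * x⁻¹ * w⁻¹) * ((w * w) * x * (w * w)⁻¹) := by group
            _ = _ := by rw [hww]; group)
        have e2 : (⟨x⁻¹ * (w * x * w⁻¹), mul_mem (inv_mem (hPD hx)) hwx⟩ : (pairStab G a b)) =
            (⟨x, hPD hx⟩ : (pairStab G a b))⁻¹ * ⟨w * x * w⁻¹, hwx⟩ := Subtype.ext rfl
        rw [e2, map_mul, map_inv, inv_mul_eq_one] at hp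
        rw [hp, ← hconjD (g * w) hd _ hwx (e ▸ hPD hgx)]
        congr 1
        exact Subtype.ext e
    · push Not at htwo
      obtain ⟨z, hz, hza, hzb⟩ := htwo
      have hQ : IsPGroup r (zpowers x) := P.2.to_le (zpowers_le.2 hx)
      have hdvd : r ∣ orderOf x := by
        obtain ⟨n, hn⟩ := IsPGroup.iff_card.1 hQ
        rw [Nat.card_zpowers] at hn
        rcases n with _ | n
        · exact absurd (orderOf_eq_one_iff.1 (by simpa using hn)) hx1
        · exact hn ▸ dvd_pow_self r n.succ_ne_zero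
      have hfix : ∀ p : Ω, x • p = p → p ∈ fixSet (Ω := Ω) (zpowers x) := fun p hp' y hy =>
        (MulAction.mem_stabilizer_iff).1 (zpowers_le.2 (show x ∈ MulAction.stabilizer G p from hp') hy)
      have hinv : ∀ p : Ω, x • p = p → ∃ v ∈ invMap (G := G) p p, Commute x v := fun p hp' => by
        obtain ⟨v, hv, hvc⟩ := hg.exists_invol_at hQ (zpowers_ne_bot.2 hx1) (hfix a hxa) (hfix b hxb)
          (hfix z hz) hab (Ne.symm hza) (Ne.symm hzb) (hfix p hp')
        exact ⟨v, hv, hvc x (mem_zpowers x)⟩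
      have hmove : ∀ p p' : Ω, x • p = p → x • p' = p' → ∃ k : G, Commute k x ∧ k • p = p' := by
        intro p p' hp hp'
        by_cases hpp : p = p'
        · exact ⟨1, Commute.one_left x, by rw [one_smul, hpp]⟩
        obtain ⟨v, hv, hvx⟩ := hinv p hp
        obtain ⟨v', hv', hv'x⟩ := hinv p' hp'
        obtain ⟨k, hk, hkv⟩ := exists_conj_in hu (M := centralizer ({x} : Set G))
          (mem_centralizer_singleton_iff.2 hvx.symm.eq) (mem_centralizer_singleton_iff.2 hv'x.symm.eq)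
          hv.1 hv'.1 hv.2 hv'.2 hpp
        exact ⟨k, mem_centralizer_singleton_iff.1 hk,
          hu.unique v' hv'.1 _ _ (by rw [← hkv, mul_smul, mul_smul, inv_smul_smul, hv.2]) hv'.2⟩
      obtain ⟨k₁, hk₁x, hk₁⟩ := hmove a _ hxa hga'
      have hk₁b : x • (k₁⁻¹ • g⁻¹ • b) = k₁⁻¹ • g⁻¹ • b := by
        rw [smul_smul, ← hk₁x.inv_left.eq, mul_smul, hgb']
      have hne : a ≠ k₁⁻¹ • g⁻¹ • b := fun e => by
        have h3 : g⁻¹ • b = k₁ • a := by rw [e, smul_inv_smul]
        exact hab (smul_left_cancel g⁻¹ (hk₁.symm.trans h3.symm)).symm.symm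
      obtain ⟨k₂, -, hk₂a, hk₂b, hk₂x⟩ := hg.exists_centralising_of_fix hab hne (hPD hx) hk₁b hdvd
      have hd : g * (k₁ * k₂) ∈ (pairStab G a b) := mem_pairStab.2
        ⟨by rw [mul_smul, mul_smul, hk₂a, hk₁, smul_inv_smul],
          by rw [mul_smul, mul_smul, hk₂b, smul_inv_smul, smul_inv_smul]⟩
      have hc : Commute (k₁ * k₂) x := hk₁x.mul_left hk₂x
      have e : g * x * g⁻¹ = g * (k₁ * k₂) * x * (g * (k₁ * k₂))⁻¹ := by
        calc g * x * g⁻¹ = g * (x * (k₁ * k₂)) * (k₁ * k₂)⁻¹ * g⁻¹ := by group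
          _ = _ := by rw [← hc.eq]; group
      rw [← hconjD _ hd x (hPD hx) (e ▸ hPD hgx)]
      congr 1
      exact Subtype.ext e
  -- so `φ` kills `P`
  have hperf : _root_.commutator G = ⊤ := by
    refine (IsSimpleGroup.eq_bot_or_eq_top_of_normal _ inferInstance).resolve_left fun h0 => ?_
    have hcomm : ∀ y z : G, y * z = z * y := fun y z => by
      have hmem := commutator_mem_commutator (mem_top y) (mem_top z)
      rw [← _root_.commutator_def, h0, mem_bot] at hmem
      exact commutatorElement_eq_one_iff_commute.1 hmem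
    obtain ⟨i, hi⟩ := hu.exists_inv a
    exact hab (hu.unique i hi.1 a b hi.2 (by
      have e : i = w * i * w⁻¹ := by rw [hcomm w i, mul_inv_cancel_right]
      rw [e, mul_smul, mul_smul, inv_eq_self_of_orderOf_two hw.1, smul_back hw.1 hw.2, hi.2, hw.2]))
  have hPker : ∀ x, ∀ hx : x ∈ (P : Subgroup G), φ ⟨x, hPD hx⟩ = 1 := by
    intro x hx
    have hfoc : x ∈ (P : Subgroup G).focalSubgroup := by
      rw [← commutator_inf_eq_focalSubgroup P, hperf]
      exact ⟨mem_top _, hx⟩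
    rw [focalSubgroup_def] at hfoc
    suffices ∀ hxD : x ∈ (pairStab G a b), φ ⟨x, hxD⟩ = 1 from this _
    clear hx
    have hleD : ∀ y ∈ Subgroup.closure {g | g ∈ (P : Subgroup G) ∧
        ∃ z ∈ (P : Subgroup G), ∃ u : G, g = ⁅z, u⁆}, y ∈ (pairStab G a b) :=
      fun y hy => (closure_le _).2 (fun g hg => hPD hg.1) hy
    induction hfoc using Subgroup.closure_induction with
    | mem y hy =>
      intro _
      obtain ⟨hyP, z, hz, u, rfl⟩ := hy
      have hu' : u * z⁻¹ * u⁻¹ ∈ (P : Subgroup G) := by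
        have h1 := (P : Subgroup G).mul_mem ((P : Subgroup G).inv_mem hz) hyP
        simpa [commutatorElement_def, mul_assoc] using h1
      have e1 : (⟨⁅z, u⁆, hPD hyP⟩ : (pairStab G a b)) = ⟨z, hPD hz⟩ * ⟨u * z⁻¹ * u⁻¹, hPD hu'⟩ :=
        Subtype.ext (by simp [commutatorElement_def, mul_assoc])
      rw [e1, map_mul, key z⁻¹ u ((P : Subgroup G).inv_mem hz) hu', ← map_mul,
        show (⟨z, hPD hz⟩ : (pairStab G a b)) * ⟨z⁻¹, hPD ((P : Subgroup G).inv_mem hz)⟩ = 1 from
        Subtype.ext (mul_inv_cancel z), map_one]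
    | one => intro _; exact map_one φ
    | mul y z hy hz iy iz =>
      intro _
      exact (map_mul φ ⟨y, hleD y hy⟩ ⟨z, hleD z hz⟩).trans (by rw [iy, iz, one_mul])
    | inv y hy iy =>
      intro _
      exact (map_inv φ ⟨y, hleD y hy⟩).trans (by rw [iy, inv_one])
  -- and so everything
  have hker : ((P : Subgroup G).subgroupOf (pairStab G a b)) ≤ φ.ker := fun y hy => by
    rw [MonoidHom.mem_ker]; exact hPker y hy
  have hidx : ¬ r ∣ ((P : Subgroup G).subgroupOf (pairStab G a b)).index := fun hd =>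
    P.not_dvd_index (hd.trans (relIndex_dvd_index_of_le hPD))
  refine MonoidHom.ext fun y => ?_
  have h1 : φ.ker.index ∣ r := by
    rw [index_ker]
    have h2 := Subgroup.card_subgroup_dvd_card φ.range
    rwa [Nat.card_congr Multiplicative.toAdd, Nat.card_zmod] at h2
  rcases (Nat.dvd_prime Fact.out).1 h1 with h2 | h2
  · rw [index_eq_one] at h2
    rw [MonoidHom.one_apply, ← MonoidHom.mem_ker, h2]
    exact mem_top y
  · exact absurd (h2.symm.dvd.trans (index_dvd_of_le hker)) hidx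

end CfsgLib.BenderWorld
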