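import Cfsg.Agent.S0205
import Cfsg.Agent.OddOrder.BG4.RankTwoSolvable
import Cfsg.Agent.Solvable.Fitting
import Mathlib.GroupTheory.FiniteAbelian.Basic
import Mathlib.GroupTheory.SpecificGroups.Cyclic
import Mathlib.RingTheory.IntegralDomain

/-!
# No common prime without a cyclic quotient

The pure lemma of step 3, case B, of `docs/bender_sliceG_mixed_helper81.md`.  A group `E` of odd
order acts on an abelian group `A` so that every nontrivial element has cyclic fixed group and no
nontrivial normal subgroup has a nontrivial fixed element.  If a prime `r` divides both orders, `E`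
has a quotient of order `r`: `E` is solvable, its Fitting subgroup is of order prime to `r` and of
rank at most two, so the derived group is nilpotent of order prime to `r`.
-/

set_option autoImplicit false

namespace CfsgLib.BenderWorld.Shape

namespace NoPair

universe u v

variable {A : Type u} [CommGroup A] {E : Type v} [Group E] [MulDistribMulAction E A]

/-- The elements killed by `r`. -/
def omega (A : Type u) [CommGroup A] (r : ℕ) : Subgroup A := (powMonoidHom r : A →* A).ker

theorem mem_omega {r : ℕ} {a : A} : a ∈ omega A r ↔ a ^ r = 1 := by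
  simp [omega, MonoidHom.mem_ker]

theorem smul_mem_omega {r : ℕ} (e : E) {a : A} (h : a ∈ omega A r) : e • a ∈ omega A r := by
  rw [mem_omega] at h ⊢
  rw [← smul_pow', h, smul_one]

/-- The elements of `N` fixed by `x`. -/
def fixedIn (N : Subgroup A) (x : E) : Subgroup A where
  carrier := {a | a ∈ N ∧ x • a = a}
  one_mem' := ⟨N.one_mem, smul_one x⟩
  mul_mem' {a b} ha hb := ⟨N.mul_mem ha.1 hb.1, by rw [smul_mul', ha.2, hb.2]⟩
  inv_mem' {a} ha := ⟨N.inv_mem ha.1, by rw [smul_inv', ha.2]⟩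

theorem mem_fixedIn {N : Subgroup A} {x : E} {a : A} :
    a ∈ fixedIn N x ↔ a ∈ N ∧ x • a = a := Iff.rfl

/-- The product over the powers of `x`. -/
def avg (x : E) (n : ℕ) : A →* A where
  toFun a := ∏ i ∈ Finset.range n, x ^ i • a
  map_one' := Finset.prod_eq_one fun i _ => smul_one _
  map_mul' a b := by
    rw [← Finset.prod_mul_distrib]
    exact Finset.prod_congr rfl fun i _ => smul_mul' _ _ _

theorem avg_apply (x : E) (n : ℕ) (a : A) : avg x n a = ∏ i ∈ Finset.range n, x ^ i • a := rfl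

theorem smul_avg {x : E} {n : ℕ} (hx : x ^ n = 1) (a : A) : x • avg x n a = avg x n a := by
  have h1 : x • avg x n a = ∏ i ∈ Finset.range n, x ^ (i + 1) • a := by
    rw [avg_apply, Finset.smul_prod']
    exact Finset.prod_congr rfl fun i _ => by rw [← mul_smul, ← pow_succ']
  have h2 := Finset.prod_range_succ' (fun i => x ^ i • a) n
  have h3 := Finset.prod_range_succ (fun i => x ^ i • a) n
  rw [h1, avg_apply]
  rw [h3, hx, pow_zero] at h2
  exact (mul_right_cancel h2).symm

theorem avg_of_fixed {x : E} {n : ℕ} {a : A} (h : x • a = a) : avg x n a = a ^ n := by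
  have : ∀ i : ℕ, x ^ i • a = a := fun i => by
    induction i with
    | zero => rw [pow_zero, one_smul]
    | succ i ih => rw [pow_succ, mul_smul, h, ih]
  rw [avg_apply, Finset.prod_congr rfl fun i _ => this i]
  simp

theorem avg_mem {x : E} {n : ℕ} {N : Subgroup A} (hN : ∀ a ∈ N, x • a ∈ N) {a : A} (ha : a ∈ N) :
    avg x n a ∈ N := by
  have : ∀ i : ℕ, x ^ i • a ∈ N := fun i => by
    induction i with
    | zero => simpa using ha
    | succ i ih => rw [pow_succ', mul_smul]; exact hN _ ih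
  rw [avg_apply]
  exact Subgroup.prod_mem N fun i _ => this i

theorem smul_avg_comm {x y : E} (h : Commute y x) (n : ℕ) (a : A) :
    y • avg x n a = avg x n (y • a) := by
  rw [avg_apply, avg_apply, Finset.smul_prod']
  exact Finset.prod_congr rfl fun i _ => by rw [← mul_smul, ← mul_smul, (h.pow_right i).eq]

theorem eq_one_of_pow {p r : ℕ} (hp : p.Prime) (hr : r.Prime) (hne : p ≠ r) {a : A}
    (h1 : a ^ p = 1) (h2 : a ^ r = 1) : a = 1 := by
  rw [← orderOf_eq_one_iff]
  exact Nat.eq_one_of_dvd_coprimes ((Nat.coprime_primes hp hr).2 hne)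
    (orderOf_dvd_of_pow_eq_one h1) (orderOf_dvd_of_pow_eq_one h2)

/-- A noncyclic elementary abelian group of coprime exponent fixes something in every nontrivial
invariant subgroup of the elements killed by `r`. -/
theorem exists_fixed {p r : ℕ} (hp : p.Prime) (hr : r.Prime) (hne : p ≠ r) {V : Subgroup E}
    (hcomm : ∀ a ∈ V, ∀ b ∈ V, Commute a b) (hexp : ∀ a ∈ V, a ^ p = 1) {j k : E} (hj : j ∈ V)
    (hk : k ∈ V) (hk1 : k ≠ 1) (hjk : j ∉ Subgroup.zpowers k) {N : Subgroup A}
    (hN : ∀ x ∈ V, ∀ a ∈ N, x • a ∈ N) (hNr : ∀ a ∈ N, a ^ r = 1) {a : A} (ha : a ∈ N)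
    (ha1 : a ≠ 1) : ∃ x ∈ V, x ≠ 1 ∧ ∃ b ∈ N, b ≠ 1 ∧ x • b = b := by
  by_contra hcon
  push Not at hcon
  have hav : ∀ x ∈ V, x ≠ 1 → ∀ b ∈ N, avg x p b = 1 := by
    intro x hx hx1 b hb
    by_contra hb'
    exact hcon x hx hx1 _ (avg_mem (hN x hx) hb) hb' (smul_avg (hexp x hx) b)
  have hord : orderOf k = p := by
    rcases (Nat.dvd_prime hp).1 (orderOf_dvd_of_pow_eq_one (hexp k hk)) with h | h
    · exact absurd (orderOf_eq_one_iff.1 h) hk1
    · exact h
  have hprod : ∏ m ∈ Finset.range p, avg (j * k ^ m) p a = 1 :=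
    Finset.prod_eq_one fun m _ => hav _ (mul_mem hj (pow_mem hk m)) (fun h => hjk (by
      rw [eq_inv_of_mul_eq_one_left h]
      exact inv_mem (Subgroup.npow_mem_zpowers k m))) a ha
  simp only [avg_apply] at hprod
  rw [Finset.prod_comm] at hprod
  have hrest : ∀ i ∈ Finset.range p, i ≠ 0 →
      ∏ m ∈ Finset.range p, (j * k ^ m) ^ i • a = 1 := by
    intro i hi hi0
    have hki : k ^ i ≠ 1 := fun h => hi0 (Nat.eq_zero_of_dvd_of_lt
      (hord ▸ orderOf_dvd_of_pow_eq_one h) (Finset.mem_range.1 hi))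
    have : ∀ m : ℕ, (j * k ^ m) ^ i • a = j ^ i • ((k ^ i) ^ m • a) := fun m => by
      rw [((hcomm j hj k hk).pow_right m).mul_pow, ← pow_mul, ← pow_mul, mul_comm m i, mul_smul]
    rw [Finset.prod_congr rfl fun m _ => this m, ← Finset.smul_prod', ← avg_apply,
      hav _ (pow_mem hk i) hki a ha, smul_one]
  rw [Finset.prod_eq_single_of_mem 0 (Finset.mem_range.2 hp.pos) hrest] at hprod
  simp only [pow_zero, one_smul, Finset.prod_const, Finset.card_range] at hprod
  exact ha1 (eq_one_of_pow hp hr hne hprod (hNr a ha))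

/-- The restriction of an invariant action to a subgroup of `A`. -/
def toMulAut (V : Subgroup E) (L : Subgroup A) (hL : ∀ x ∈ V, ∀ a ∈ L, x • a ∈ L) :
    V →* MulAut L where
  toFun x :=
    { toFun := fun a => ⟨(x : E) • (a : A), hL x x.2 a a.2⟩
      invFun := fun a => ⟨(x : E)⁻¹ • (a : A), hL _ (inv_mem x.2) a a.2⟩
      left_inv := fun _ => Subtype.ext (inv_smul_smul _ _)
      right_inv := fun _ => Subtype.ext (smul_inv_smul _ _)
      map_mul' := fun _ _ => Subtype.ext (smul_mul' _ _ _) }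
  map_one' := MulEquiv.ext fun _ => Subtype.ext (one_smul _ _)
  map_mul' _ _ := MulEquiv.ext fun _ => Subtype.ext (mul_smul _ _ _)

theorem toMulAut_apply {V : Subgroup E} {L : Subgroup A} {hL : ∀ x ∈ V, ∀ a ∈ L, x • a ∈ L}
    (x : V) (a : L) : ((toMulAut V L hL x a : L) : A) = (x : E) • (a : A) := rfl

/-- A cyclic group of exponent `p` has at most `p` elements. -/
theorem card_le_of_isCyclic {G : Type*} [Group G] [IsCyclic G] {p : ℕ} (hp : 0 < p)
    (h : ∀ g : G, g ^ p = 1) : Nat.card G ≤ p :=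
  Nat.le_of_dvd hp (IsCyclic.exponent_eq_card (α := G) ▸ Monoid.exponent_dvd_of_forall_pow_eq_one h)

variable [Finite A]

/-- A cyclic subgroup killed by a prime is trivial or of that order. -/
theorem card_eq_of_ne_one {r : ℕ} (hr : r.Prime) {S : Subgroup A} [IsCyclic S]
    (hS : ∀ a ∈ S, a ^ r = 1) {a : A} (ha : a ∈ S) (ha1 : a ≠ 1) : Nat.card S = r := by
  refine le_antisymm (card_le_of_isCyclic hr.pos fun g => Subtype.ext (by
    simpa using hS g g.2)) (Nat.le_of_dvd Nat.card_pos ?_)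
  have := Fact.mk hr
  rw [← orderOf_eq_prime (hS a ha) ha1]
  exact Subgroup.orderOf_dvd_natCard S ha

omit [Finite A] in
theorem isCyclic_mulAut {r : ℕ} [Fact r.Prime] {L : Subgroup A} (hL : Nat.card L = r) :
    IsCyclic (MulAut L) := by
  have : IsCyclic L := isCyclic_of_prime_card (p := r) hL
  have : IsCyclic (ZMod (Nat.card L))ˣ := by rw [hL]; infer_instance
  exact isCyclic_of_injective (IsCyclic.mulAutMulEquiv L).toMonoidHom
    (IsCyclic.mulAutMulEquiv L).injective

variable [Finite E]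

/-- An element of order `r` fixes an invariant subgroup of order `r` pointwise. -/
theorem smul_eq_of_card {r : ℕ} [hr : Fact r.Prime] {L : Subgroup A} (hL : Nat.card L = r) {g : E}
    (hg : g ^ r = 1) (hinv : ∀ a ∈ L, g • a ∈ L) {a : A} (ha : a ∈ L) : g • a = a := by
  have hinv' : ∀ x ∈ Subgroup.zpowers g, ∀ b ∈ L, x • b ∈ L := by
    intro x hx
    obtain ⟨n, rfl⟩ := (mem_powers_iff_mem_zpowers).2 hx
    induction n with
    | zero => exact fun b hb => by simpa using hb
    | succ n ih =>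
      exact fun b hb => by
        show g ^ (n + 1) • b ∈ L
        rw [pow_succ', mul_smul]
        exact hinv _ (ih (Subgroup.npow_mem_zpowers g n) b hb)
  let _ := MulAction.compHom L (toMulAut _ L hinv' : Subgroup.zpowers g →* MulAut L)
  have hpg : IsPGroup r (Subgroup.zpowers g) := fun x => ⟨1, Subtype.ext (by
    obtain ⟨n, hn⟩ := (mem_powers_iff_mem_zpowers).2 x.2
    show ((x : E)) ^ r ^ 1 = 1
    rw [← hn, pow_one]
    show (g ^ n) ^ r = 1
    rw [← pow_mul, mul_comm, pow_mul, hg, one_pow])⟩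
  have h1 : (1 : L) ∈ MulAction.fixedPoints (Subgroup.zpowers g) L := fun x =>
    map_one (toMulAut _ L hinv' x)
  obtain ⟨b, hb, hb1⟩ :=
    hpg.exists_fixed_point_of_prime_dvd_card_of_fixed_point L (hL ▸ dvd_rfl) h1
  have : IsCyclic L := isCyclic_of_prime_card (p := r) hL
  have hbA : g • (b : A) = b :=
    congrArg Subtype.val (hb ⟨g, Subgroup.mem_zpowers g⟩)
  have hab : (⟨a, ha⟩ : L) ∈ Subgroup.zpowers b :=
    mem_zpowers_of_prime_card (p := r) hL (Ne.symm hb1)
  obtain ⟨n, hn⟩ := Subgroup.mem_zpowers_iff.1 hab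
  have hn' : (b : A) ^ n = a := by simpa using congrArg Subtype.val hn
  rw [← hn', smul_zpow', hbA]

/-- The pointwise stabiliser of an invariant subgroup. -/
def fixer (N : Subgroup A) : Subgroup E where
  carrier := {e | ∀ a ∈ N, e • a = a}
  one_mem' a _ := one_smul E a
  mul_mem' {e f} he hf a ha := by rw [mul_smul, hf a ha, he a ha]
  inv_mem' {e} he a ha := by
    rw [inv_smul_eq_iff, he a ha]

omit [Finite A] [Finite E] in
theorem fixer_normal {N : Subgroup A} (hN : ∀ e : E, ∀ a ∈ N, e • a ∈ N) :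
    (fixer (E := E) N).Normal :=
  ⟨fun e he f a ha => by rw [mul_smul, mul_smul, he _ (hN f⁻¹ a ha), smul_inv_smul]⟩

variable (free : ∀ Y : Subgroup E, Y.Normal → Y ≠ ⊥ → ∀ a : A, (∀ y ∈ Y, y • a = a) → a = 1)
  {r : ℕ} [hr : Fact r.Prime] (hrA : r ∣ Nat.card A)

include free hrA

omit [Finite E] in
/-- A normal `r`-subgroup is trivial. -/
theorem eq_bot_of_isPGroup {Y : Subgroup E} (hY : Y.Normal) (hYp : IsPGroup r Y) : Y = ⊥ := by
  by_contra hne
  have h1 : (1 : A) ∈ MulAction.fixedPoints Y A := fun y => smul_one (y : E)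
  obtain ⟨b, hb, hb1⟩ := hYp.exists_fixed_point_of_prime_dvd_card_of_fixed_point A hrA h1
  exact hb1 (free Y hY hne b fun y hy => hb ⟨y, hy⟩).symm

/-- A normal nilpotent subgroup has order prime to `r`. -/
theorem not_dvd_of_isNilpotent {N : Subgroup E} [N.Normal] (hN : Group.IsNilpotent N) :
    ¬ r ∣ Nat.card N := by
  intro hd
  obtain ⟨P⟩ : Nonempty (Sylow r N) := inferInstance
  have htfae := (Group.isNilpotent_of_finite_tfae (G := N)).out 0 3
  have : (P : Subgroup N).Normal := htfae.mp hN r hr P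
  have : (P : Subgroup N).Characteristic := P.characteristic_of_normal ‹_›
  have h := eq_bot_of_isPGroup free hrA
    (Y := (P : Subgroup N).map N.subtype) inferInstance (P.isPGroup'.map _)
  rw [Subgroup.map_eq_bot_iff_of_injective _ N.subtype_injective] at h
  exact P.ne_bot_of_dvd_card hd h

/-- The elements killed by `r` are not cyclic when `r` divides the order of `E`. -/
theorem not_isCyclic_omega (hrE : r ∣ Nat.card E) : ¬ IsCyclic (omega A r) := by
  intro hc
  obtain ⟨a, ha⟩ := exists_prime_orderOf_dvd_card' (G := A) r hrA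
  have haΩ : a ∈ omega A r := mem_omega.2 (by rw [← ha]; exact pow_orderOf_eq_one a)
  have ha1 : a ≠ 1 := fun h => hr.out.ne_one (by rw [← ha, h, orderOf_one])
  have hcard := card_eq_of_ne_one hr.out (S := omega A r) (fun b hb => mem_omega.1 hb) haΩ ha1
  obtain ⟨g, hg⟩ := exists_prime_orderOf_dvd_card' (G := E) r hrE
  have hgfix : g ∈ fixer (E := E) (omega A r) := fun b hb =>
    smul_eq_of_card hcard (by rw [← hg]; exact pow_orderOf_eq_one g)
      (fun _ => smul_mem_omega g) hb
  have hne : fixer (E := E) (omega A r) ≠ ⊥ := fun h => by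
    rw [h, Subgroup.mem_bot] at hgfix
    exact hr.out.ne_one (by rw [← hg, hgfix, orderOf_one])
  exact ha1 (free _ (fixer_normal fun e _ => smul_mem_omega e) hne a fun y hy => hy a haΩ)

variable (cyc : ∀ x : E, x ≠ 1 → ∀ S : Subgroup A, (∀ a ∈ S, x • a = a) → IsCyclic S)

include cyc

/-- No elementary abelian group of order `p ^ 3`, `p ≠ r`. -/
theorem pRankLE_two (hrE : r ∣ Nat.card E) {p : ℕ} (hp : p.Prime) (hne : p ≠ r) :
    Cfsg.PRankLE p 2 E := by
  intro V hVc hexp
  have := Fact.mk hp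
  have hcomm : ∀ a ∈ V, ∀ b ∈ V, Commute a b := fun a ha b hb =>
    congrArg Subtype.val (mul_comm' (⟨a, ha⟩ : V) ⟨b, hb⟩)
  by_contra hbig
  push Not at hbig
  -- two independent generators
  have hVne : V ≠ ⊥ := fun h => by
    rw [h, Subgroup.card_bot] at hbig
    exact absurd (Nat.one_le_pow 2 p hp.pos) hbig.not_ge
  obtain ⟨k, hk, hk1⟩ : ∃ k ∈ V, k ≠ 1 := by
    obtain ⟨k, hk⟩ := Subgroup.ne_bot_iff_exists_ne_one.1 hVne
    exact ⟨k, k.2, fun h => hk (Subtype.ext h)⟩
  have hordk : orderOf k = p := orderOf_eq_prime (hexp k hk) hk1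
  obtain ⟨j, hj, hjk⟩ : ∃ j ∈ V, j ∉ Subgroup.zpowers k := by
    by_contra h
    push Not at h
    have h2 := Nat.le_of_dvd Nat.card_pos (Subgroup.card_dvd_of_le (H := V) h)
    rw [Nat.card_zpowers, hordk] at h2
    exact absurd h2 (not_le.2 (lt_of_le_of_lt (Nat.le_self_pow two_ne_zero p) hbig))
  have hΩV : ∀ x ∈ V, ∀ a ∈ omega A r, x • a ∈ omega A r := fun x _ _ => smul_mem_omega x
  have hfixinv : ∀ x ∈ V, ∀ y ∈ V, ∀ a ∈ fixedIn (omega A r) y, x • a ∈ fixedIn (omega A r) y :=
    fun x hx y hy a ha => ⟨hΩV x hx a ha.1,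
      by rw [← mul_smul, (hcomm y hy x hx).eq, mul_smul, ha.2]⟩
  -- the first line
  obtain ⟨a, ha⟩ := exists_prime_orderOf_dvd_card' (G := A) r hrA
  obtain ⟨x₁, hx₁, hx₁1, b₁, hb₁, hb₁1, hfix₁⟩ := exists_fixed hp hr.out hne hcomm hexp hj hk hk1
    hjk (N := omega A r) hΩV (fun c hc => mem_omega.1 hc) (a := a)
    (mem_omega.2 (by rw [← ha]; exact pow_orderOf_eq_one a))
    (fun h => hr.out.ne_one (by rw [← ha, h, orderOf_one]))
  set L₁ := fixedIn (omega A r) x₁ with hL₁
  have : IsCyclic L₁ := cyc x₁ hx₁1 L₁ fun c hc => hc.2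
  have hc₁ : Nat.card L₁ = r :=
    card_eq_of_ne_one hr.out (fun c hc => mem_omega.1 hc.1) ⟨hb₁, hfix₁⟩ hb₁1
  -- the second one, in the kernel of the projection
  set N := omega A r ⊓ (avg x₁ p : A →* A).ker with hN
  have hNinv : ∀ x ∈ V, ∀ c ∈ N, x • c ∈ N := fun x hx c hc => by
    rw [hN, Subgroup.mem_inf, MonoidHom.mem_ker] at hc ⊢
    exact ⟨hΩV x hx c hc.1, by rw [← smul_avg_comm (hcomm x hx x₁ hx₁), hc.2, smul_one]⟩
  obtain ⟨c, hcN, hc1⟩ : ∃ c ∈ N, c ≠ 1 := by
    by_contra h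
    push Not at h
    have hmem : ∀ d : omega A r, avg x₁ p (d : A) ∈ L₁ := fun d =>
      ⟨avg_mem (hΩV x₁ hx₁) d.2, smul_avg (hexp x₁ hx₁) _⟩
    let f : omega A r →* L₁ := ((avg x₁ p).comp (omega A r).subtype).codRestrict L₁ hmem
    have hf : Function.Injective f := (injective_iff_map_eq_one f).2 fun d hd =>
      Subtype.ext (h d ⟨d.2, congrArg Subtype.val hd⟩)
    exact not_isCyclic_omega free hrA hrE (isCyclic_of_injective f hf)
  obtain ⟨x₂, hx₂, hx₂1, b₂, hb₂, hb₂1, hfix₂⟩ := exists_fixed hp hr.out hne hcomm hexp hj hk hk1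
    hjk (N := N) hNinv (fun d hd => mem_omega.1 hd.1) hcN hc1
  set L₂ := fixedIn (omega A r) x₂ with hL₂
  have : IsCyclic L₂ := cyc x₂ hx₂1 L₂ fun c hc => hc.2
  have hc₂ : Nat.card L₂ = r :=
    card_eq_of_ne_one hr.out (fun c hc => mem_omega.1 hc.1) ⟨hb₂.1, hfix₂⟩ hb₂1
  have hb₂L : b₂ ∉ L₁ := fun h => hb₂1 (eq_one_of_pow hp hr.out hne
    (by rw [← avg_of_fixed (n := p) h.2]; exact hb₂.2) (mem_omega.1 h.1))
  -- `V` embeds in the automorphism groups of the two lines
  set f₁ := toMulAut V L₁ (fun x hx => hfixinv x hx x₁ hx₁) with hf₁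
  set f₂ := toMulAut V L₂ (fun x hx => hfixinv x hx x₂ hx₂) with hf₂
  have hinj : Function.Injective (f₁.rangeRestrict.prod f₂.rangeRestrict) := by
    refine (injective_iff_map_eq_one _).2 fun x hx => Subtype.ext ?_
    by_contra hx1
    have e₁ : f₁ x = 1 := congrArg (fun q => ((Prod.fst q : f₁.range) : MulAut L₁)) hx
    have e₂ : f₂ x = 1 := congrArg (fun q => ((Prod.snd q : f₂.range) : MulAut L₂)) hx
    set S := fixedIn (omega A r) (x : E) with hS
    have : IsCyclic S := cyc x hx1 S fun d hd => hd.2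
    have h1 : ∀ d ∈ L₁, d ∈ S := fun d hd => ⟨hd.1, by
      simpa [hf₁, toMulAut_apply] using
        congrArg (fun φ : MulAut L₁ => ((φ ⟨d, hd⟩ : L₁) : A)) e₁⟩
    have h2 : b₂ ∈ S := ⟨hb₂.1, by
      simpa [hf₂, toMulAut_apply] using
        congrArg (fun φ : MulAut L₂ => ((φ ⟨b₂, hb₂.1, hfix₂⟩ : L₂) : A)) e₂⟩
    have hSr : Nat.card S = r := card_eq_of_ne_one hr.out (fun d hd => mem_omega.1 hd.1) h2 hb₂1
    exact hb₂L (Subgroup.eq_of_le_of_card_ge h1 (hSr.le.trans hc₁.ge) ▸ h2)
  have := isCyclic_mulAut hc₁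
  have := isCyclic_mulAut hc₂
  have hle₁ : Nat.card f₁.range ≤ p := card_le_of_isCyclic hp.pos fun g => by
    obtain ⟨_, x, rfl⟩ := g
    exact Subtype.ext (by
      show f₁ x ^ p = 1
      rw [← map_pow, show x ^ p = 1 from Subtype.ext (hexp x x.2), map_one])
  have hle₂ : Nat.card f₂.range ≤ p := card_le_of_isCyclic hp.pos fun g => by
    obtain ⟨_, x, rfl⟩ := g
    exact Subtype.ext (by
      show f₂ x ^ p = 1
      rw [← map_pow, show x ^ p = 1 from Subtype.ext (hexp x x.2), map_one])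
  have h := (Nat.card_le_card_of_injective _ hinj).trans_eq (Nat.card_prod _ _)
  exact absurd (h.trans (Nat.mul_le_mul hle₁ hle₂)) (by rw [← pow_two]; exact not_le.2 hbig)

end NoPair

universe u v

/-- A finite commutative group has a quotient of every prime order dividing its order. -/
theorem exists_hom_zmod {Q : Type v} [CommGroup Q] [Finite Q] {r : ℕ} (hr : r.Prime)
    (h : r ∣ Nat.card Q) : ∃ φ : Q →* Multiplicative (ZMod r), φ ≠ 1 := by
  classical
  obtain ⟨ι, _, n, hn, ⟨e⟩⟩ := CommGroup.equiv_prod_multiplicative_zmod_of_finite Q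
  have hc : Nat.card Q = ∏ i, n i := by
    rw [Nat.card_congr e.toEquiv, Nat.card_pi]
    exact Finset.prod_congr rfl fun i _ => Nat.card_zmod (n i)
  obtain ⟨i, -, hi⟩ := hr.prime.exists_mem_finset_dvd (hc ▸ h)
  refine ⟨((AddMonoidHom.toMultiplicative (ZMod.castHom hi (ZMod r)).toAddMonoidHom).comp
    (Pi.evalMonoidHom (fun i => Multiplicative (ZMod (n i))) i)).comp e.toMonoidHom, fun h1 => ?_⟩
  have := Fact.mk hr
  have h2 := DFunLike.congr_fun h1 (e.symm (Pi.mulSingle i (Multiplicative.ofAdd 1)))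
  simp only [MonoidHom.coe_comp, Function.comp_apply, MulEquiv.coe_toMonoidHom,
    MulEquiv.apply_symm_apply, Pi.evalMonoidHom_apply, Pi.mulSingle_eq_same] at h2
  exact one_ne_zero (map_one (ZMod.castHom hi (ZMod r)) ▸ congrArg Multiplicative.toAdd h2)

/-- Step 3, case B: a common prime `r` of `|A|` and `|E|` gives a quotient of `E` of order `r`. -/
theorem no_pair {A : Type u} [CommGroup A] [Finite A] {E : Type v} [Group E] [Finite E]
    [MulDistribMulAction E A] (oddE : Odd (Nat.card E))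
    (cyc : ∀ x : E, x ≠ 1 → ∀ S : Subgroup A, (∀ a ∈ S, x • a = a) → IsCyclic S)
    (free : ∀ Y : Subgroup E, Y.Normal → Y ≠ ⊥ → ∀ a : A, (∀ y ∈ Y, y • a = a) → a = 1)
    {r : ℕ} (hr : r.Prime) (hrA : r ∣ Nat.card A) (hrE : r ∣ Nat.card E)
    (noq : ∀ φ : E →* Multiplicative (ZMod r), φ = 1) : False := by
  have := Fact.mk hr
  have : Group.IsSolvable E := Cfsg.Agent.S0205.result oddE
  have : (Cfsg.fittingSubgroup E).Normal := Solvable.fittingSubgroup_normal
  have hrF : ¬ r ∣ Nat.card (Cfsg.fittingSubgroup E) :=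
    NoPair.not_dvd_of_isNilpotent free hrA Solvable.fittingSubgroup_isNilpotent
  have hrank : Cfsg.RankLE 2 (Cfsg.fittingSubgroup E) := by
    intro p hp
    have := Fact.mk hp
    by_cases hpr : p = r
    · subst hpr
      intro X _ hX
      obtain ⟨n, hn⟩ := IsPGroup.iff_card.1
        (show IsPGroup p X from fun x => ⟨1, Subtype.ext (by simpa using hX x x.2)⟩)
      rcases Nat.eq_zero_or_pos n with rfl | hn0
      · rw [hn, pow_zero]
        exact Nat.one_le_pow _ _ hp.pos
      · exact absurd ((dvd_pow_self p hn0.ne').trans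
          (hn ▸ Subgroup.card_subgroup_dvd_card X)) hrF
    · exact OddOrder.BG4.pRankLE_subgroup _ (NoPair.pRankLE_two free hrA cyc hrE hp hpr)
  have hnil := OddOrder.BG4.isNilpotent_commutator_of_rank_two oddE (Or.inr hrank)
  have hrC : ¬ r ∣ Nat.card (commutator E) := NoPair.not_dvd_of_isNilpotent free hrA hnil
  have hrQ : r ∣ Nat.card (Abelianization E) := by
    rw [Subgroup.card_eq_card_quotient_mul_card_subgroup (commutator E)] at hrE
    exact (hr.dvd_mul.1 hrE).resolve_right hrC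
  obtain ⟨φ, hφ⟩ := exists_hom_zmod hr hrQ
  refine hφ (Abelianization.hom_ext _ _ ?_)
  rw [noq (φ.comp Abelianization.of)]
  rfl

end CfsgLib.BenderWorld.Shape
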