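import Cfsg.Agent.BenderWorld.Shape.Basic
import Cfsg.Agent.BenderWorld.Shape.NoPair
import Cfsg.Agent.S0205
import Cfsg.Agent.Solvable.Fitting
import Mathlib.FieldTheory.Fixed
import Mathlib.Algebra.CharP.Frobenius
import Mathlib.RingTheory.IntegralDomain
import Mathlib.FieldTheory.Finite.Basic

/-!
# A bad element makes `D` a Frobenius group `A : r`

Step 6 of `docs/bender_sliceG_mixed_helper81.md`.  The involutions of `H` commute and `D` acts
faithfully on the group `V` they form with `1`.  If an element `x` of prime order `r` of `C_D(t)`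
centralises only `t` among them, an inverted normal subgroup `⟨y⟩` of prime order spans a field in
`End V` on which `x` induces an automorphism with fixed field of order two: `|V| = 2 ^ r`,
the centraliser `A` of `y` is semiregular and `D = A : ⟨x⟩`.
-/

set_option autoImplicit false

namespace CfsgLib.BenderWorld.Shape

namespace BadPrime

open scoped IsMulCommutative

universe u v

section Ring

variable {B : Type v} [CommRing B] [Finite B] [Nontrivial B] {r : ℕ}

/-- A finite reduced ring with an automorphism of prime order fixing only `0` and `1` is a field or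
has a component with two elements. -/
theorem isField (hred : ∀ b : B, ∃ k, 1 < k ∧ b ^ k = b) (hr : r.Prime) (σ : RingAut B)
    (hσ : σ ^ r = 1) (hfix : ∀ b, σ b = b → b = 0 ∨ b = 1)
    (hno : ∀ e : B, e * e = e → e ≠ 0 → ∃ b, e * b ≠ 0 ∧ e * b ≠ e) : IsField B := by
  classical
  have hidem : ∀ f : B, f * f = f → f = 0 ∨ f = 1 := by
    by_contra hcon
    push Not at hcon
    obtain ⟨f₀, hf₀, hf0, hf1⟩ := hcon
    obtain ⟨e, ⟨he, he0⟩, hmin⟩ := Set.exists_min_image {f : B | f * f = f ∧ f ≠ 0}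
      (fun f => Nat.card {b : B // f * b = b}) (Set.toFinite _) ⟨f₀, hf₀, hf0⟩
    -- `e` is a minimal idempotent
    have hle : ∀ f : B, f * f = f → e * f = 0 ∨ e * f = e := by
      intro f hf
      by_contra h
      push Not at h
      have hef : e * f * (e * f) = e * f := by rw [mul_mul_mul_comm, he, hf]
      have h1 := hmin _ ⟨hef, h.1⟩
      have hsub : ∀ b : B, e * f * b = b → e * b = b := fun b hb => by
        rw [← hb, ← mul_assoc, ← mul_assoc, he]
      let g : {b : B // e * f * b = b} → {b : B // e * b = b} := fun b => ⟨b.1, hsub b.1 b.2⟩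
      have hinj : Function.Injective g := fun a b hab => by
        have h := congrArg Subtype.val hab
        exact Subtype.ext h
      have hs : Function.Surjective g :=
        ((Nat.bijective_iff_injective_and_card _).2
          ⟨hinj, le_antisymm (Nat.card_le_card_of_injective _ hinj) h1⟩).2
      obtain ⟨⟨b, hb⟩, hbe⟩ := hs ⟨e, he⟩
      have hbe : b = e := congrArg Subtype.val hbe
      rw [hbe] at hb
      rw [mul_comm e f, mul_assoc, he] at hb
      exact h.2 (by rw [mul_comm e f]; exact hb)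
    -- all conjugates of `e` differ from `e`
    have hσe : σ e ≠ e := by
      intro h
      rcases hfix e h with h' | h'
      · exact he0 h'
      · rcases hle f₀ hf₀ with h2 | h2
        · rw [h', one_mul] at h2; exact hf0 h2
        · rw [h', one_mul] at h2; exact hf1 h2
    have hpow : ∀ i, ∀ b, (σ ^ i) b = b → ∀ m, ((σ ^ i) ^ m) b = b := by
      intro i b hb m
      induction m with
      | zero => simp
      | succ m ih => rw [pow_succ, RingAut.mul_apply, hb, ih]
    have horth : ∀ i ∈ Finset.range r, i ≠ 0 → e * (σ ^ i) e = 0 := by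
      intro i hi hi0
      rcases hle ((σ ^ i) e) (by rw [← map_mul, he]) with h | h
      · exact h
      · exfalso
        have h2 := hmin
        -- then `(σ ^ i) e = e`
        have h3 : (σ ^ i) e = e := by
          obtain ⟨m, hm⟩ : ∃ m : ℕ, (σ ^ i) ^ m * σ ^ i = 1 := by
            refine ⟨r - 1, ?_⟩
            rw [← pow_succ, Nat.sub_add_cancel hr.pos, ← pow_mul, mul_comm, pow_mul, hσ, one_pow]
          rcases hle ((((σ ^ i) ^ m)) e) (by rw [← map_mul, he]) with h4 | h4
          · have h5 := congrArg (σ ^ i) h4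
            rw [map_mul, map_zero, ← RingAut.mul_apply, ← pow_succ', pow_succ, hm,
              RingAut.one_apply, mul_comm, h] at h5
            exact absurd h5 he0
          · have h5 := congrArg (σ ^ i) h4
            rw [map_mul, ← RingAut.mul_apply, ← pow_succ', pow_succ, hm, RingAut.one_apply,
              mul_comm, h] at h5
            exact h5.symm
        have hcop : i.Coprime r := ((Nat.coprime_comm).1 (hr.coprime_iff_not_dvd.2 fun hd =>
          hi0 (Nat.eq_zero_of_dvd_of_lt hd (Finset.mem_range.1 hi))))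
        have hso : orderOf σ = r := orderOf_eq_prime (hp := ⟨hr⟩) hσ fun h1 => hσe (by
          rw [h1, RingAut.one_apply])
        obtain ⟨m, hm⟩ := exists_pow_eq_self_of_coprime (x := σ) (hso.symm ▸ hcop)
        exact hσe (by have := hpow i e h3 m; rwa [hm] at this)
    -- the orbit sums
    set T : B → B := fun b => ∑ i ∈ Finset.range r, (σ ^ i) b with hT
    have hTfix : ∀ b, σ (T b) = T b := fun b => by
      have h2 := Finset.sum_range_succ' (fun i => (σ ^ i) b) r
      have h3 := Finset.sum_range_succ (fun i => (σ ^ i) b) r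
      rw [h3, hσ, pow_zero] at h2
      simp only [hT, map_sum, ← RingAut.mul_apply, ← pow_succ']
      exact (add_right_cancel h2).symm
    have hTe : ∀ b, e * T (e * b) = e * b := fun b => by
      simp only [hT, Finset.mul_sum]
      rw [Finset.sum_eq_single_of_mem 0 (Finset.mem_range.2 hr.pos) (fun i hi hi0 => by
        rw [map_mul, ← mul_assoc, horth i hi hi0, zero_mul])]
      rw [pow_zero, RingAut.one_apply, ← mul_assoc, he]
    obtain ⟨b, hb0, hb1⟩ := hno e he he0
    rcases hfix _ (hTfix (e * b)) with h | h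
    · exact hb0 (by rw [← hTe b, h, mul_zero])
    · exact hb1 (by rw [← hTe b, h, mul_one])
  refine { exists_pair_ne := exists_pair_ne B, mul_comm := mul_comm, mul_inv_cancel := ?_ }
  intro b hb
  obtain ⟨k, hk, hbk⟩ := hred b
  have hk2 : k = k - 2 + 2 := by omega
  have hee : b ^ (k - 1) * b ^ (k - 1) = b ^ (k - 1) := by
    rw [← pow_add, show k - 1 + (k - 1) = k + (k - 2) by omega, pow_add, hbk, ← pow_succ']
    congr 1
    omega
  rcases hidem _ hee with h | h
  · exact absurd (by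
      rw [← hbk, show k = k - 1 + 1 by omega, pow_succ, h, zero_mul]) hb
  · exact ⟨b ^ (k - 2), by rw [← pow_succ', show k - 2 + 1 = k - 1 by omega, h]⟩

/-- A finite field with an automorphism of prime order `r` fixing only `0` and `1` has `2 ^ r`
elements and `r` automorphisms. -/
theorem card_field {K : Type v} [Field K] [Finite K] (hr : r.Prime) (σ : RingAut K)
    (hσ : σ ^ r = 1) (hσ1 : σ ≠ 1) (hfix : ∀ b, σ b = b → b = 0 ∨ b = 1) :
    Nat.card K = 2 ^ r ∧ Nat.card (RingAut K) = r := by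
  classical
  have : Finite (RingAut K) := Finite.of_injective (fun f => (f : K → K)) DFunLike.coe_injective
  have key : ∀ G : Subgroup (RingAut K), σ ∈ G → Nat.card K = 2 ^ Nat.card G := by
    intro G hG
    have : Fintype G := Fintype.ofFinite G
    have : FaithfulSMul G K :=
      ⟨fun {g g'} h => Subtype.ext (RingEquiv.ext fun a => h a)⟩
    rw [Module.natCard_eq_pow_finrank (K := FixedPoints.subfield G K) (V := K),
      FixedPoints.finrank_eq_card, Nat.card_eq_fintype_card (α := G)]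
    congr 1
    have : (FixedPoints.subfield G K : Set K) = {0, 1} := by
      ext a
      refine ⟨fun ha => hfix a (ha ⟨σ, hG⟩), ?_⟩
      rintro (rfl | rfl)
      · exact zero_mem (FixedPoints.subfield G K)
      · exact one_mem (FixedPoints.subfield G K)
    rw [← SetLike.coe_sort_coe, Nat.card_coe_set_eq, this, Set.ncard_pair zero_ne_one]
  have h1 := key (Subgroup.zpowers σ) (Subgroup.mem_zpowers σ)
  rw [Nat.card_zpowers, orderOf_eq_prime (hp := ⟨hr⟩) hσ hσ1] at h1
  have h2 := key ⊤ (Subgroup.mem_top σ)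
  rw [Subgroup.card_top] at h2
  exact ⟨h1, Nat.pow_right_injective le_rfl (h2.symm.trans h1)⟩

end Ring

section Module

variable {D : Type u} [Group D] {V : Type v} [AddCommGroup V] (ρ : D →* AddMonoid.End V)

theorem rho_mul_apply (a b : D) (u : V) : ρ (a * b) u = ρ a (ρ b u) := by
  rw [map_mul]; rfl

theorem rho_one_apply (u : V) : ρ 1 u = u := by
  rw [map_one]; rfl

/-- Conjugation by the image of `d`. -/
def conjEnd (d : D) : AddMonoid.End V →+* AddMonoid.End V where
  toFun f := ρ d * f * ρ d⁻¹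
  map_one' := by rw [mul_one, ← map_mul, mul_inv_cancel, map_one]
  map_mul' f g := by
    have h : ρ d⁻¹ * ρ d = 1 := by rw [← map_mul, inv_mul_cancel, map_one]
    calc ρ d * (f * g) * ρ d⁻¹ = ρ d * f * (ρ d⁻¹ * ρ d) * g * ρ d⁻¹ := by
          rw [h, mul_one]; simp only [mul_assoc]
      _ = _ := by simp only [mul_assoc]
  map_zero' := by rw [mul_zero, zero_mul]
  map_add' f g := by rw [mul_add, add_mul]

theorem conjEnd_apply (d : D) (f : AddMonoid.End V) : conjEnd ρ d f = ρ d * f * ρ d⁻¹ := rfl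

/-- The ring spanned by the image of `N`. -/
def span (N : Subgroup D) : Subring (AddMonoid.End V) := Subring.closure (ρ '' (N : Set D))

theorem mem_span {N : Subgroup D} {a : D} (ha : a ∈ N) : ρ a ∈ span ρ N :=
  Subring.subset_closure ⟨a, ha, rfl⟩

theorem conjEnd_mem {N : Subgroup D} {d : D} (hd : d ∈ Subgroup.normalizer (N : Set D))
    {f : AddMonoid.End V} (hf : f ∈ span ρ N) : conjEnd ρ d f ∈ span ρ N := by
  have : span ρ N ≤ (span ρ N).comap (conjEnd ρ d) := by
    rw [span, Subring.closure_le]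
    rintro _ ⟨a, ha, rfl⟩
    show conjEnd ρ d (ρ a) ∈ span ρ N
    rw [conjEnd_apply, ← map_mul, ← map_mul]
    exact mem_span ρ ((Subgroup.mem_normalizer_iff.1 hd a).1 ha)
  exact this hf

/-- The automorphism of the span induced by an element normalising `N`. -/
def autSpan (N : Subgroup D) (d : Subgroup.normalizer (N : Set D)) : RingAut (span ρ N) where
  toFun b := ⟨conjEnd ρ d b, conjEnd_mem ρ d.2 b.2⟩
  invFun b := ⟨conjEnd ρ (d⁻¹ : Subgroup.normalizer (N : Set D)) b, conjEnd_mem ρ (d⁻¹).2 b.2⟩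
  left_inv b := Subtype.ext (by
    show ρ (d : D)⁻¹ * (ρ d * b * ρ (d : D)⁻¹) * ρ (d : D)⁻¹⁻¹ = _
    rw [inv_inv]
    simp only [mul_assoc]
    rw [← map_mul, inv_mul_cancel, map_one, mul_one, ← mul_assoc, ← map_mul, inv_mul_cancel,
      map_one, one_mul])
  right_inv b := Subtype.ext (by
    show ρ (d : D) * (ρ (d : D)⁻¹ * b * ρ (d : D)⁻¹⁻¹) * ρ (d : D)⁻¹ = _
    rw [inv_inv]
    simp only [mul_assoc]
    rw [← map_mul, mul_inv_cancel, map_one, mul_one, ← mul_assoc, ← map_mul, mul_inv_cancel,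
      map_one, one_mul])
  map_mul' b c := Subtype.ext (map_mul (conjEnd ρ d) _ _)
  map_add' b c := Subtype.ext (map_add (conjEnd ρ d) _ _)

/-- The action of the normaliser on the span. -/
def autHom (N : Subgroup D) : Subgroup.normalizer (N : Set D) →* RingAut (span ρ N) where
  toFun := autSpan ρ N
  map_one' := RingEquiv.ext fun b => Subtype.ext (by
    show ρ 1 * (b : AddMonoid.End V) * ρ (1 : D)⁻¹ = b
    rw [inv_one, map_one, mul_one, one_mul])
  map_mul' d e := RingEquiv.ext fun b => Subtype.ext (by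
    show ρ ((d : D) * e) * (b : AddMonoid.End V) * ρ ((d : D) * e)⁻¹ =
      ρ (d : D) * (ρ (e : D) * b * ρ (e : D)⁻¹) * ρ (d : D)⁻¹
    rw [mul_inv_rev, map_mul, map_mul]
    simp only [mul_assoc])

theorem coe_autHom (N : Subgroup D) (d : Subgroup.normalizer (N : Set D)) (b : span ρ N) :
    ((autHom ρ N d b : span ρ N) : AddMonoid.End V) = ρ d * b * ρ (d : D)⁻¹ := rfl

variable [Finite D]

omit [Finite D] in
/-- The sum over the powers of a fixed point free element vanishes. -/
theorem sum_pow_eq_zero {z : D} {q : ℕ} (hz : z ^ q = 1) (hfree : ∀ u, ρ z u = u → u = 0) (u : V) :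
    ∑ j ∈ Finset.range q, ρ (z ^ j) u = 0 := by
  refine hfree _ ?_
  have h2 := Finset.sum_range_succ' (fun j => ρ (z ^ j) u) q
  have h3 := Finset.sum_range_succ (fun j => ρ (z ^ j) u) q
  rw [h3, hz, pow_zero] at h2
  rw [map_sum]
  simp only [← rho_mul_apply, ← pow_succ']
  exact (add_right_cancel h2).symm

/-- The field in `End V` and the semiregular normal subgroup. -/
theorem exists_semilinear [Finite V] (two : ∀ u : V, u + u = 0) (hρ : Function.Injective ρ)
    {q r : ℕ} (hq : q.Prime) (hq2 : q ≠ 2) (hr : r.Prime) (M N : Subgroup D) (hM : M.Normal)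
    (hMc : ∀ a ∈ M, ∀ b ∈ M, Commute a b) (hMq : ∀ a ∈ M, a ^ q = 1) (hNM : N ≤ M) (hN : N ≠ ⊥)
    (hfree : ∀ a ∈ N, a ≠ 1 → ∀ u, ρ a u = u → u = 0) {x : D} (hx : orderOf x = r)
    (hxN : ∀ a ∈ N, x * a * x⁻¹ ∈ N) (hxf : ∀ a ∈ N, Commute x a → a = 1) {v : V} (hv : v ≠ 0)
    (hxv : ρ x v = v) (hfix : ∀ u, ρ x u = u → u = 0 ∨ u = v) :
    ∃ A : Subgroup D, A.Normal ∧ (∀ a ∈ A, ∀ b ∈ A, Commute a b) ∧
      (∀ a ∈ A, a ≠ 1 → ∀ u, ρ a u = u → u = 0) ∧ A.index ≤ r ∧ Nat.card V = 2 ^ r := by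
  classical
  obtain ⟨y, hy, hy1⟩ : ∃ y ∈ N, y ≠ 1 := by
    obtain ⟨y, hy⟩ := Subgroup.ne_bot_iff_exists_ne_one.1 hN
    exact ⟨y, y.2, fun h => hy (Subtype.ext h)⟩
  have hxr : x ^ r = 1 := hx ▸ pow_orderOf_eq_one x
  have hxpow : ∀ i : ℕ, ∀ a ∈ N, x ^ i * a * (x ^ i)⁻¹ ∈ N := by
    intro i
    induction i with
    | zero => simp
    | succ i ih =>
      intro a ha
      have := hxN _ (ih a ha)
      rw [pow_succ', mul_inv_rev]
      simpa only [mul_assoc] using this
  -- the averaging identity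
  set T : V → V := fun u => ∑ i ∈ Finset.range r, ρ (x ^ i) u with hT
  have hTfix : ∀ u, ρ x (T u) = T u := fun u => by
    have h2 := Finset.sum_range_succ' (fun i => ρ (x ^ i) u) r
    have h3 := Finset.sum_range_succ (fun i => ρ (x ^ i) u) r
    rw [h3, hxr, pow_zero] at h2
    simp only [hT, map_sum, ← rho_mul_apply, ← pow_succ']
    exact (add_right_cancel h2).symm
  have hid : ∀ u, ∑ j ∈ Finset.range q, ρ (y ^ j) (T (ρ (y ^ j)⁻¹ u)) = u := by
    intro u
    simp only [hT, map_sum, ← rho_mul_apply]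
    rw [Finset.sum_comm]
    have hzero : ∀ i ∈ Finset.range r, i ≠ 0 →
        ∑ j ∈ Finset.range q, ρ (y ^ j * (x ^ i * (y ^ j)⁻¹)) u = 0 := by
      intro i hi hi0
      set c := x ^ i * y⁻¹ * (x ^ i)⁻¹ with hc
      have hcN : c ∈ N := hxpow i _ (inv_mem hy)
      have hz : ∀ j : ℕ, y ^ j * (x ^ i * (y ^ j)⁻¹) = (y * c) ^ j * x ^ i := fun j => by
        rw [(hMc y (hNM hy) c (hNM hcN)).mul_pow, hc, conj_pow, inv_pow]
        simp [mul_assoc]
      have hne : y * c ≠ 1 := by
        intro h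
        rw [hc, ← mul_assoc, ← mul_assoc, mul_inv_eq_one] at h
        have hcom : Commute (x ^ i) y := by
          show x ^ i * y = y * x ^ i
          conv_lhs => rw [← h]
          simp [mul_assoc]
        have hcop : i.Coprime (orderOf x) := hx.symm ▸ (Nat.coprime_comm).1
          (hr.coprime_iff_not_dvd.2 fun hd =>
            hi0 (Nat.eq_zero_of_dvd_of_lt hd (Finset.mem_range.1 hi)))
        obtain ⟨m, hm⟩ := exists_pow_eq_self_of_coprime hcop
        exact hy1 (hxf y hy (hm ▸ hcom.pow_left m))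
      simp only [hz, rho_mul_apply]
      exact sum_pow_eq_zero ρ (hMq _ (hNM (mul_mem hy hcN)))
        (hfree _ (mul_mem hy hcN) hne) _
    rw [Finset.sum_eq_single_of_mem 0 (Finset.mem_range.2 hr.pos) hzero]
    simp only [pow_zero, one_mul, mul_inv_cancel, rho_one_apply, Finset.sum_const,
      Finset.card_range]
    obtain ⟨m, rfl⟩ := hq.odd_of_ne_two hq2
    rw [add_nsmul, one_nsmul, mul_nsmul, two_nsmul, two, nsmul_zero, zero_add]
  -- the ring
  have hcomm : ∀ f ∈ ρ '' (N : Set D), ∀ g ∈ ρ '' (N : Set D), f * g = g * f := by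
    rintro _ ⟨a, ha, rfl⟩ _ ⟨b, hb, rfl⟩
    rw [← map_mul, ← map_mul, (hMc a (hNM ha) b (hNM hb)).eq]
  set B := span ρ N with hB
  have : IsMulCommutative B := Subring.isMulCommutative_closure hcomm
  have hsurj : ∀ u, ∃ b : B, (b : AddMonoid.End V) v = u := by
    intro u
    rw [← hid u]
    refine Finset.sum_induction _ (fun w => ∃ b : B, (b : AddMonoid.End V) v = w) ?_ ?_ ?_
    · rintro a b ⟨c, rfl⟩ ⟨d, rfl⟩
      exact ⟨c + d, rfl⟩
    · exact ⟨0, rfl⟩
    · intro j _
      rcases hfix _ (hTfix (ρ (y ^ j)⁻¹ u)) with h | h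
      · exact ⟨0, by rw [h, map_zero]; rfl⟩
      · exact ⟨⟨ρ (y ^ j), mem_span ρ (pow_mem hy j)⟩, by rw [h]⟩
  have hswap : ∀ (b c : B) (u : V),
      (b : AddMonoid.End V) ((c : AddMonoid.End V) u) = (c : AddMonoid.End V) ((b : AddMonoid.End V) u) :=
    fun b c u => DFunLike.congr_fun (congrArg Subtype.val (mul_comm b c)) u
  have hext : ∀ f : AddMonoid.End V, (∀ b : B, Commute f b) → ∀ c : B,
      f v = (c : AddMonoid.End V) v → f = c := by
    intro f hf c hfc
    refine DFunLike.ext _ _ fun u => ?_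
    obtain ⟨b, rfl⟩ := hsurj u
    rw [hswap c b, ← hfc]
    exact DFunLike.congr_fun (hf b).eq v
  have hmem : ∀ f : AddMonoid.End V, (∀ b : B, Commute f b) → f ∈ B := fun f hf => by
    obtain ⟨c, hc⟩ := hsurj (f v)
    rw [hext f hf c hc.symm]
    exact c.2
  have hinjv : ∀ b c : B, (b : AddMonoid.End V) v = (c : AddMonoid.End V) v → b = c := fun b c h =>
    Subtype.ext (hext b (fun d => congrArg Subtype.val (mul_comm b d)) c h)
  have : Finite (AddMonoid.End V) := Finite.of_injective (fun f => (f : V → V)) DFunLike.coe_injective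
  have : Nontrivial B := ⟨⟨0, 1, fun h => hv (congrArg (fun b : B => (b : AddMonoid.End V) v) h).symm⟩⟩
  have htwoB : (2 : B) = 0 := by
    rw [← one_add_one_eq_two]
    exact hinjv _ _ (two v)
  have : CharP B 2 := CharTwo.of_one_ne_zero_of_two_eq_zero (one_ne_zero (α := B)) htwoB
  have : Fact (Nat.Prime 2) := ⟨Nat.prime_two⟩
  -- every element satisfies `b ^ 2 ^ (q - 1) = b`
  have hgen : ∀ a ∈ N, (ρ a) ^ 2 ^ (q - 1) = ρ a := by
    intro a ha
    have h1 : 2 ^ (q - 1) ≡ 1 [MOD q] := by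
      have := Nat.ModEq.pow_totient ((Nat.coprime_primes Nat.prime_two hq).2 hq2.symm)
      rwa [Nat.totient_prime hq] at this
    rw [← map_pow, pow_eq_pow_of_modEq h1 (hMq a (hNM ha)), pow_one]
  have hred : ∀ b : B, b ^ 2 ^ (q - 1) = b := by
    have h1 : B ≤ ((iterateFrobenius B 2 (q - 1)).eqLocus (RingHom.id B)).map B.subtype := by
      refine Subring.closure_le.2 ?_
      rintro _ ⟨a, ha, rfl⟩
      exact ⟨⟨ρ a, mem_span ρ ha⟩, Subtype.ext (hgen a ha), rfl⟩
    intro b
    obtain ⟨c, hc, hcb⟩ := h1 b.2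
    rw [show b = c from Subtype.ext hcb.symm]
    exact hc
  -- the automorphism
  have hxn : x ∈ Subgroup.normalizer (N : Set D) := by
    rw [Subgroup.mem_normalizer_iff]
    intro a
    refine ⟨hxN a, fun h => ?_⟩
    have := hxpow (r - 1) _ h
    have e : x ^ (r - 1) = x⁻¹ := eq_inv_of_mul_eq_one_left (by
      rw [← pow_succ, Nat.sub_add_cancel hr.pos, hxr])
    rw [e] at this
    simpa [mul_assoc] using this
  set σ := autHom ρ N ⟨x, hxn⟩ with hσ
  have hσr : σ ^ r = 1 := by
    rw [hσ, ← map_pow]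
    have : (⟨x, hxn⟩ : Subgroup.normalizer (N : Set D)) ^ r = 1 := Subtype.ext hxr
    rw [this, map_one]
  have hσ1 : σ ≠ 1 := by
    intro h
    have h1 := congrArg Subtype.val (DFunLike.congr_fun h ⟨ρ y, mem_span ρ hy⟩)
    rw [coe_autHom] at h1
    change ρ x * ρ y * ρ x⁻¹ = ρ y at h1
    rw [← map_mul, ← map_mul] at h1
    exact hy1 (hxf y hy (mul_inv_eq_iff_eq_mul.1 (hρ h1)))
  have hσfix : ∀ b : B, σ b = b → b = 0 ∨ b = 1 := by
    intro b hb
    have h1 := DFunLike.congr_fun (congrArg Subtype.val hb) v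
    rw [coe_autHom] at h1
    have h2 : ρ x⁻¹ v = v := by
      conv_lhs => rw [← hxv, ← rho_mul_apply, inv_mul_cancel, rho_one_apply]
    change ρ x ((b : AddMonoid.End V) (ρ x⁻¹ v)) = _ at h1
    rw [h2] at h1
    rcases hfix _ h1 with h | h
    · exact Or.inl (hinjv _ _ h)
    · exact Or.inr (hinjv _ _ h)
  have hfld : IsField B := by
    refine isField (fun b => ⟨_, Nat.one_lt_two_pow (by have := hq.two_le; omega), hred b⟩) hr σ
      hσr hσfix fun e _ he0 => ⟨⟨ρ y, mem_span ρ hy⟩, fun h => he0 ?_, fun h => he0 ?_⟩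
    · have h1 := DFunLike.congr_fun (congrArg Subtype.val h) (ρ y⁻¹ v)
      change (e : AddMonoid.End V) (ρ y (ρ y⁻¹ v)) = 0 at h1
      rw [← rho_mul_apply, mul_inv_cancel, rho_one_apply] at h1
      exact hinjv _ _ h1
    · have h1 := DFunLike.congr_fun (congrArg Subtype.val h) v
      change (e : AddMonoid.End V) (ρ y v) = _ at h1
      have h2 := hswap e ⟨ρ y, mem_span ρ hy⟩ v
      exact hinjv _ _ (hfree y hy hy1 _ (h2.symm.trans h1))
  have : IsDomain B := hfld.isDomain
  let _ : Field B := hfld.toField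
  obtain ⟨hBcard, hAut⟩ := card_field (K := B) hr σ hσr hσ1 hσfix
  have : Finite (RingAut B) := Finite.of_injective (fun f => (f : B → B)) DFunLike.coe_injective
  -- `M = N` has prime order
  have hMcomm : ∀ m ∈ M, ∀ b : B, Commute (ρ m) (b : AddMonoid.End V) := by
    intro m hm b
    have : span ρ N ≤ Subring.centralizer ({ρ m} : Set (AddMonoid.End V)) := by
      rw [span, Subring.closure_le]
      rintro _ ⟨a, ha, rfl⟩
      rw [SetLike.mem_coe, Subring.mem_centralizer_iff]
      rintro _ rfl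
      rw [← map_mul, ← map_mul, (hMc m hm a (hNM ha)).eq]
    exact Subring.mem_centralizer_iff.1 (this b.2) _ rfl
  let φ : M →* B :=
    { toFun := fun m => ⟨ρ m, hmem _ (hMcomm m m.2)⟩
      map_one' := Subtype.ext (map_one ρ)
      map_mul' := fun m n => Subtype.ext (map_mul ρ _ _) }
  have : IsCyclic M := isCyclic_of_injective_ringHom φ
    (fun m n h => Subtype.ext (hρ (congrArg Subtype.val h)))
  have hMN : M = N := by
    refine (Subgroup.eq_of_le_of_card_ge hNM ?_).symm
    refine (NoPair.card_le_of_isCyclic hq.pos (fun m => Subtype.ext (hMq m m.2))).trans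
      (Nat.le_of_dvd Nat.card_pos ?_)
    have := Fact.mk hq
    rw [← orderOf_eq_prime (hMq y (hNM hy)) hy1]
    exact Subgroup.orderOf_dvd_natCard N hy
  have hNtop : Subgroup.normalizer (N : Set D) = ⊤ := by
    rw [← hMN]
    exact Subgroup.normalizer_eq_top_iff.2 hM
  let τ : D →* RingAut B := (autHom ρ N).comp
    ((Subgroup.inclusion hNtop.ge).comp Subgroup.topEquiv.symm.toMonoidHom)
  have hker : ∀ a ∈ τ.ker, ∀ b : B, Commute (ρ a) (b : AddMonoid.End V) := by
    intro a ha b
    have h1 : ρ a * (b : AddMonoid.End V) * ρ a⁻¹ = b :=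
      congrArg Subtype.val (DFunLike.congr_fun (MonoidHom.mem_ker.1 ha) b)
    show ρ a * (b : AddMonoid.End V) = b * ρ a
    conv_rhs => rw [← h1, mul_assoc, ← map_mul, inv_mul_cancel, map_one, mul_one]
  refine ⟨τ.ker, inferInstance, fun a ha b hb => ?_, fun a ha ha1 u hu => ?_, ?_, ?_⟩
  · refine hρ ?_
    rw [map_mul, map_mul]
    exact congrArg Subtype.val (mul_comm (⟨ρ a, hmem _ (hker a ha)⟩ : B) ⟨ρ b, hmem _ (hker b hb)⟩)
  · obtain ⟨c, rfl⟩ := hsurj u
    set b : B := ⟨ρ a, hmem _ (hker a ha)⟩ with hb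
    have hbc : b * c = c := hinjv _ _ hu
    rcases mul_left_eq_self₀.1 hbc with h | h
    · exact absurd (hρ ((congrArg Subtype.val h).trans (map_one ρ).symm)) ha1
    · rw [h]; rfl
  · rw [Subgroup.index_ker, ← hAut]
    exact Subgroup.card_le_card_group _
  · rw [← hBcard]
    exact (Nat.card_congr (Equiv.ofBijective (fun b : B => (b : AddMonoid.End V) v)
      ⟨fun b c => hinjv b c, hsurj⟩)).symm

end Module

end BadPrime

universe u

variable {H : Type u} [Group H] [Finite H]

/-- A normal abelian subgroup of prime exponent invariant under the swapper. -/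
theorem Setup.exists_normal_elementary (S : Setup H) (hne : Nontrivial S.D) :
    ∃ q : ℕ, q.Prime ∧ q ≠ 2 ∧ ∃ M : Subgroup S.D, M.Normal ∧ M ≠ ⊥ ∧ IsPGroup q M ∧
      (∀ a ∈ M, ∀ b ∈ M, Commute a b) ∧ (∀ a ∈ M, a ^ q = 1) ∧ ∀ a ∈ M, S.w a ∈ M := by
  have : Group.IsSolvable S.D := Cfsg.Agent.S0205.result S.odd
  set F := Cfsg.fittingSubgroup S.D with hF
  have : F.Normal := Solvable.fittingSubgroup_normal
  have hFne : F ≠ ⊥ := Solvable.fittingSubgroup_ne_bot
  obtain ⟨q, hq, hqF⟩ := Nat.exists_prime_and_dvd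
    (show Nat.card F ≠ 1 from fun h => hFne (Subgroup.card_eq_one.1 h))
  have := Fact.mk hq
  have hq2 : q ≠ 2 := by
    rintro rfl
    exact (Nat.not_even_iff_odd.2 S.odd) (even_iff_two_dvd.2
      (hqF.trans (Subgroup.card_subgroup_dvd_card F)))
  obtain ⟨P⟩ : Nonempty (Sylow q F) := inferInstance
  have htfae := (Group.isNilpotent_of_finite_tfae (G := F)).out 0 3
  have : (P : Subgroup F).Normal := htfae.mp Solvable.fittingSubgroup_isNilpotent q ⟨hq⟩ P
  have : (P : Subgroup F).Characteristic := P.characteristic_of_normal ‹_›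
  set Q := Cfsg.pCore q S.D with hQ
  have hQne : Q ≠ ⊥ := by
    intro h
    have h1 : (P : Subgroup F).map F.subtype ≤ Q := Solvable.le_pCore (P.isPGroup'.map _)
    rw [h, le_bot_iff, Subgroup.map_eq_bot_iff_of_injective _ F.subtype_injective] at h1
    exact P.ne_bot_of_dvd_card hqF h1
  have hQp : IsPGroup q Q := Solvable.isPGroup_pCore q
  have hQn : Q.Normal := Solvable.pCore_normal q
  have hQc : Q.Characteristic := Solvable.pCore_characteristic q
  let M : Subgroup S.D :=
    { carrier := {g | g ∈ Q ∧ (∀ k ∈ Q, Commute k g) ∧ g ^ q = 1}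
      one_mem' := ⟨Q.one_mem, fun k _ => Commute.one_right k, one_pow q⟩
      mul_mem' := fun {a b} ha hb => ⟨Q.mul_mem ha.1 hb.1,
        fun k hk => (ha.2.1 k hk).mul_right (hb.2.1 k hk),
        by rw [(hb.2.1 a ha.1).mul_pow, ha.2.2, hb.2.2, one_mul]⟩
      inv_mem' := fun {a} ha => ⟨Q.inv_mem ha.1, fun k hk => (ha.2.1 k hk).inv_right,
        by rw [inv_pow, ha.2.2, inv_one]⟩ }
  have hmem : ∀ g, g ∈ M ↔ g ∈ Q ∧ (∀ k ∈ Q, Commute k g) ∧ g ^ q = 1 := fun _ => Iff.rfl
  have himg : ∀ f : S.D ≃* S.D, (∀ k, f k ∈ Q ↔ k ∈ Q) → ∀ a ∈ M, f a ∈ M := by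
    intro f hf a ha
    refine (hmem _).2 ⟨(hf a).2 ha.1, fun k hk => ?_, by rw [← map_pow, ha.2.2, map_one]⟩
    obtain ⟨k, rfl⟩ := f.surjective k
    exact (ha.2.1 k ((hf k).1 hk)).map f
  refine ⟨q, hq, hq2, M, ⟨fun a ha g => himg (MulAut.conj g) (fun k => ?_) a ha⟩, ?_,
    hQp.to_le (fun a ha => ha.1), fun a ha b hb => hb.2.1 a ha.1, fun a ha => ha.2.2,
    himg S.w (fun k => ?_)⟩
  · exact (SetLike.ext_iff.1 (hQc.fixed (MulAut.conj g)) k)
  · intro h
    have : Nontrivial Q := (Subgroup.nontrivial_iff_ne_bot Q).2 hQne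
    have hc := hQp.center_nontrivial
    obtain ⟨n, hn, hnc⟩ := (hQp.to_subgroup (Subgroup.center Q)).nontrivial_iff_card.1 hc
    obtain ⟨z, hz⟩ := exists_prime_orderOf_dvd_card' (G := Subgroup.center Q) q
      (hnc ▸ dvd_pow_self q hn.ne')
    have hz' : ((z : Q) : S.D) ∈ M := (hmem _).2 ⟨(z : Q).2,
      fun k hk => congrArg Subtype.val (Subgroup.mem_center_iff.1 z.2 ⟨k, hk⟩), by
        have := congrArg (fun a : Subgroup.center Q => ((a : Q) : S.D)) (pow_orderOf_eq_one z)
        rwa [hz] at this⟩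
    rw [h, Subgroup.mem_bot] at hz'
    have hz1 : z = 1 := Subtype.ext (Subtype.ext hz')
    exact hq.ne_one (by rw [← hz, hz1, orderOf_one])
  · exact (SetLike.ext_iff.1 (hQc.fixed S.w) k)

/-- Step 6: a bad element of prime order `r` makes `D` the semidirect product of a semiregular
abelian group and `C_D(t)` of order `r`. -/
theorem exists_frobenius_of_bad (S : Setup H)
    (hcomm : ∀ a b : H, orderOf a = 2 → orderOf b = 2 → Commute a b)
    (hfaith : ∀ d : S.D, (∀ s, IsConj S.t s → Commute (d : H) s) → d = 1) (x : S.D) {r : ℕ}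
    (hr : r.Prime) (hx : orderOf x = r) (hxt : Commute (x : H) S.t)
    (hbad : ∀ s, IsConj S.t s → Commute (x : H) s → s = S.t) :
    ∃ A : Subgroup S.D, A.Normal ∧ (∀ a ∈ A, ∀ b ∈ A, Commute a b) ∧
      Subgroup.IsComplement' A S.E ∧ Nat.card S.E = r ∧ Nat.Coprime (Nat.card A) r ∧
      Nat.card A = Nat.card {s : H // IsConj S.t s} ∧
      Nat.card A = 2 ^ r - 1 ∧
      ∀ a ∈ A, a ≠ 1 → ∀ s, IsConj S.t s → ¬ Commute (a : H) s := by
  classical
  have hconj : ∀ {s}, IsConj S.t s → orderOf s = 2 := fun {s} h => by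
    obtain ⟨c, rfl⟩ := isConj_iff.1 h
    rw [← MulAut.conj_apply, MulEquiv.orderOf_eq, S.ht]
  have hodd : ∀ d : S.D, d * d = 1 → d = 1 := fun d hd => by
    rw [← orderOf_eq_one_iff]
    refine Nat.eq_one_of_dvd_coprimes (Nat.coprime_two_left.2 S.odd) ?_ (orderOf_dvd_natCard d)
    exact orderOf_dvd_of_pow_eq_one (by rw [pow_two, hd])
  -- a conjugate of `x` fixed by the swapper
  obtain ⟨c, hc⟩ := (S.star x).1 ⟨1, by simpa using hxt⟩
  set x' := c * x * c⁻¹ with hx'
  have hx'r : orderOf x' = r := by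
    rw [hx', ← MulAut.conj_apply, MulEquiv.orderOf_eq, hx]
  -- the group of the involutions
  let Z : Subgroup H :=
    { carrier := {h | h * h = 1}
      one_mem' := one_mul 1
      inv_mem' := fun {a} (ha : a * a = 1) => by
        show a⁻¹ * a⁻¹ = 1
        rw [← mul_inv_rev, ha, inv_one]
      mul_mem' := fun {a b} (ha : a * a = 1) (hb : b * b = 1) => by
        show a * b * (a * b) = 1
        rcases eq_or_ne a 1 with rfl | ha1
        · simpa using hb
        rcases eq_or_ne b 1 with rfl | hb1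
        · simpa using ha
        have hab := hcomm a b (orderOf_eq_prime (by rw [pow_two, ha]) ha1)
          (orderOf_eq_prime (by rw [pow_two, hb]) hb1)
        rw [hab.symm.mul_mul_mul_comm, ha, hb, one_mul] }
  have hZconj : ∀ {s}, IsConj S.t s → s ∈ Z := fun {s} h => by
    show s * s = 1
    rw [← pow_two, ← hconj h]
    exact pow_orderOf_eq_one s
  have hZinv : ∀ {s}, s ∈ Z → s ≠ 1 → IsConj S.t s := fun {s} h h1 =>
    S.oneClass s (orderOf_eq_prime (by rw [pow_two]; exact h) h1)
  let _ : CommGroup Z := { (inferInstance : Group Z) with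
    mul_comm := fun a b => by
      have h1 : (a * b) * (a * b) = 1 := Subtype.ext (a * b).2
      have ha : a * a = 1 := Subtype.ext a.2
      have hb : b * b = 1 := Subtype.ext b.2
      calc a * b = a * (a * b * (a * b)) * b := by rw [h1, mul_one]
        _ = a * a * (b * a) * (b * b) := by simp only [mul_assoc]
        _ = b * a := by rw [ha, hb, one_mul, mul_one] }
  have hZact : ∀ (d : S.D) (s : H), s ∈ Z → (d : H) * s * (d : H)⁻¹ ∈ Z := fun d s hs => by
    show (d : H) * s * (d : H)⁻¹ * ((d : H) * s * (d : H)⁻¹) = 1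
    rw [conj_mul, show s * s = 1 from hs, mul_one, mul_inv_cancel]
  let ρ : S.D →* AddMonoid.End (Additive Z) :=
    { toFun := fun d => AddMonoidHom.mk'
        (fun z => Additive.ofMul ⟨(d : H) * ((z.toMul : Z) : H) * (d : H)⁻¹,
          hZact d _ (z.toMul).2⟩)
        (fun a b => Additive.toMul.injective (Subtype.ext (by
          show (d : H) * (((a.toMul : Z) : H) * ((b.toMul : Z) : H)) * (d : H)⁻¹ = _
          exact (conj_mul).symm)))
      map_one' := AddMonoidHom.ext fun z => Additive.toMul.injective (Subtype.ext (by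
        show (1 : H) * ((z.toMul : Z) : H) * 1⁻¹ = _
        rw [one_mul, inv_one, mul_one]; rfl))
      map_mul' := fun d e => AddMonoidHom.ext fun z => Additive.toMul.injective (Subtype.ext (by
        show ((d : H) * e) * ((z.toMul : Z) : H) * ((d : H) * e)⁻¹ =
          (d : H) * ((e : H) * ((z.toMul : Z) : H) * (e : H)⁻¹) * (d : H)⁻¹
        rw [mul_inv_rev]; simp only [mul_assoc])) }
  have hρapp : ∀ (d : S.D) (z : Z), ρ d (Additive.ofMul z) = Additive.ofMul z ↔
      Commute (d : H) (z : H) := fun d z => by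
    rw [← Additive.toMul.injective.eq_iff, ← Subtype.val_injective.eq_iff]
    show (d : H) * z * (d : H)⁻¹ = z ↔ _
    exact mul_inv_eq_iff_eq_mul
  have hne0 : ∀ {s} (hs : IsConj S.t s), Additive.ofMul (⟨s, hZconj hs⟩ : Z) ≠ 0 := fun {s} hs h => by
    have h1 : s = 1 := congrArg Subtype.val h
    have := hconj hs
    rw [h1, orderOf_one] at this
    exact absurd this (by norm_num)
  have hρ : Function.Injective ρ := by
    refine (injective_iff_map_eq_one ρ).2 fun d hd => hfaith d fun s hs => ?_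
    exact (hρapp d ⟨s, hZconj hs⟩).1 (by rw [hd]; rfl)
  -- only one conjugate of `t` commutes with `x'`
  set t' := (c : H) * S.t * (c : H)⁻¹ with ht'
  have ht'c : IsConj S.t t' := isConj_iff.2 ⟨c, rfl⟩
  have hx't : ∀ s, IsConj S.t s → (Commute (x' : H) s ↔ s = t') := fun s hs => by
    constructor
    · intro h
      have h1 : IsConj S.t ((c : H)⁻¹ * s * c) :=
        hs.trans (isConj_iff.2 ⟨(c : H)⁻¹, by rw [inv_inv]⟩)
      have h2 : Commute (x : H) ((c : H)⁻¹ * s * c) := by
        have := h.map (MulAut.conj (c : H)⁻¹).toMonoidHom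
        simpa [hx', mul_assoc] using this
      rw [ht', ← hbad _ h1 h2]
      simp [mul_assoc]
    · rintro rfl
      have := hxt.map (MulAut.conj (c : H)).toMonoidHom
      simpa [hx', ht', mul_assoc] using this
  have hfpf : ∀ n : S.D, S.w n = n⁻¹ → Commute x' n → n = 1 := by
    intro n hn hcn
    have h1 := S.card_swap x'
    have h2 : Nat.card {s : H // IsConj S.t s ∧ (x' : H) * s * (x' : H)⁻¹ = s} = 1 := by
      rw [Nat.card_eq_one_iff_unique]
      refine ⟨⟨fun a b => Subtype.ext ?_⟩, ⟨⟨t', ht'c,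
        mul_inv_eq_iff_eq_mul.2 ((hx't t' ht'c).2 rfl)⟩⟩⟩
      rw [(hx't _ a.2.1).1 (mul_inv_eq_iff_eq_mul.1 a.2.2),
        (hx't _ b.2.1).1 (mul_inv_eq_iff_eq_mul.1 b.2.2)]
    rw [h2, Nat.card_eq_one_iff_unique] at h1
    have := h1.1.allEq ⟨n, hn, by rw [hc, mul_assoc, hcn.eq, inv_mul_cancel_left]⟩
      ⟨1, by rw [map_one, inv_one], by rw [inv_one, one_mul, mul_one, hc]⟩
    exact congrArg Subtype.val this
  have hsemi : ∀ n : S.D, S.w n = n⁻¹ → ∀ s, IsConj S.t s → Commute (n : H) s → n = 1 := by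
    intro n hn s hs hns
    have h1 : 0 < Nat.card {s : H // IsConj S.t s ∧ (n : H) * s * (n : H)⁻¹ = s} :=
      Nat.card_pos_iff.2 ⟨⟨⟨s, hs, mul_inv_eq_iff_eq_mul.2 hns⟩⟩, inferInstance⟩
    rw [← S.card_swap n, Nat.card_pos_iff] at h1
    obtain ⟨⟨p, -, hp⟩⟩ := h1.1
    rw [hn] at hp
    have h2 : Commute (p * p) n := by
      have h3 : n * p = p * n⁻¹ := by
        rw [← hp]; simp [mul_assoc]
      have h4 : n⁻¹ * p = p * n := by
        calc n⁻¹ * p = n⁻¹ * (p * n⁻¹) * n := by simp [mul_assoc]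
          _ = p * n := by rw [← h3]; simp
      show p * p * n = n * (p * p)
      rw [← mul_assoc n, h3, mul_assoc, mul_assoc, h4]
    have hodd' : Odd (orderOf p) := Odd.of_dvd_nat S.odd (orderOf_dvd_natCard p)
    have hcop : Nat.Coprime 2 (orderOf p) := Nat.coprime_two_left.2 hodd'
    obtain ⟨m, hm⟩ := exists_pow_eq_self_of_coprime hcop
    have h5 : Commute p n := by rw [← hm, pow_two]; exact h2.pow_left m
    rw [mul_assoc, ← h5.eq, inv_mul_cancel_left] at hp
    exact hodd n (mul_eq_one_iff_eq_inv.2 hp)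
  -- the inverted part of an invariant normal subgroup
  have hD : Nontrivial S.D :=
    ⟨⟨x, 1, fun h => hr.ne_one (by rw [← hx, h, orderOf_one])⟩⟩
  obtain ⟨q, hq, hq2, M, hM, hMne, hMp, hMc, hMq, hMw⟩ := S.exists_normal_elementary hD
  let N : Subgroup S.D :=
    { carrier := {n | n ∈ M ∧ S.w n = n⁻¹}
      one_mem' := ⟨M.one_mem, by rw [map_one, inv_one]⟩
      mul_mem' := fun {a b} ha hb => ⟨M.mul_mem ha.1 hb.1, by
        rw [map_mul, ha.2, hb.2, ← mul_inv_rev, (hMc a ha.1 b hb.1).eq]⟩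
      inv_mem' := fun {a} ha => ⟨M.inv_mem ha.1, by rw [map_inv, ha.2]⟩ }
  have hN : N ≠ ⊥ := by
    intro hbot
    have hfix' : ∀ n ∈ M, S.w n = n := by
      intro n hn
      have : n * (S.w n)⁻¹ ∈ N :=
        ⟨M.mul_mem hn (M.inv_mem (hMw n hn)), by rw [map_mul, map_inv, S.w_w, mul_inv_rev, inv_inv]⟩
      rw [hbot, Subgroup.mem_bot, mul_inv_eq_one] at this
      exact this.symm
    obtain ⟨d, hd⟩ := (S.star_pGroup q hq M hMp).2
      ⟨1, fun n hn => by simpa using hfix' n hn⟩
    have hME : ∀ n ∈ M, Commute (n : H) S.t := fun n hn => by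
      have h1 := hd _ (hM.conj_mem n hn d⁻¹)
      simpa [mul_assoc] using h1
    refine hMne ((Subgroup.eq_bot_iff_forall _).2 fun n hn => hfaith n fun s hs => ?_)
    obtain ⟨h, rfl⟩ := isConj_iff.1 hs
    obtain ⟨g, hg, hgt⟩ := S.cover h
    rw [← hgt]
    have h1 := hME _ (hM.conj_mem n hn (⟨g, hg⟩ : S.D)⁻¹)
    have h2 := h1.map (MulAut.conj g).toMonoidHom
    simpa [mul_assoc] using h2
  have hxN : ∀ a ∈ N, x' * a * x'⁻¹ ∈ N := fun a ha => ⟨hM.conj_mem a ha.1 x', by
    rw [map_mul, map_mul, map_inv, hc, ha.2]; exact conj_inv.symm⟩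
  obtain ⟨A, hAn, hAc, hAfree, hAidx, hcardZ⟩ := BadPrime.exists_semilinear ρ
    (fun u => Additive.toMul.injective (Subtype.ext u.toMul.2)) hρ hq hq2 hr M N hM hMc hMq
    (fun a ha => ha.1) hN
    (fun a ha ha1 u hu => by
      by_contra hu0
      obtain ⟨⟨s, hs⟩, rfl⟩ := Additive.ofMul.surjective u
      exact ha1 (hsemi a ha.2 s (hZinv hs fun h => hu0 (by subst h; rfl)) ((hρapp a ⟨s, hs⟩).1 hu)))
    hx'r hxN (fun a ha h => hfpf a ha.2 h) (v := Additive.ofMul ⟨t', hZconj ht'c⟩) (hne0 ht'c)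
    ((hρapp x' ⟨t', hZconj ht'c⟩).2 ((hx't t' ht'c).2 rfl))
    (fun u hu => by
      obtain ⟨⟨s, hs⟩, rfl⟩ := Additive.ofMul.surjective u
      by_cases h1 : s = 1
      · subst h1; exact Or.inl rfl
      · exact Or.inr (congrArg Additive.ofMul (Subtype.ext
          ((hx't s (hZinv hs h1)).1 ((hρapp x' ⟨s, hs⟩).1 hu)))))
  have hAsemi : ∀ a ∈ A, a ≠ 1 → ∀ s, IsConj S.t s → ¬ Commute (a : H) s := fun a ha ha1 s hs h =>
    hne0 hs (hAfree a ha ha1 _ ((hρapp a ⟨s, hZconj hs⟩).2 h))
  -- the number of involutions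
  set m := Nat.card {s : H // IsConj S.t s} with hm
  have hmZ : m + 1 = Nat.card Z := by
    rw [hm, ← Finite.card_option]
    refine Nat.card_congr (Equiv.ofBijective
      (fun o : Option {s : H // IsConj S.t s} => o.elim (1 : Z) fun s => ⟨s, hZconj s.2⟩)
      ⟨?_, fun z => ?_⟩)
    · rintro (_ | ⟨s, hs⟩) (_ | ⟨s', hs'⟩) h
      · rfl
      · exact absurd (congrArg Additive.ofMul h.symm) (hne0 hs')
      · exact absurd (congrArg Additive.ofMul h) (hne0 hs)
      · have : s = s' := congrArg Subtype.val h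
        subst this; rfl
    · by_cases h : (z : H) = 1
      · exact ⟨none, Subtype.ext h.symm⟩
      · exact ⟨some ⟨z, hZinv z.2 h⟩, rfl⟩
  have hcardZ' : Nat.card Z = 2 ^ r := by
    rw [← hcardZ]; exact (Nat.card_congr Additive.ofMul)
  -- orbit-stabiliser
  let f : S.D ⧸ S.E → {s : H // IsConj S.t s} := Quotient.lift
    (fun d : S.D => (⟨(d : H) * S.t * (d : H)⁻¹, isConj_iff.2 ⟨d, rfl⟩⟩ : {s : H // IsConj S.t s}))
    (fun a b hab => Subtype.ext (by
      have h := S.mem_E.1 (QuotientGroup.leftRel_apply.1 hab)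
      have h' : (a : H)⁻¹ * b * S.t * ((a : H)⁻¹ * b)⁻¹ = S.t := mul_inv_eq_iff_eq_mul.2 h
      show (a : H) * S.t * (a : H)⁻¹ = (b : H) * S.t * (b : H)⁻¹
      conv_lhs => rw [← h']
      simp [mul_assoc]))
  have hf : Function.Bijective f := by
    refine ⟨fun a b hab => ?_, fun s => ?_⟩
    · induction a using Quotient.inductionOn with | h a => ?_
      induction b using Quotient.inductionOn with | h b => ?_
      refine Quotient.sound (QuotientGroup.leftRel_apply.2 (S.mem_E.2 ?_))
      have h : (a : H) * S.t * (a : H)⁻¹ = (b : H) * S.t * (b : H)⁻¹ := congrArg Subtype.val hab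
      show ((a : H)⁻¹ * b) * S.t = S.t * ((a : H)⁻¹ * b)
      calc ((a : H)⁻¹ * b) * S.t = (a : H)⁻¹ * ((b : H) * S.t * (b : H)⁻¹) * b := by
            simp [mul_assoc]
        _ = S.t * ((a : H)⁻¹ * b) := by rw [← h]; simp [mul_assoc]
    · obtain ⟨h, hh⟩ := isConj_iff.1 s.2
      obtain ⟨d, hd, hdt⟩ := S.cover h
      exact ⟨QuotientGroup.mk ⟨d, hd⟩, Subtype.ext (hdt.trans hh)⟩
  have hidx : S.E.index = m := Nat.card_congr (Equiv.ofBijective f hf)
  have hdisj : Disjoint A S.E := by
    rw [disjoint_iff, Subgroup.eq_bot_iff_forall]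
    intro a ha
    by_contra ha1
    exact hAsemi a ha.1 ha1 _ (IsConj.refl _) (S.mem_E.1 ha.2)
  have hAm : Nat.card A ≤ m := by
    refine Nat.card_le_card_of_injective
      (fun a : A => (⟨((a : S.D) : H) * S.t * ((a : S.D) : H)⁻¹, isConj_iff.2 ⟨_, rfl⟩⟩ :
        {s : H // IsConj S.t s})) fun a b hab => ?_
    have h : f (QuotientGroup.mk (a : S.D)) = f (QuotientGroup.mk (b : S.D)) := hab
    have h' := QuotientGroup.eq.1 (hf.1 h)
    have h'' := disjoint_iff_inf_le.1 hdisj ⟨A.mul_mem (A.inv_mem a.2) b.2, h'⟩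
    exact Subtype.ext (inv_mul_eq_one.1 (Subgroup.mem_bot.1 h''))
  have hEr : Nat.card S.E ≤ r := by
    refine le_trans ?_ hAidx
    refine Nat.card_le_card_of_injective (fun e : S.E => QuotientGroup.mk (s := A) (e : S.D))
      fun a b hab => ?_
    have h'' := disjoint_iff_inf_le.1 hdisj
      ⟨QuotientGroup.eq.1 hab, S.E.mul_mem (S.E.inv_mem a.2) b.2⟩
    exact Subtype.ext (inv_mul_eq_one.1 (Subgroup.mem_bot.1 h''))
  have hEcard : Nat.card S.E = r := le_antisymm hEr (Nat.le_of_dvd Nat.card_pos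
    (hx ▸ Subgroup.orderOf_dvd_natCard S.E (S.mem_E.2 hxt)))
  have h1 := S.E.card_mul_index
  rw [hidx, hEcard] at h1
  have h2 := A.card_mul_index
  have hAcard : Nat.card A = m := by
    refine le_antisymm hAm (Nat.le_of_mul_le_mul_left ?_ hr.pos)
    calc r * m = Nat.card A * A.index := h1.trans h2.symm
      _ ≤ Nat.card A * r := Nat.mul_le_mul_left _ hAidx
      _ = r * Nat.card A := mul_comm _ _
  have hm2 : m = 2 ^ r - 1 := by omega
  refine ⟨A, hAn, hAc, ?_, hEcard, ?_, hAcard, hAcard.trans hm2, hAsemi⟩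
  · refine Subgroup.isComplement'_of_card_mul_and_disjoint ?_ hdisj
    rw [hEcard, hAcard, mul_comm, h1]
  · rw [hAcard, hm2, Nat.coprime_comm, hr.coprime_iff_not_dvd]
    intro hd
    have := Fact.mk hr
    have h3 : ((2 ^ r - 1 : ℕ) : ZMod r) = 0 := (ZMod.natCast_eq_zero_iff _ _).2 hd
    rw [Nat.cast_sub Nat.one_le_two_pow, Nat.cast_pow, Nat.cast_one, ZMod.pow_card] at h3
    norm_num at h3

end CfsgLib.BenderWorld.Shape
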