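import Cfsg.Agent.BenderWorld.Shape.Constituent
import Cfsg.Agent.Characters.Burnside
import Cfsg.Agent.Characters.Induction
import Cfsg.Agent.GaloisAverage.Ito
import Mathlib.GroupTheory.Complement

/-!
# The coprime case: Burnside

Step 3.B of `docs/bender_sliceG_mixed_helper81.md`.  If the degree of a constituent of the
permutation character on the conjugates of `t` is prime to their number then its value at `t` is
zero or full; it is not zero as the degree is odd, and the vector fixed by `C(t)` makes the scalar
one.
-/

set_option autoImplicit false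
set_option linter.unusedSectionVars false
set_option linter.style.haveILetI false

namespace CfsgLib.BenderWorld.Shape

open CfsgLib.Characters
open scoped ComplexConjugate

attribute [local instance high] Fintype.ofFinite

universe u

namespace Burnside

variable {H : Type u} [Group H] [Finite H]

/-- The class of `t` is the orbit of `D`. -/
theorem index_centralizer (S : Setup H) :
    (Subgroup.centralizer ({S.t} : Set H)).index = S.E.index := by
  symm
  refine Nat.card_eq_of_bijective (Quotient.map' (fun d : S.D => (d : H)) fun a b h => ?_)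
    ⟨?_, ?_⟩
  · rw [QuotientGroup.leftRel_apply] at h ⊢
    exact h
  · intro a b
    refine Quotient.inductionOn₂' a b fun x y h => ?_
    rw [Quotient.map'_mk'', Quotient.map'_mk'', Quotient.eq'', QuotientGroup.leftRel_apply] at h
    rw [Quotient.eq'', QuotientGroup.leftRel_apply]
    exact h
  · intro a
    refine Quotient.inductionOn' a fun h => ?_
    obtain ⟨d, hd, hdh⟩ := S.cover h
    refine ⟨Quotient.mk'' ⟨d, hd⟩, ?_⟩
    rw [Quotient.map'_mk'', Quotient.eq'', QuotientGroup.leftRel_apply,
      Subgroup.mem_centralizer_singleton_iff]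
    calc d⁻¹ * h * S.t = d⁻¹ * (h * S.t * h⁻¹) * h := by group
      _ = d⁻¹ * (d * S.t * d⁻¹) * h := by rw [hdh]
      _ = S.t * (d⁻¹ * h) := by group

/-- An involution has nonzero trace in odd dimension. -/
theorem char_ne_zero_of_odd {G : Type u} [Group G] [Finite G] {n : ℕ}
    (ρ : Representation ℂ G (Fin n → ℂ)) {g : G} (hg : orderOf g = 2) (hn : Odd n) :
    ρ.character g ≠ 0 := by
  classical
  obtain ⟨μ, hμ, hj, -⟩ := exists_eigenvalues ρ g
  have hsum : ρ.character g = ∑ i, μ i := by simpa using hj 1
  have hμ' : ∀ i, μ i = 1 ∨ μ i = -1 := fun i => by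
    have := hμ i
    rw [hg] at this
    exact sq_eq_one_iff.1 this
  intro h0
  have hN : ((Finset.univ.filter fun i => μ i = 1).card : ℂ) =
      ((Finset.univ.filter fun i => ¬ μ i = 1).card : ℂ) := by
    rw [hsum, ← Finset.sum_filter_add_sum_filter_not _ (fun i => μ i = 1),
      Finset.sum_congr rfl (g := fun _ => (1 : ℂ)) fun i hi => (Finset.mem_filter.1 hi).2,
      Finset.sum_congr rfl (g := fun _ => (-1 : ℂ)) fun i hi =>
        (hμ' i).resolve_left (Finset.mem_filter.1 hi).2] at h0
    simp only [Finset.sum_const, nsmul_eq_mul, mul_one, mul_neg] at h0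
    linear_combination h0
  have hcard := Finset.card_filter_add_card_filter_not
    (s := (Finset.univ : Finset (Fin (Module.finrank ℂ (Fin n → ℂ))))) (fun i => μ i = 1)
  rw [Nat.cast_inj.1 hN, Finset.card_univ, Fintype.card_fin] at hcard
  have hfr : Module.finrank ℂ (Fin n → ℂ) = n := Module.finrank_fin_fun ℂ
  obtain ⟨k, hk⟩ := hn
  omega

/-- A constituent of the permutation character of degree prime to the number of conjugates of `t`
and of odd degree has `t` in its kernel. -/
theorem kernel_of_degree (S : Setup H) {χ : H → ℂ} (hχ : Cfsg.IsIrrCharacter H χ)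
    (hp : Cfsg.classInner S.perm χ ≠ 0) {d : ℕ} (hd : χ 1 = d) (hodd : Odd d)
    (hcop : Nat.Coprime d (Subgroup.centralizer ({S.t} : Set H)).index) :
    χ S.t = χ 1 := by
  set C : Subgroup H := Subgroup.centralizer ({S.t} : Set H)
  have hcl := isClassFunction_of_isIrr hχ
  have hsum : ∑ c : C, χ c ≠ 0 := by
    rw [S.perm_eq, classInner_indFun C _ hcl, Cfsg.classInner] at hp
    simp only [one_mul] at hp
    rw [← map_sum, mul_ne_zero_iff, ne_eq, ne_eq, map_eq_zero] at hp
    exact hp.2
  obtain ⟨n, ρ, hρ, rfl⟩ := hχ
  have hfin : Module.finrank ℂ (Fin n → ℂ) = d := by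
    have := ρ.char_one
    rw [hd] at this
    exact_mod_cast this.symm
  rw [Module.finrank_fin_fun] at hfin
  subst hfin
  rcases char_zero_or_norm_of_coprime ρ S.t (by rwa [Module.finrank_fin_fun]) with h | h
  · exact absurd h (char_ne_zero_of_odd ρ S.ht hodd)
  obtain ⟨ω, hω, hωt⟩ := exists_scalar_of_norm_char_eq ρ S.t h
  suffices hω1 : ω = 1 by rw [hωt, hω1, one_mul, ρ.char_one]
  have htC : S.t ∈ C := Subgroup.mem_centralizer_singleton_iff.2 rfl
  have hfix : ∑ c : C, ρ.character c = ω * ∑ c : C, ρ.character c := by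
    conv_lhs => rw [← Equiv.sum_comp (Equiv.mulRight (⟨S.t, htC⟩ : C))]
    rw [Finset.mul_sum]
    refine Finset.sum_congr rfl fun c _ => ?_
    rw [Equiv.coe_mulRight, Subgroup.coe_mul, Representation.character, Representation.character,
      map_mul, hω, mul_smul_comm, map_smul, smul_eq_mul]
    rfl
  by_contra hne
  exact hsum (mul_left_cancel₀ (sub_ne_zero.2 hne) (by linear_combination -hfix))

end Burnside

/-- The kernel property when the inverted elements form an abelian complement of `C_D(w)` of order
prime to `C_D(w)`. -/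
theorem kernel_of_coprime {H : Type u} [Group H] [Finite H] (S : Setup H)
    (A : Subgroup S.D) [A.Normal] (hA : ∀ a ∈ A, ∀ b ∈ A, a * b = b * a)
    (hcompl : Subgroup.IsComplement' A S.E')
    (hcop : Nat.Coprime (Nat.card A) (Nat.card S.E')) : S.KernelProperty := by
  intro χ hχ hp ⟨g, hg⟩
  obtain ⟨d, hd, hdvd⟩ := GaloisAverage.exists_degree_dvd_index
    (S.restrict_isIrr hχ hp ⟨g, hg⟩).1 A hA
  rw [hcompl.symm.index_eq_card] at hdvd
  have hEE : Nat.card S.E = Nat.card S.E' :=
    (Nat.card_congr (Equiv.subtypeEquivRight fun _ => S.mem_E)).trans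
      (S.card_fix.symm.trans (Nat.card_congr (Equiv.subtypeEquivRight fun _ => S.mem_E'.symm)))
  have hidx : S.E.index = Nat.card A := by
    have h1 := S.E.card_mul_index
    rw [← hcompl.card_mul_card, hEE, mul_comm (Nat.card A)] at h1
    exact Nat.eq_of_mul_eq_mul_left Nat.card_pos h1
  refine Burnside.kernel_of_degree S hχ hp (d := d) hd
    (Odd.of_dvd_nat S.odd (hdvd.trans (Subgroup.card_subgroup_dvd_card S.E'))) ?_
  rw [Burnside.index_centralizer, hidx]
  exact (Nat.Coprime.coprime_dvd_right hdvd hcop).symm

end CfsgLib.BenderWorld.Shape
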