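import Cfsg.Agent.BenderWorld.Shape.Basic
import Cfsg.Agent.BenderWorld.Gelfand
import Cfsg.Agent.Solvable.Fitting
import Cfsg.Agent.S0205

/-!
# The inverted elements when every normal subgroup of prime power order meets `C_D(w)` trivially

Then they are the Fitting subgroup of `D`: an abelian normal complement of `C_D(w)` and of `C_D(t)`.
-/

set_option autoImplicit false
set_option linter.style.haveILetI false

namespace CfsgLib.BenderWorld.Shape.Setup

universe u

variable {H : Type u} [Group H] [Finite H] (S : Setup H)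

/-- A subgroup on which `w` has no fixed point other than `1` is inverted by `w`. -/
theorem inverted_of_inf_fixed_eq_bot {N : Subgroup S.D} (hN : ∀ n ∈ N, S.w n ∈ N)
    (hbot : N ⊓ S.E' = ⊥) : ∀ n ∈ N, S.w n = n⁻¹ := by
  intro n hn
  let wN : N ≃* N :=
    { toFun := fun x => ⟨S.w x, hN _ x.2⟩
      invFun := fun x => ⟨S.w x, hN _ x.2⟩
      left_inv := fun x => Subtype.ext (S.w_w _)
      right_inv := fun x => Subtype.ext (S.w_w _)
      map_mul' := fun x y => Subtype.ext (map_mul S.w _ _) }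
  have hfix : ∀ x : N, x ∈ (⊥ : Subgroup N) ↔ wN x = x := by
    intro x
    refine ⟨fun hx => ?_, fun hx => ?_⟩
    · rw [Subgroup.mem_bot.1 hx, map_one]
    · have h1 : (x : S.D) ∈ N ⊓ S.E' := ⟨x.2, congrArg Subtype.val hx⟩
      rw [hbot, Subgroup.mem_bot] at h1
      exact Subgroup.mem_bot.2 (Subtype.ext h1)
  obtain ⟨p, hp, hpd⟩ := Gelfand.exists_decomp (D := N) (w := wN) (E := ⊥)
    (S.odd.of_dvd_nat (Subgroup.card_subgroup_dvd_card N))
    (fun x => Subtype.ext (S.w_w _)) hfix ⟨n, hn⟩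
  have h1 : p = ⟨n, hn⟩ := inv_mul_eq_one.1 (Subgroup.mem_bot.1 hpd)
  rw [h1] at hp
  exact congrArg Subtype.val hp

/-- An element whose inverse is conjugate to it under an inverted element commutes with it. -/
theorem commute_of_inverted {p a : S.D} (hp : S.w p = p⁻¹) (ha : S.w a = a⁻¹)
    (hpa : S.w (p * a * p⁻¹) = (p * a * p⁻¹)⁻¹) : Commute a p := by
  refine Gelfand.commute_of_sq S.odd ?_
  rw [map_mul, map_mul, map_inv, hp, ha, inv_inv] at hpa
  have h2 : p * (p⁻¹ * a⁻¹ * p) * p⁻¹ = p * (p * a * p⁻¹)⁻¹ * p⁻¹ := by rw [hpa]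
  have h3 : a⁻¹ = p ^ 2 * a⁻¹ * (p ^ 2)⁻¹ := by
    rw [pow_two]
    calc a⁻¹ = p * (p⁻¹ * a⁻¹ * p) * p⁻¹ := by group
      _ = _ := by rw [h2]; group
  have h4 : Commute a⁻¹ (p ^ 2) := mul_inv_eq_iff_eq_mul.1 h3.symm |>.symm
  exact Commute.inv_left_iff.1 h4

variable (hfit : ∀ r : ℕ, r.Prime → ∀ N : Subgroup S.D, N.Normal → IsPGroup r N → N ⊓ S.E' = ⊥)
include hfit

theorem fitting_inf_fixed : Cfsg.fittingSubgroup S.D ⊓ S.E' = ⊥ := by
  classical
  set F := Cfsg.fittingSubgroup S.D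
  haveI : F.Characteristic := CfsgLib.Solvable.fittingSubgroup_characteristic
  haveI : Group.IsNilpotent F := CfsgLib.Solvable.fittingSubgroup_isNilpotent
  rw [eq_bot_iff]
  intro e he
  by_contra he1
  obtain ⟨r, hr, hrd⟩ := Nat.exists_prime_and_dvd
    (show orderOf e ≠ 1 from fun h => he1 (Subgroup.mem_bot.2 (orderOf_eq_one_iff.1 h)))
  haveI := Fact.mk hr
  set g := e ^ (orderOf e / r)
  have hg : orderOf g = r := by
    rw [orderOf_pow_of_dvd (Nat.div_pos (Nat.le_of_dvd (orderOf_pos e) hrd) hr.pos).ne'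
      (Nat.div_dvd_of_dvd hrd), Nat.div_div_self hrd (orderOf_pos e).ne']
  have hgF : g ∈ F := pow_mem he.1 _
  obtain ⟨P, hP⟩ := (IsPGroup.of_card (p := r) (n := 1) (by
    rw [Nat.card_zpowers, Subgroup.orderOf_mk, hg, pow_one] :
    Nat.card (Subgroup.zpowers (⟨g, hgF⟩ : F)) = r ^ 1)).exists_le_sylow
  haveI : (P : Subgroup F).Normal := inferInstance
  haveI : (P : Subgroup F).Characteristic := P.characteristic_of_normal inferInstance
  have hmem : g ∈ (P : Subgroup F).map F.subtype ⊓ S.E' :=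
    ⟨⟨_, hP (Subgroup.mem_zpowers _), rfl⟩, pow_mem he.2 _⟩
  rw [hfit r hr _ inferInstance (P.isPGroup'.map _), Subgroup.mem_bot] at hmem
  rw [hmem, orderOf_one] at hg
  exact hr.ne_one hg.symm

/-- The inverted elements form the Fitting subgroup. -/
theorem mem_fitting_iff_inverted {p : S.D} :
    p ∈ Cfsg.fittingSubgroup S.D ↔ S.w p = p⁻¹ := by
  haveI hsol : Group.IsSolvable S.D := Cfsg.Agent.S0205.result S.odd
  haveI hc : (Cfsg.fittingSubgroup S.D).Characteristic :=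
    CfsgLib.Solvable.fittingSubgroup_characteristic
  have hN : ∀ n ∈ Cfsg.fittingSubgroup S.D, S.w n ∈ Cfsg.fittingSubgroup S.D := fun n hn =>
    Subgroup.characteristic_iff_map_le.1 hc S.w ⟨n, hn, rfl⟩
  have hinv := S.inverted_of_inf_fixed_eq_bot hN (S.fitting_inf_fixed hfit)
  refine ⟨hinv p, fun hp => CfsgLib.Solvable.centralizer_fittingSubgroup_le ?_⟩
  exact Subgroup.mem_centralizer_iff.2 fun a ha =>
    (S.commute_of_inverted hp (hinv a ha) (hinv _
      ((inferInstance : (Cfsg.fittingSubgroup S.D).Normal).conj_mem a ha p))).eq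

/-- The inverted elements: an abelian normal subgroup, self centralising, a complement of `C_D(w)`
and of `C_D(t)`, in bijection with the involutions. -/
theorem exists_inverted_complement : ∃ A : Subgroup S.D, A.Normal ∧
    (∀ a ∈ A, ∀ b ∈ A, Commute a b) ∧ (∀ p, p ∈ A ↔ S.w p = p⁻¹) ∧
    Subgroup.centralizer (A : Set S.D) ≤ A ∧ Subgroup.IsComplement' A S.E' ∧
    Subgroup.IsComplement' A S.E ∧ Nat.card A = Nat.card {s : H // IsConj S.t s} := by
  classical
  haveI hsol : Group.IsSolvable S.D := Cfsg.Agent.S0205.result S.odd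
  haveI hn : (Cfsg.fittingSubgroup S.D).Normal := CfsgLib.Solvable.fittingSubgroup_normal
  have hmem := fun p => S.mem_fitting_iff_inverted hfit (p := p)
  set A := Cfsg.fittingSubgroup S.D with hA
  have hcomm : ∀ a ∈ A, ∀ b ∈ A, Commute a b := fun a ha b hb =>
    (S.commute_of_inverted ((hmem b).1 hb) ((hmem a).1 ha)
      ((hmem _).1 (hn.conj_mem a ha b)))
  have hC' : Subgroup.IsComplement' A S.E' := by
    refine Subgroup.isComplement'_of_disjoint_and_mul_eq_univ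
      (disjoint_iff.2 (S.fitting_inf_fixed hfit)) (Set.eq_univ_of_forall fun d => ?_)
    obtain ⟨p, hp, hpd⟩ := Gelfand.exists_decomp (E := S.E') S.odd S.w_w (fun _ => Iff.rfl) d
    exact ⟨p, (hmem p).2 hp, p⁻¹ * d, hpd, mul_inv_cancel_left p d⟩
  have hAE : A ⊓ S.E = ⊥ := by
    rw [eq_bot_iff]
    intro a ha
    obtain ⟨c, hc⟩ := (S.star a).1 ⟨1, by
      rw [one_mul, inv_one, mul_one]; exact S.mem_E.1 ha.2⟩
    have h1 : c * a * c⁻¹ ∈ A ⊓ S.E' := ⟨hn.conj_mem a ha.1 c, hc⟩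
    rw [S.fitting_inf_fixed hfit, Subgroup.mem_bot, mul_inv_eq_one, mul_eq_left] at h1
    exact Subgroup.mem_bot.2 h1
  have hC : Subgroup.IsComplement' A S.E := by
    refine Subgroup.isComplement'_of_card_mul_and_disjoint ?_ (disjoint_iff.2 hAE)
    have h1 := hC'.card_mul_card
    have h2 : Nat.card S.E' = Nat.card S.E :=
      S.card_fix.trans (Nat.card_congr (Equiv.subtypeEquivRight fun d => S.mem_E.symm))
    rwa [h2] at h1
  refine ⟨A, hn, hcomm, hmem, CfsgLib.Solvable.centralizer_fittingSubgroup_le, hC', hC, ?_⟩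
  refine Nat.card_eq_of_bijective
    (fun a => (⟨((a : S.D) : H) * S.t * ((a : S.D) : H)⁻¹, isConj_iff.2 ⟨_, rfl⟩⟩ :
      {s : H // IsConj S.t s})) ⟨?_, ?_⟩
  · rintro a b hab
    have h1 : ((a⁻¹ * b : A) : S.D) ∈ A ⊓ S.E := by
      refine ⟨(a⁻¹ * b).2, S.mem_E.2 ?_⟩
      have h2 : ((a : S.D) : H) * S.t * ((a : S.D) : H)⁻¹ =
        ((b : S.D) : H) * S.t * ((b : S.D) : H)⁻¹ := congrArg Subtype.val hab
      show ((((a : S.D)⁻¹ * (b : S.D)) : S.D) : H) * S.t = _
      rw [Subgroup.coe_mul, Subgroup.coe_inv]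
      calc ((a : S.D) : H)⁻¹ * ((b : S.D) : H) * S.t
          = ((a : S.D) : H)⁻¹ * (((b : S.D) : H) * S.t * ((b : S.D) : H)⁻¹) * ((b : S.D) : H) := by
            group
        _ = S.t * (((a : S.D) : H)⁻¹ * ((b : S.D) : H)) := by rw [← h2]; group
    rw [hAE, Subgroup.mem_bot] at h1
    exact inv_mul_eq_one.1 (Subtype.ext h1)
  · rintro ⟨s, hs⟩
    obtain ⟨h, rfl⟩ := isConj_iff.1 hs
    obtain ⟨d, hd, hds⟩ := S.cover h
    obtain ⟨⟨⟨a, ha⟩, ⟨e, he⟩⟩, hae⟩ := hC.2 ⟨d, hd⟩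
    refine ⟨⟨a, ha⟩, Subtype.ext ?_⟩
    have h1 : (a : H) * e = d := congrArg Subtype.val hae
    show (a : H) * S.t * (a : H)⁻¹ = h * S.t * h⁻¹
    rw [← hds, ← h1]
    have h3 : (e : H) * S.t = S.t * e := S.mem_E.1 he
    calc (a : H) * S.t * (a : H)⁻¹ = (a : H) * (S.t * e) * (e : H)⁻¹ * (a : H)⁻¹ := by group
      _ = _ := by rw [← h3]; group

end CfsgLib.BenderWorld.Shape.Setup
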