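import Cfsg.Agent.BenderWorld.Shape.Kernel.Lemma
import Cfsg.Agent.BenderWorld.Shape.Fitting
import Cfsg.Agent.BenderWorld.Shape.NoPair
import Cfsg.Agent.BenderWorld.Shape.Burnside
import Cfsg.Agent.PLocal.Cores

/-!
# The kernel property

Steps 2 and 3 of the MIXED note: unless all involutions commute, every nonreal constituent of the
permutation character on the involutions has them in its kernel.
-/

set_option autoImplicit false
set_option linter.unusedSectionVars false
set_option linter.style.haveILetI false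

namespace CfsgLib.BenderWorld.Shape.Setup

attribute [local instance high] Fintype.ofFinite

universe u

variable {H : Type u} [Group H] [Finite H] (S : Setup H)

/-- A nontrivial normal subgroup of prime power order fixed by `w`: all involutions commute. -/
theorem commute_of_normal_fixed {N : Subgroup S.D} [hN : N.Normal] {r : ℕ} (hr : r.Prime)
    (hNp : IsPGroup r N) (hN1 : N ≠ ⊥) (hfix : ∀ n ∈ N, S.w n = n) (u v : H) (hu : orderOf u = 2)
    (hv : orderOf v = 2) : Commute u v := by
  obtain ⟨c, hc⟩ := (S.star_pGroup r hr N hNp).2 ⟨1, fun n hn => by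
    rw [one_mul, inv_one, mul_one]; exact hfix n hn⟩
  obtain ⟨n, hn, hn1⟩ := N.bot_or_exists_ne_one.resolve_left hN1
  -- `N` centralises every involution
  have hcent : ∀ m ∈ N, ∀ s : H, IsConj S.t s → Commute ((m : S.D) : H) s := by
    intro m hm s hs
    obtain ⟨h, rfl⟩ := isConj_iff.1 hs
    obtain ⟨d, hd, hdt⟩ := S.cover h
    rw [← hdt]
    set e : S.D := ⟨d, hd⟩
    have h1 := hc (c⁻¹ * (e⁻¹ * m * e) * c) (by
      have := hN.conj_mem _ (hN.conj_mem m hm e⁻¹) c⁻¹
      simpa [mul_assoc] using this)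
    rw [show c * (c⁻¹ * (e⁻¹ * m * e) * c) * c⁻¹ = e⁻¹ * m * e by group] at h1
    have h2 := h1.map (MulAut.conj d).toMonoidHom
    simp only [MulEquiv.coe_toMonoidHom, MulAut.conj_apply, Subgroup.coe_mul, Subgroup.coe_inv, e] at h2
    convert h2 using 1
    group
  have key : ∀ s : H, IsConj S.t s → Commute s S.t := fun s hs =>
    S.commute_cent n hn1 (hcent n hn S.t (IsConj.refl _)) s hs (hcent n hn s hs)
  obtain ⟨a, rfl⟩ := isConj_iff.1 (S.oneClass u hu)
  have h1 := key (a⁻¹ * v * a) (S.oneClass _ (by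
    have h2 := MulEquiv.orderOf_eq (MulAut.conj a⁻¹) v
    rw [MulAut.conj_apply, inv_inv] at h2
    rw [h2, hv]))
  have h2 := h1.map (MulAut.conj a).toMonoidHom
  simp only [MulEquiv.coe_toMonoidHom, MulAut.conj_apply] at h2
  convert h2.symm using 1
  group

/-- **The kernel property.** -/
theorem kernelProperty (hne : ∃ u v : H, orderOf u = 2 ∧ orderOf v = 2 ∧ ¬ Commute u v) :
    S.KernelProperty := by
  classical
  obtain ⟨u₀, v₀, hu₀, hv₀, huv⟩ := hne
  by_cases hfit : ∀ r : ℕ, r.Prime → ∀ N : Subgroup S.D, N.Normal → IsPGroup r N → N ⊓ S.E' = ⊥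
  swap
  · -- some core meets `C_D(w)`
    push Not at hfit
    obtain ⟨r, hr, N, hN, hNp, hNE⟩ := hfit
    obtain ⟨y, hy, hy1⟩ := (N ⊓ S.E').bot_or_exists_ne_one.resolve_left hNE
    haveI := Fact.mk hr
    haveI := hN
    set O := Cfsg.pCore r S.D
    haveI hOc : O.Characteristic := CfsgLib.Solvable.pCore_characteristic r
    have hyO : y ∈ O := CfsgLib.PLocal.le_pCore hNp hy.1
    have hOp := CfsgLib.PLocal.isPGroup_pCore r S.D
    set M := (Subgroup.center O).map O.subtype
    haveI hMc : M.Characteristic := inferInstance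
    haveI : Nontrivial O := ⟨⟨y, hyO⟩, 1, fun e => hy1 (congrArg Subtype.val e)⟩
    have hM1 : M ≠ ⊥ := fun e => by
      haveI := hOp.center_nontrivial
      rw [Subgroup.map_eq_bot_iff_of_injective _ O.subtype_injective] at e
      exact (Subgroup.nontrivial_iff_ne_bot _).1 inferInstance e
    have hMcomm : ∀ a ∈ M, ∀ b ∈ M, Commute a b := by
      rintro _ ⟨a, ha, rfl⟩ _ ⟨b, -, rfl⟩
      exact (congrArg Subtype.val (Subgroup.mem_center_iff.1 ha b)).symm
    have hMw : ∀ n ∈ M, S.w n ∈ M := fun n hn =>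
      Subgroup.characteristic_iff_map_le.1 hMc S.w ⟨n, hn, rfl⟩
    have hyM : ∀ n ∈ M, Commute y n := by
      rintro _ ⟨a, ha, rfl⟩
      exact congrArg Subtype.val (Subgroup.mem_center_iff.1 ha ⟨y, hyO⟩)
    intro χ hχ hp hreal
    obtain ⟨k, hk, hkw, hk1⟩ : ∃ k ∈ M, S.w k = k⁻¹ ∧ k ≠ 1 := by
      by_contra! hno
      refine huv (S.commute_of_normal_fixed hr (hOp.to_le (Subgroup.map_subtype_le _)) hM1
        (fun n hn => ?_) u₀ v₀ hu₀ hv₀)
      have h1 := hno (n * (S.w n)⁻¹) (mul_mem hn (inv_mem (hMw n hn))) (by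
        rw [map_mul, map_inv, S.w_w, mul_inv_rev, inv_inv])
      exact (mul_inv_eq_one.1 h1).symm
    exact S.kernel_of_centralized hχ hp hreal M hMcomm hMw hy1 hy.2 hk hkw hk1 fun n hn _ => hyM n hn
  obtain ⟨A, hA, hAc, hmem, hself, hcompl, -, hcard⟩ := S.exists_inverted_complement hfit
  haveI := hA
  by_cases hcop : Nat.Coprime (Nat.card A) (Nat.card S.E')
  · exact kernel_of_coprime S A (fun a ha b hb => (hAc a ha b hb).eq) hcompl hcop
  obtain ⟨r, hr, hrA, hrE⟩ := (Nat.Prime.not_coprime_iff_dvd).1 hcop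
  intro χ hχ hp hreal
  have hAw : ∀ n ∈ A, S.w n ∈ A := fun n hn => by rw [(hmem n).1 hn]; exact inv_mem hn
  by_contra hker
  -- no element of `C_D(w)` centralises a nontrivial normal subgroup inside `A`
  have hno : ∀ y : S.D, y ∈ S.E' → y ≠ 1 → ∀ N : Subgroup S.D, N.Normal → N ≤ A →
      (∀ n ∈ N, Commute y n) → N = ⊥ := by
    intro y hy hy1 N hN hNA hyN
    by_contra hN1
    obtain ⟨k, hk, hk1⟩ := N.bot_or_exists_ne_one.resolve_left hN1
    haveI := hN
    exact hker (S.kernel_of_centralized hχ hp hreal N (fun a ha b hb => hAc a (hNA ha) b (hNA hb))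
      (fun n hn => by rw [(hmem n).1 (hNA hn)]; exact inv_mem hn) hy1 hy hk ((hmem k).1 (hNA hk)) hk1
      fun n hn _ => hyN n hn)
  letI : CommGroup A :=
    { (inferInstance : Group A) with mul_comm := fun a b => Subtype.ext (hAc a a.2 b b.2).eq }
  letI : MulDistribMulAction S.E' A :=
    MulDistribMulAction.compHom A ((MulAut.conjNormal (H := A)).comp S.E'.subtype)
  have hsmul : ∀ (x : S.E') (a : A), x • a = a ↔ Commute (x : S.D) (a : S.D) := fun x a => by
    rw [Subtype.ext_iff]
    show (x : S.D) * a * (x : S.D)⁻¹ = a ↔ _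
    exact mul_inv_eq_iff_eq_mul
  refine no_pair (A := A) (E := S.E') (S.odd.of_dvd_nat (Subgroup.card_subgroup_dvd_card _)) ?_ ?_ hr
    hrA hrE ?_
  · -- `C_A(x)` is cyclic
    intro x hx K hK
    by_contra hK'
    have hx1 : (x : S.D) ≠ 1 := fun e => hx (Subtype.ext e)
    obtain ⟨k, hk, hk1⟩ := K.bot_or_exists_ne_one.resolve_left fun e => hK' (by
      subst e; infer_instance)
    -- the involutions centralised by `x`
    set X := Nat.card {s : H // IsConj S.t s ∧ ((x : S.D) : H) * s * ((x : S.D) : H)⁻¹ = s}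
    have hXpos : 0 < X := by
      rw [show X = _ from (S.card_swap (x : S.D)).symm]
      exact Nat.card_pos_iff.2 ⟨⟨⟨(k : S.D), (hmem _).1 k.2, by
        rw [mul_assoc, ((hsmul x k).1 (hK k hk)).eq, inv_mul_cancel_left, S.mem_E'.1 x.2]⟩⟩, inferInstance⟩
    obtain ⟨⟨s₀, hs₀⟩⟩ := (Nat.card_pos_iff.1 hXpos).1
    let Z : Subgroup H :=
      { carrier := {s | s = 1 ∨ (IsConj S.t s ∧ Commute ((x : S.D) : H) s)}
        one_mem' := Or.inl rfl
        mul_mem' := by
          rintro a b (rfl | ha) hb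
          · rwa [one_mul]
          rcases hb with rfl | hb
          · rw [mul_one]; exact Or.inr ha
          rcases eq_or_ne a b with rfl | hne
          · exact Or.inl (S.mul_self_of_isConj ha.1)
          have hab := S.commute_of_fixed hx1 ha.1 hb.1 ha.2 hb.2
          refine Or.inr ⟨S.oneClass _ (orderOf_eq_prime ?_ fun e => hne ?_), ha.2.mul_right hb.2⟩
          · rw [pow_two, mul_assoc, ← mul_assoc b, ← hab.eq, mul_assoc a b, S.mul_self_of_isConj hb.1,
              mul_one, S.mul_self_of_isConj ha.1]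
          · rw [eq_inv_of_mul_eq_one_left e, inv_eq_of_mul_eq_one_right (S.mul_self_of_isConj hb.1)]
        inv_mem' := by
          rintro a (rfl | ha)
          · exact Or.inl inv_one
          · exact Or.inr (by rw [inv_eq_of_mul_eq_one_right (S.mul_self_of_isConj ha.1)]; exact ha) }
    let φ : A →* H := S.D.subtype.comp A.subtype
    have hφ : Function.Injective φ := S.D.subtype_injective.comp A.subtype_injective
    set KH := K.map φ
    haveI : IsMulCommutative KH := ⟨⟨fun a b => by
      obtain ⟨a', -, ha'⟩ := a.2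
      obtain ⟨b', -, hb'⟩ := b.2
      refine Subtype.ext ?_
      show (a : H) * b = b * a
      rw [← ha', ← hb', ← map_mul, ← map_mul, mul_comm]⟩⟩
    have hnc : ¬ IsCyclic KH := fun h => hK' (isCyclic_of_injective
      (K.equivMapOfInjective φ hφ).toMonoidHom (MulEquiv.injective _))
    have hKn : KH ≤ Subgroup.normalizer (Z : Set H) := by
      refine Subgroup.le_normalizer_iff.2 ?_
      rintro _ ⟨a, ha, rfl⟩ z (rfl | ⟨hz, hxz⟩)
      · exact Or.inl (by group)
      refine Or.inr ⟨hz.trans (isConj_iff.2 ⟨_, rfl⟩), ?_⟩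
      have hxa : Commute ((x : S.D) : H) (φ a) := congrArg Subtype.val ((hsmul x a).1 (hK a ha)).eq
      exact (hxa.mul_right hxz).mul_right hxa.inv_right
    have hcopKZ : (Nat.card KH).Coprime (Nat.card Z) := by
      obtain ⟨j, hj⟩ := IsPGroup.iff_card.1 (show IsPGroup 2 Z from fun z => ⟨1, Subtype.ext (by
        rw [pow_one, Subgroup.coe_pow, pow_two]
        rcases z.2 with hz | hz
        · rw [hz, one_mul]; rfl
        · exact S.mul_self_of_isConj hz.1)⟩)
      rw [hj]
      refine Nat.Coprime.pow_right _ (Nat.coprime_two_right.2 ?_)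
      rw [Subgroup.card_map_of_injective hφ]
      exact S.odd.of_dvd_nat ((Subgroup.card_subgroup_dvd_card K).trans (Subgroup.card_subgroup_dvd_card A))
    have hle := CfsgLib.Coprime.le_of_forall_inf_centralizer_le (G := Z) (A := KH) (W := ⊥) hnc hKn
      hcopKZ fun v hv hv1 => by
        rintro z ⟨hz, hzv⟩
        obtain ⟨a, ha, rfl⟩ := hv
        rcases hz with hz | ⟨hz, -⟩
        · rw [hz]; exact one_mem _
        exfalso
        exact S.not_commute_of_inverted (k := (a : S.D)) ((hmem _).1 a.2)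
          (fun e => hv1 (by rw [show a = 1 from Subtype.ext e, map_one])) hz
          (Subgroup.mem_centralizer_singleton_iff.1 hzv).symm
    have h1 : s₀ ∈ Z := Or.inr ⟨hs₀.1, mul_inv_eq_iff_eq_mul.1 hs₀.2⟩
    have h2 := S.orderOf_of_isConj hs₀.1
    rw [Subgroup.mem_bot.1 (hle h1), orderOf_one] at h2
    omega
  · -- normal subgroups of `C_D(w)` fix nothing
    intro Y hY hY1 a ha
    let N : Subgroup A :=
      { carrier := {b | ∀ y ∈ Y, y • b = b}
        one_mem' := fun y _ => smul_one y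
        mul_mem' := fun {b c} hb hc y hy => by rw [smul_mul', hb y hy, hc y hy]
        inv_mem' := fun {b} hb y hy => by rw [smul_inv', hb y hy] }
    obtain ⟨y, hy, hy1⟩ := Y.bot_or_exists_ne_one.resolve_left hY1
    have hN : (N.map A.subtype).Normal := by
      refine ⟨?_⟩
      rintro _ ⟨b, hb, rfl⟩ g
      obtain ⟨⟨a', e⟩, rfl⟩ := hcompl.2 g
      refine ⟨e • b, ?_, ?_⟩
      · intro z hz
        have h1 := hb _ (hY.conj_mem z hz e⁻¹)
        rw [inv_inv, mul_smul, mul_smul, inv_smul_eq_iff] at h1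
        exact h1
      · show (e : S.D) * b * (e : S.D)⁻¹ = (a' : S.D) * e * b * ((a' : S.D) * e)⁻¹
        have h2 : Commute (a' : S.D) ((e : S.D) * b * (e : S.D)⁻¹) :=
          hAc _ a'.2 _ (hA.conj_mem b b.2 (e : S.D))
        calc (e : S.D) * b * (e : S.D)⁻¹
            = (a' : S.D) * ((e : S.D) * b * (e : S.D)⁻¹) * (a' : S.D)⁻¹ := by
              rw [h2.eq, mul_inv_cancel_right]
          _ = _ := by group
    have h3 := hno (y : S.D) y.2 (fun e => hy1 (Subtype.ext e)) _ hN (Subgroup.map_subtype_le _) (by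
      rintro _ ⟨b, hb, rfl⟩
      exact (hsmul y b).1 (hb y hy))
    rw [Subgroup.map_eq_bot_iff_of_injective _ A.subtype_injective] at h3
    exact Subgroup.mem_bot.1 (h3 ▸ (show a ∈ N from ha))
  · -- no quotient of order `r`
    intro f
    let π : S.E' →* S.D ⧸ A := (QuotientGroup.mk' A).comp S.E'.subtype
    have hπ : Function.Bijective π := by
      refine ⟨(injective_iff_map_eq_one π).2 fun e he => ?_, fun q => ?_⟩
      · have h4 : (e : S.D) ∈ A ⊓ S.E' := ⟨(QuotientGroup.eq_one_iff _).1 he, e.2⟩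
        rw [hcompl.disjoint.eq_bot, Subgroup.mem_bot] at h4
        exact Subtype.ext h4
      · obtain ⟨g, rfl⟩ := QuotientGroup.mk_surjective q
        obtain ⟨⟨a, e⟩, rfl⟩ := hcompl.2 g
        refine ⟨e, ?_⟩
        show ((e : S.D) : S.D ⧸ A) = ((a : S.D) * e : S.D)
        rw [QuotientGroup.mk_mul, (QuotientGroup.eq_one_iff _).2 a.2, one_mul]
    let Φ : S.D →* Multiplicative (ZMod r) :=
      (f.comp (MulEquiv.ofBijective π hπ).symm.toMonoidHom).comp (QuotientGroup.mk' A)
    have hΦ : Φ = 1 := S.noQuotient r hr (hcard ▸ hrA) Φ fun p hp => by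
      show f _ = 1
      rw [show QuotientGroup.mk' A p = 1 from (QuotientGroup.eq_one_iff _).2 ((hmem p).2 hp)]
      simp
    refine MonoidHom.ext fun e => ?_
    have h5 := DFunLike.congr_fun hΦ (e : S.D)
    rwa [show Φ (e : S.D) = f e from congrArg f ((MulEquiv.ofBijective π hπ).symm_apply_apply e)] at h5

end CfsgLib.BenderWorld.Shape.Setup
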