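import Cfsg.Agent.BenderWorld.Shape.Socle
import Cfsg.Agent.BenderWorld.Shape.Fitting
import Cfsg.Agent.BenderHThree.World

/-!
# The involutions commute when every involution of the block of `t` is swapped with it

Step 5 of `docs/bender_sliceG_mixed_helper81.md`: `M = T1 ⊔ C(t)` is the stabiliser of the block `B = t ^ T1`.
By (F3) no non-identity element of `C_D(t)` fixes another point of `B`.  If a normal subgroup of prime power order
of `D` meets `C_D(t)`, the block is a point.  Otherwise the inverted elements give the configuration of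
`BenderHThree.World` inside `M`, so `t` is in `O_2(M)`.
-/

set_option autoImplicit false
set_option linter.style.haveILetI false

namespace CfsgLib.BenderWorld.Shape.Setup

universe u

variable {H : Type u} [Group H] [Finite H] (S : Setup H)

/-- The stabiliser of the block of `t`. -/
def blockStab : Subgroup H := S.T1 ⊔ Subgroup.centralizer ({S.t} : Set H)

theorem mem_blockStab {x : H} : x ∈ S.blockStab ↔ ∃ g ∈ S.T1, x * S.t * x⁻¹ = g * S.t * g⁻¹ := by
  constructor
  · intro hx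
    obtain ⟨g, hg, c, hc, rfl⟩ := Subgroup.mem_sup_of_normal_left.1 hx
    refine ⟨g, hg, ?_⟩
    calc g * c * S.t * (g * c)⁻¹ = g * (c * S.t) * c⁻¹ * g⁻¹ := by group
      _ = g * S.t * g⁻¹ := by rw [Subgroup.mem_centralizer_singleton_iff.1 hc]; group
  · rintro ⟨g, hg, he⟩
    refine Subgroup.mem_sup_of_normal_left.2 ⟨g, hg, g⁻¹ * x, ?_, by group⟩
    rw [Subgroup.mem_centralizer_singleton_iff]
    calc g⁻¹ * x * S.t = g⁻¹ * (x * S.t * x⁻¹) * x := by group
      _ = S.t * (g⁻¹ * x) := by rw [he]; group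

theorem T1_le_blockStab : S.T1 ≤ S.blockStab := le_sup_left

/-- The stabiliser of the block in `D`. -/
def blockD : Subgroup S.D := S.blockStab.subgroupOf S.D

theorem mem_blockD {d : S.D} : d ∈ S.blockD ↔ (d : H) ∈ S.blockStab := Subgroup.mem_subgroupOf

/-- All suborbits inside the block are self paired. -/
def Swapped : Prop :=
  ∀ g ∈ S.T1, ∃ k : H, k * S.t * k⁻¹ = g * S.t * g⁻¹ ∧ k * (g * S.t * g⁻¹) * k⁻¹ = S.t

variable (hswap : S.Swapped)
include hswap

/-- A non-identity element of `C_D(t)` fixes only `t` in the block. -/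
theorem fix_unique {e y : S.D} (he : e ≠ 1) (het : Commute (e : H) S.t) (hy : y ∈ S.blockD)
    (hey : Commute (e : H) ((y : H) * S.t * (y : H)⁻¹)) : Commute (y : H) S.t := by
  obtain ⟨g, hg, hgy⟩ := S.mem_blockStab.1 (S.mem_blockD.1 hy)
  by_contra hne
  refine S.noSwap e he het _ (isConj_iff.2 ⟨(y : H), rfl⟩) (fun h => hne ?_) hey ?_
  · exact mul_inv_eq_iff_eq_mul.1 h
  · rw [hgy]; exact hswap g hg

variable (hnc : ¬ ∀ u v : H, orderOf u = 2 → orderOf v = 2 → Commute u v)
include hnc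

/-- Case A is empty. -/
theorem inf_fixed_eq_bot {r : ℕ} (hr : r.Prime) (N : Subgroup S.D) (hN : N.Normal) (hNr : IsPGroup r N) :
    N ⊓ S.E' = ⊥ := by
  classical
  haveI := Fact.mk hr
  rw [eq_bot_iff]
  intro n hn
  by_contra hn1
  rw [Subgroup.mem_bot] at hn1
  obtain ⟨c, hc⟩ := (S.star n).2 ⟨1, by rw [one_mul, inv_one, mul_one]; exact hn.2⟩
  set e := c * n * c⁻¹
  have he1 : e ≠ 1 := fun h => hn1 (by rwa [mul_inv_eq_one, mul_eq_left] at h)
  set Q : Subgroup S.D := N ⊓ S.blockD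
  have hEL : S.E ≤ S.blockD := fun d hd =>
    S.mem_blockD.2 (Subgroup.mem_sup_right (Subgroup.mem_centralizer_singleton_iff.2 (S.mem_E.1 hd)))
  have heQ : e ∈ Q := ⟨hN.conj_mem n hn.1 c, hEL (S.mem_E.2 hc)⟩
  haveI : Group.IsNilpotent Q := (hNr.to_le inf_le_left).isNilpotent
  -- `Q` is contained in `C_D(t)`
  have hK : S.E.subgroupOf Q = ⊤ := by
    by_contra hne
    have hlt := Group.normalizerCondition_of_isNilpotent (S.E.subgroupOf Q) (lt_top_iff_ne_top.2 hne)
    obtain ⟨y, hy, hyK⟩ := SetLike.exists_of_lt hlt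
    refine hyK (Subgroup.mem_subgroupOf.2 (S.mem_E.2 ?_))
    have hmem := (Subgroup.mem_normalizer_iff.1 hy (y⁻¹ * ⟨e, heQ⟩ * y)).2
      (by simpa [Subgroup.mem_subgroupOf, mul_assoc] using S.mem_E.2 hc)
    rw [Subgroup.mem_subgroupOf, S.mem_E] at hmem
    refine S.fix_unique hswap he1 hc y.2.2 ?_
    have h1 := hmem.map (MulAut.conj ((y : S.D) : H)).toMonoidHom
    simpa [mul_assoc] using h1
  obtain ⟨g, hg, hgt⟩ := S.exists_not_commute hnc
  obtain ⟨d, hd, hdt⟩ := S.cover g
  have hdL : (⟨d, hd⟩ : S.D) ∈ S.blockD := S.mem_blockD.2 (S.mem_blockStab.2 ⟨g, hg, hdt⟩)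
  have hq : (⟨d, hd⟩ : S.D)⁻¹ * e * ⟨d, hd⟩ ∈ Q := by
    refine ⟨?_, mul_mem (mul_mem (S.blockD.inv_mem hdL) heQ.2) hdL⟩
    simpa using hN.conj_mem e heQ.1 (⟨d, hd⟩ : S.D)⁻¹
  have h1 : Commute (((⟨d, hd⟩ : S.D)⁻¹ * e * ⟨d, hd⟩ : S.D) : H) S.t :=
    S.mem_E.1 (Subgroup.mem_subgroupOf.1 (hK ▸ Subgroup.mem_top (⟨_, hq⟩ : Q)))
  have h2 := h1.map (MulAut.conj d).toMonoidHom
  have h3 := S.fix_unique hswap he1 hc hdL (y := ⟨d, hd⟩) (by simpa [mul_assoc] using h2)
  refine hgt ?_
  rw [← hdt, h3.eq, mul_inv_cancel_right]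

theorem false_of_swapped : False := by
  classical
  obtain ⟨A, hAn, hAc, -, -, -, hC, hAcard⟩ :=
    S.exists_inverted_complement fun r hr N hN hNr => S.inf_fixed_eq_bot hswap hnc hr N hN hNr
  haveI := hAn
  set M := S.blockStab
  set AB : Subgroup S.D := A ⊓ S.blockD with hAB
  set D1 : Subgroup M := (AB.map S.D.subtype).subgroupOf M with hD1
  have hmem1 : ∀ x : M, x ∈ D1 ↔ ∃ a ∈ A, (a : H) = x := by
    intro x
    rw [hD1, Subgroup.mem_subgroupOf, Subgroup.mem_map]
    constructor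
    · rintro ⟨a, ha, h⟩; exact ⟨a, ha.1, h⟩
    · rintro ⟨a, ha, h⟩; exact ⟨a, ⟨ha, S.mem_blockD.2 (h ▸ x.2)⟩, h⟩
  have hfree : ∀ a ∈ A, Commute (a : H) S.t → a = 1 := fun a ha h =>
    Subgroup.disjoint_def.1 hC.disjoint ha (S.mem_E.2 h)
  -- `C_D(t)` is semiregular on the inverted elements of the block
  have hsemi : ∀ e : S.D, e ≠ 1 → Commute (e : H) S.t → ∀ a ∈ AB, Commute e a → a = 1 := by
    intro e he het a ha hea
    refine hfree a ha.1 (S.fix_unique hswap he het ha.2 ?_)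
    have h1 : Commute (e : H) (a : H) := hea.map S.D.subtype
    exact (h1.mul_right het).mul_right h1.inv_right
  have hcard1 : Nat.card D1 = Nat.card AB := by
    rw [hD1, Nat.card_congr (Subgroup.subgroupOfEquivOfLe ?_).toEquiv,
      Subgroup.card_map_of_injective S.D.subtype_injective]
    rintro _ ⟨a, ha, rfl⟩
    exact S.mem_blockD.1 ha.2
  have hcop : Nat.Coprime (Nat.card D1)
      (Nat.card (Subgroup.centralizer ({(⟨S.t, S.T1_le_blockStab S.t_mem_T1⟩ : M)} : Set M))) := by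
    refine Nat.coprime_of_dvd fun p hp h1 h2 => ?_
    haveI := Fact.mk hp
    obtain ⟨x, hx⟩ := exists_prime_orderOf_dvd_card' p h2
    have hxt : Commute ((x : M) : H) S.t :=
      congrArg Subtype.val (Subgroup.mem_centralizer_singleton_iff.1 x.2)
    have hxo : orderOf ((x : M) : H) = p := by rw [Subgroup.orderOf_coe, Subgroup.orderOf_coe]; exact hx
    rw [hcard1] at h1
    obtain ⟨h, hht, hhD⟩ := S.primeInto _ hxt (hxo ▸ hp) (by
      rw [hxo, ← hAcard]; exact h1.trans (Subgroup.card_dvd_of_le inf_le_left))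
    set e : S.D := ⟨_, hhD⟩ with he
    have heo : orderOf e = p := by
      rw [← Subgroup.orderOf_coe, he, Subgroup.coe_mk, ← MulAut.conj_apply, MulEquiv.orderOf_eq, hxo]
    have het : Commute (e : H) S.t := (hht.mul_left hxt).mul_left hht.inv_left
    have heL : e ∈ S.blockD :=
      S.mem_blockD.2 (Subgroup.mem_sup_right (Subgroup.mem_centralizer_singleton_iff.2 het))
    set L := S.blockD
    let P : Subgroup L := Subgroup.zpowers ⟨e, heL⟩
    have hP : IsPGroup p P := IsPGroup.of_card (n := 1) (by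
      rw [Nat.card_zpowers, Subgroup.orderOf_mk, heo, pow_one])
    letI : MulAction P (A.subgroupOf L) :=
      MulAction.compHom _ ((MulAut.conjNormal : L →* MulAut (A.subgroupOf L)).comp P.subtype)
    have hdvd : p ∣ Nat.card (A.subgroupOf L) := by
      rw [← Subgroup.inf_subgroupOf_right, Nat.card_congr (Subgroup.subgroupOfEquivOfLe inf_le_right).toEquiv]
      exact h1
    have hone : (1 : A.subgroupOf L) ∈ MulAction.fixedPoints P (A.subgroupOf L) := fun z => by
      show MulAut.conjNormal (z : L) (1 : A.subgroupOf L) = 1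
      rw [map_one]
    obtain ⟨b, hb, hb1⟩ := hP.exists_fixed_point_of_prime_dvd_card_of_fixed_point (A.subgroupOf L) hdvd hone
    have hfix := congrArg (fun z : A.subgroupOf L => ((z : L) : S.D)) (hb ⟨⟨e, heL⟩, Subgroup.mem_zpowers _⟩)
    have hcomm : Commute e ((b : L) : S.D) := mul_inv_eq_iff_eq_mul.1 hfix
    refine hb1 (Subtype.ext (Subtype.ext ?_))
    exact (hsemi e (fun h => hp.ne_one (by rw [← heo, h, orderOf_one])) het _
      ⟨b.2, (b : L).2⟩ hcomm).symm
  let W : BenderHThree.World M :=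
    { t := ⟨S.t, S.T1_le_blockStab S.t_mem_T1⟩
      D1 := D1
      D := S.D.subgroupOf M
      ht := by rw [Subgroup.orderOf_mk]; exact S.ht
      comm := fun a ha b hb => by
        obtain ⟨a', ha', ea⟩ := (hmem1 a).1 ha
        obtain ⟨b', hb', eb⟩ := (hmem1 b).1 hb
        apply Subtype.ext
        rw [Subgroup.coe_mul, Subgroup.coe_mul, ← ea, ← eb]
        exact ((hAc a' ha' b' hb').map S.D.subtype).eq
      le := fun a ha => by
        obtain ⟨a', -, ea⟩ := (hmem1 a).1 ha
        exact Subgroup.mem_subgroupOf.2 (ea ▸ a'.2)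
      norm := fun n hn a ha => by
        obtain ⟨a', ha', ea⟩ := (hmem1 a).1 ha
        exact (hmem1 _).2 ⟨⟨n, hn⟩ * a' * ⟨n, hn⟩⁻¹, hAn.conj_mem a' ha' _, by simp [ea]⟩
      odd := S.odd.of_dvd_nat (by
        rw [← Subgroup.card_map_of_injective M.subtype_injective]
        exact Subgroup.card_dvd_of_le (Subgroup.map_comap_le _ _))
      cover := fun g => by
        obtain ⟨d, hd, hdt⟩ := S.cover g
        obtain ⟨⟨⟨a, ha⟩, ⟨e, he⟩⟩, hae⟩ := hC.2 ⟨d, hd⟩
        have h1 : (a : H) * e = d := congrArg Subtype.val hae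
        have h2 : (a : H) * S.t * (a : H)⁻¹ = (g : H) * S.t * (g : H)⁻¹ := by
          rw [← hdt, ← h1]
          calc (a : H) * S.t * (a : H)⁻¹ = (a : H) * (S.t * e) * (e : H)⁻¹ * (a : H)⁻¹ := by group
            _ = _ := by rw [← (S.mem_E.1 he).eq]; group
        obtain ⟨g', hg', hgg⟩ := S.mem_blockStab.1 g.2
        exact ⟨⟨a, S.mem_blockStab.2 ⟨g', hg', h2.trans hgg⟩⟩, (hmem1 _).2 ⟨a, ha, rfl⟩,
          Subtype.ext h2.symm⟩
      free := fun a ha h => by
        obtain ⟨a', ha', ea⟩ := (hmem1 a).1 ha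
        have h1 : Commute (a' : H) S.t := by rw [ea]; exact congrArg Subtype.val h
        exact Subtype.ext (by rw [← ea, hfree a' ha' h1]; rfl)
      coprime := hcop
      ti := fun x hx hx1 g hg => by
        obtain ⟨x', hx', ex⟩ := (hmem1 x).1 hx
        obtain ⟨y', -, ey⟩ := (hmem1 _).1 hg
        refine Subgroup.mem_subgroupOf.2 (S.ti x' (fun c hc => hx1 ?_) g ?_)
        · have h1 := hfree _ (hAn.conj_mem x' hx' c) hc
          rw [mul_inv_eq_one, mul_eq_left] at h1
          exact Subtype.ext (by rw [← ex, h1]; rfl)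
        · rw [ex]
          exact (show (y' : H) = (g : H) * x * (g : H)⁻¹ from ey) ▸ y'.2
      core := fun z hz => by
        let T := S.T1.subgroupOf M
        haveI : T.Normal := inferInstance
        let K : Subgroup M := Cfsg.oddCore M ⊓ T
        haveI hoc : (Cfsg.oddCore M).Normal := inferInstanceAs (Cfsg.pPrimeCore 2 M).Normal
        have hoodd : Odd (Nat.card (Cfsg.oddCore M)) :=
          Nat.coprime_two_right.1 (CfsgLib.PLocal.coprime_card_pPrimeCore 2 M)
        let K1 : Subgroup S.T1 := (K.map M.subtype).subgroupOf S.T1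
        haveI : K1.Normal := ⟨fun k hk g => by
          obtain ⟨k', hk', ek⟩ := Subgroup.mem_subgroupOf.1 hk
          exact Subgroup.mem_subgroupOf.2 ⟨⟨g, S.T1_le_blockStab g.2⟩ * k' * ⟨g, S.T1_le_blockStab g.2⟩⁻¹,
            (inferInstance : K.Normal).conj_mem k' hk' _, by simpa using ek⟩⟩
        have hK1 : K1 ≤ S.Z1 := S.le_Z1 (hoodd.of_dvd_nat (by
          rw [← Subgroup.card_map_of_injective S.T1.subtype_injective]
          refine (Subgroup.card_dvd_of_le (Subgroup.map_comap_le _ _)).trans ?_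
          rw [Subgroup.card_map_of_injective M.subtype_injective]
          exact Subgroup.card_dvd_of_le inf_le_left))
        set t' : M := ⟨S.t, S.T1_le_blockStab S.t_mem_T1⟩ with ht'
        have hc : z * t' * z⁻¹ * t'⁻¹ ∈ K := by
          refine ⟨?_, ?_⟩
          · rw [show z * t' * z⁻¹ * t'⁻¹ = z * (t' * z⁻¹ * t'⁻¹) by group]
            exact mul_mem hz (hoc.conj_mem _ ((Cfsg.oddCore M).inv_mem hz) _)
          · exact mul_mem ((inferInstance : T.Normal).conj_mem t' (Subgroup.mem_subgroupOf.2 S.t_mem_T1) z)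
              (T.inv_mem (Subgroup.mem_subgroupOf.2 S.t_mem_T1))
        have hcT : (z : H) * S.t * (z : H)⁻¹ * S.t⁻¹ ∈ S.T1 := hc.2
        have hcZ := hK1 (Subgroup.mem_subgroupOf.2 ⟨_, hc, rfl⟩ : (⟨_, hcT⟩ : S.T1) ∈ K1)
        have hct := S.commute_t_of_mem_Z1 hcZ
        have hone : (⟨_, hcT⟩ : S.T1) = 1 := by
          refine S.eq_one_of_mul hcZ (Subtype.ext ?_)
          have htt := S.t_mul_t
          show (z : H) * S.t * (z : H)⁻¹ * S.t⁻¹ * ((z : H) * S.t * (z : H)⁻¹ * S.t⁻¹) = 1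
          have hti : S.t⁻¹ = S.t := inv_eq_of_mul_eq_one_right htt
          calc _ = (z : H) * S.t * (z : H)⁻¹ * (S.t⁻¹ * ((z : H) * S.t * (z : H)⁻¹ * S.t⁻¹)) := by group
            _ = (z : H) * S.t * (z : H)⁻¹ * (((z : H) * S.t * (z : H)⁻¹ * S.t⁻¹) * S.t⁻¹) := by
              rw [(show Commute S.t⁻¹ _ from hct.symm.inv_left).eq]
            _ = (z : H) * (S.t * S.t) * (z : H)⁻¹ * (S.t * S.t)⁻¹ := by group
            _ = 1 := by rw [htt]; group
        have h5 := congrArg Subtype.val hone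
        simp only [Subgroup.coe_one] at h5
        exact Subtype.ext (mul_inv_eq_iff_eq_mul.1 (mul_inv_eq_one.1 h5))
      noSwap := fun y hy hy1 e he he1 het hey => by
        exfalso
        obtain ⟨y', hy', ey⟩ := (hmem1 y).1 hy
        refine hy1 (Subtype.ext ?_)
        have h1 : y' = 1 := hsemi ⟨e, he⟩ (fun h => he1 (Subtype.ext (congrArg Subtype.val h :)))
          (congrArg Subtype.val het) y' ⟨hy', S.mem_blockD.2 (ey ▸ y.2)⟩
          (Subtype.ext (by simp only [Subgroup.coe_mul, ey]; exact congrArg Subtype.val hey))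
        rw [← ey, h1]; rfl }
  -- `T1` is a `2`-group, hence abelian
  have htP := W.t_mem_pCore
  haveI : Fact (Nat.Prime 2) := ⟨Nat.prime_two⟩
  let N2 : Subgroup S.T1 := ((Cfsg.pCore 2 M).map M.subtype).subgroupOf S.T1
  haveI : N2.Normal := ⟨fun k hk g => by
    obtain ⟨k', hk', ek⟩ := Subgroup.mem_subgroupOf.1 hk
    exact Subgroup.mem_subgroupOf.2 ⟨⟨g, S.T1_le_blockStab g.2⟩ * k' * ⟨g, S.T1_le_blockStab g.2⟩⁻¹,
      (inferInstance : (Cfsg.pCore 2 M).Normal).conj_mem k' hk' _, by simpa using ek⟩⟩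
  have hN2 : IsPGroup 2 N2 :=
    ((CfsgLib.PLocal.isPGroup_pCore 2 M).map M.subtype).comap_of_injective _ S.T1.subtype_injective
  rw [S.eq_top_of_t_mem hnc (N := N2) (Subgroup.mem_subgroupOf.2 ⟨_, htP, rfl⟩)] at hN2
  have hT : IsPGroup 2 S.T1 := hN2.of_equiv Subgroup.topEquiv
  haveI : Nontrivial S.T1 := ⟨⟨⟨S.t, S.t_mem_T1⟩, 1, fun h => by
    have h1 := congrArg orderOf (congrArg Subtype.val h : S.t = 1)
    simp [S.ht] at h1⟩⟩
  haveI := hT.center_nontrivial
  rcases S.eq_top_or_odd hnc (Subgroup.center S.T1) with h | h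
  · obtain ⟨g, hg, hgt⟩ := S.exists_not_commute hnc
    refine hgt ?_
    have hc : Commute (⟨g, hg⟩ : S.T1) ⟨S.t, S.t_mem_T1⟩ :=
      (Subgroup.mem_center_iff.1 (h ▸ Subgroup.mem_top (⟨g, hg⟩ : S.T1)) _).symm
    rw [show g * S.t = S.t * g from congrArg Subtype.val hc.eq, mul_inv_cancel_right]
  · obtain ⟨k, hk⟩ := IsPGroup.iff_card.1 (hT.to_subgroup (Subgroup.center S.T1))
    rcases k with _ | k
    · exact absurd (hk.trans (pow_zero 2)) (Finite.one_lt_card (α := Subgroup.center S.T1)).ne'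
    · rw [hk, pow_succ] at h
      exact Nat.not_even_iff_odd.2 h ⟨2 ^ k, by ring⟩

omit hnc in
/-- **Step 5**: SHAPE, once the suborbits inside the block are self paired. -/
theorem commute_involutions_of_swapped :
    ∀ u v : H, orderOf u = 2 → orderOf v = 2 → Commute u v :=
  by_contra fun hnc => S.false_of_swapped hswap hnc

end CfsgLib.BenderWorld.Shape.Setup
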