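import Cfsg.Agent.BenderWorld.Shape.Constituent
import Cfsg.Agent.BenderWorld.Shape.Endgame

/-!
# SHAPE from the kernel property
-/

set_option autoImplicit false

namespace CfsgLib.BenderWorld.Shape.Setup

universe u

variable {H : Type u} [Group H] [Finite H] (S : Setup H)

/-- If every nonreal constituent of the permutation character on the involutions has `t` in its kernel, the
involutions commute. -/
theorem commute_involutions_of_kernelProperty (hk : S.KernelProperty) :
    ∀ u v : H, orderOf u = 2 → orderOf v = 2 → Commute u v :=
  S.commute_involutions_of_swapped (S.swapped_of_kernelProperty hk)

end CfsgLib.BenderWorld.Shape.Setup
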