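import Cfsg.Prelude.Def_Characters
import Mathlib.GroupTheory.PGroup
import Mathlib.GroupTheory.Commutator.Basic
import Mathlib.Data.ZMod.Basic

/-!
# The point stabiliser of a doubly transitive strongly embedded world

Interface of `docs/bender_sliceG_mixed_helper81.md`, steps 0-5: from a `Setup` the involutions of `H`
commute.  `D` is a two point stabiliser in `H`, `w` conjugation by a swapper, `E = C_D(t)` and
`E' = C_D(w)`.
-/

set_option autoImplicit false

namespace CfsgLib.BenderWorld.Shape

attribute [local instance high] Fintype.ofFinite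

universe u

/-- What the doubly transitive world gives inside a point stabiliser `H`. -/
structure Setup (H : Type u) [Group H] [Finite H] where
  t : H
  ht : orderOf t = 2
  oneClass : ∀ u : H, orderOf u = 2 → IsConj t u
  /-- Normal subgroups of odd order centralise `t`. -/
  oddCentral : ∀ N : Subgroup H, N.Normal → Odd (Nat.card N) → ∀ x ∈ N, Commute x t
  D : Subgroup H
  odd : Odd (Nat.card D)
  cover : ∀ h : H, ∃ d ∈ D, d * t * d⁻¹ = h * t * h⁻¹
  w : D ≃* D
  w_w : ∀ d, w (w d) = d
  /-- `|C_D(w)| = |C_D(t)|`: the swappers and the involutions are equally many. -/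
  card_fix : Nat.card {d : D // w d = d} = Nat.card {d : D // Commute (d : H) t}
  /-- `d` centralises as many swappers `p w` as conjugates of `t`. -/
  card_swap : ∀ d : D, Nat.card {p : D // w p = p⁻¹ ∧ p⁻¹ * d * p = w d} =
    Nat.card {s : H // IsConj t s ∧ (d : H) * s * (d : H)⁻¹ = s}
  /-- Star: both say that `d` fixes a third point. -/
  star : ∀ d : D, (∃ c : D, Commute ((c * d * c⁻¹ : D) : H) t) ↔
    ∃ c : D, w (c * d * c⁻¹) = c * d * c⁻¹
  /-- Star for subgroups of prime power order. -/
  star_pGroup : ∀ r : ℕ, r.Prime → ∀ N : Subgroup D, IsPGroup r N →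
    ((∃ c : D, ∀ n ∈ N, Commute ((c * n * c⁻¹ : D) : H) t) ↔
      ∃ c : D, ∀ n ∈ N, w (c * n * c⁻¹) = c * n * c⁻¹)
  /-- The two point elements form a TI set with normaliser `D`. -/
  ti : ∀ d : D, (∀ c : D, ¬ Commute ((c * d * c⁻¹ : D) : H) t) →
    ∀ h : H, h * (d : H) * h⁻¹ ∈ D → h ∈ D
  /-- The involutions centralised by a nontrivial element of `C_D(t)` commute with `t`. -/
  commute_cent : ∀ x : D, x ≠ 1 → Commute (x : H) t → ∀ s : H, IsConj t s → Commute (x : H) s →
    Commute s t
  /-- (F3): no element swaps `t` and another involution centralised by a nontrivial element of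
  `C_D(t)`. -/
  noSwap : ∀ x : D, x ≠ 1 → Commute (x : H) t → ∀ s : H, IsConj t s → s ≠ t →
    Commute (x : H) s → ¬ ∃ h : H, h * t * h⁻¹ = s ∧ h * s * h⁻¹ = t
  /-- Transfer in the simple group: no quotient of order `r`, `r` dividing the number of
  involutions, kills the inverted elements. -/
  noQuotient : ∀ r : ℕ, r.Prime → r ∣ Nat.card {s : H // IsConj t s} →
    ∀ φ : D →* Multiplicative (ZMod r), (∀ p : D, w p = p⁻¹ → φ p = 1) → φ = 1
  /-- The elements of `C_H(t)` of prime order dividing the number of involutions are conjugate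
  into `D` under `C_H(t)`. -/
  primeInto : ∀ x : H, Commute x t → (orderOf x).Prime →
    orderOf x ∣ Nat.card {s : H // IsConj t s} → ∃ h : H, Commute h t ∧ h * x * h⁻¹ ∈ D

namespace Setup

variable {H : Type u} [Group H] [Finite H] (S : Setup H)

/-- `C_D(t)`. -/
def E : Subgroup S.D := (Subgroup.centralizer ({S.t} : Set H)).subgroupOf S.D

theorem mem_E {d : S.D} : d ∈ S.E ↔ Commute (d : H) S.t :=
  Subgroup.mem_centralizer_singleton_iff

/-- `C_D(w)`. -/
def E' : Subgroup S.D := S.w.toMonoidHom.eqLocus (MonoidHom.id S.D)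

theorem mem_E' {d : S.D} : d ∈ S.E' ↔ S.w d = d := Iff.rfl

/-- The subgroup generated by the involutions. -/
def T1 : Subgroup H := Subgroup.normalClosure ({S.t} : Set H)

/-- The permutation character on the conjugates of `t`. -/
noncomputable def perm : H → ℂ :=
  fun g => (Nat.card {s : H // IsConj S.t s ∧ g * s * g⁻¹ = s} : ℂ)

/-- Every nonreal constituent of `perm` has the involutions in its kernel. -/
def KernelProperty : Prop :=
  ∀ χ : H → ℂ, Cfsg.IsIrrCharacter H χ → Cfsg.classInner S.perm χ ≠ 0 →
    (∃ g, (χ g).im ≠ 0) → χ S.t = χ 1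

end Setup

end CfsgLib.BenderWorld.Shape
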