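import Cfsg.Agent.BenderWorld.Shape.OfWorld.Centraliser
import Cfsg.Agent.BenderWorld.Shape.Basic

/-!
# From the world to `Shape.Setup` (route 8, slice G2)

For a world without configurations in which cores of `R2` locals are centralised by involutions, two
points `a ≠ b` and an involution `t` at `a` give a `Setup` on the stabiliser of `a`, with `D` the pair
stabiliser and `w` conjugation by a swapper centralising `C_D(t)`.
-/

set_option autoImplicit false
set_option linter.style.haveILetI false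

namespace CfsgLib.BenderWorld.Shape

open CfsgLib.SEmbed CfsgLib.Small Subgroup

universe u

variable {G : Type u} [Group G] [Finite G] {Ω : Type*} [MulAction G Ω]

/-- **World to `Setup`.** -/
theorem exists_setup (hW : World G Ω) (hNC : NoConfig G Ω) (hCC : CoreCentral G Ω) {a b : Ω}
    (hab : a ≠ b) {t : G} (ht : t ∈ invMap (G := G) a a) :
    ∃ S : Setup (MulAction.stabilizer G a),
      (S.t : G) = t ∧ S.D = (pairStab G a b).subgroupOf (MulAction.stabilizer G a) ∧
        ∃ w ∈ invMap (G := G) a b, ∀ d : S.D,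
          ((S.w d : MulAction.stabilizer G a) : G) = w * (d : MulAction.stabilizer G a) * w⁻¹ := by
  have h : OfWorld.Ready G Ω := ⟨hW, hNC, hCC⟩
  have hu := hW.uf
  obtain ⟨w, hw, hEw⟩ := h.exists_swapper hab ht
  set H := MulAction.stabilizer G a with hH
  set D : Subgroup H := (pairStab G a b).subgroupOf H with hD
  have hcomm : ∀ x y : H, Commute x y ↔ Commute (x : G) (y : G) := fun x y =>
    ⟨fun e => congrArg Subtype.val e, fun e => Subtype.ext e⟩
  have hinv : ∀ {u : H}, orderOf u = 2 → (u : G) ∈ invMap (G := G) a a := fun {u} hu2 =>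
    ⟨by rwa [orderOf_coe], u.2⟩
  have hww : w * w = 1 := mul_self_of_orderOf_two hw.1
  have hfix : ∀ d : G, d ∈ pairStab G a b → (Commute d w ↔ Commute d t) := fun d hd =>
    h.commute_iff hab ht hw hEw hd
  let mk : ∀ d : D, D := fun d => ⟨⟨w * ((d : H) : G) * w⁻¹,
    (mem_pairStab.1 (conj_mem_pairStab hw d.2)).1⟩, conj_mem_pairStab hw d.2⟩
  have hmk : ∀ d : D, mk (mk d) = d := fun d => Subtype.ext (Subtype.ext (by
    show w * (w * ((d : H) : G) * w⁻¹) * w⁻¹ = ((d : H) : G)
    calc w * (w * ((d : H) : G) * w⁻¹) * w⁻¹ = (w * w) * ((d : H) : G) * (w * w)⁻¹ := by group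
      _ = _ := by rw [hww]; group))
  let σ : D ≃* D :=
    { toFun := mk
      invFun := mk
      left_inv := hmk
      right_inv := hmk
      map_mul' := fun x y => Subtype.ext (Subtype.ext (by
        show w * (((x : H) : G) * ((y : H) : G)) * w⁻¹ =
          (w * ((x : H) : G) * w⁻¹) * (w * ((y : H) : G) * w⁻¹)
        group)) }
  have hfixD : ∀ d : D, σ d = d ↔ Commute (d : H) ⟨t, ht.2⟩ := fun d => by
    refine Iff.trans ?_ ((hfix ((d : H) : G) d.2).trans (hcomm (d : H) ⟨t, ht.2⟩).symm)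
    rw [Subtype.ext_iff, Subtype.ext_iff]
    exact ⟨fun e => (mul_inv_eq_iff_eq_mul.1 e).symm, fun e => mul_inv_eq_iff_eq_mul.2 e.eq.symm⟩
  have hconjOrd : ∀ {s : H}, IsConj (⟨t, ht.2⟩ : H) s → orderOf s = 2 := fun {s} hs => by
    obtain ⟨c, hc⟩ := isConj_iff.1 hs
    rw [← hc, orderOf_conj_eq, ← orderOf_coe]; exact ht.1
  have hconjAll : ∀ {i : G}, i ∈ invMap (G := G) a a → ∀ hi : i ∈ H, IsConj (⟨t, ht.2⟩ : H) ⟨i, hi⟩ :=
    fun {i} hi hiH => by
      obtain ⟨d, hd, hdt⟩ := exists_conj_fix hu hab ht hi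
      exact isConj_iff.2 ⟨⟨d, (mem_pairStab.1 hd).1⟩, Subtype.ext hdt⟩
  let hconjEquiv : ∀ (P : G → Prop) (Q : H → Prop), (∀ s : H, IsConj (⟨t, ht.2⟩ : H) s → (Q s ↔ P s)) →
      {s : H // IsConj (⟨t, ht.2⟩ : H) s ∧ Q s} ≃ {i // i ∈ invMap (G := G) a a ∧ P i} := fun P Q hPQ =>
    { toFun := fun s => ⟨(s.1 : G), hinv (hconjOrd s.2.1), (hPQ _ s.2.1).1 s.2.2⟩
      invFun := fun i => ⟨⟨i.1, i.2.1.2⟩, hconjAll i.2.1 _, (hPQ _ (hconjAll i.2.1 _)).2 i.2.2⟩
      left_inv := fun s => rfl
      right_inv := fun i => rfl }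
  have hnum : Nat.card {s : H // IsConj (⟨t, ht.2⟩ : H) s} = numInv G a :=
    Nat.card_congr
      { toFun := fun s => ⟨(s.1 : G), hinv (hconjOrd s.2)⟩
        invFun := fun i => ⟨⟨i.1, i.2.2⟩, hconjAll i.2 _⟩
        left_inv := fun s => rfl
        right_inv := fun i => rfl }
  refine ⟨{
    t := ⟨t, ht.2⟩
    ht := by rw [← orderOf_coe]; exact ht.1
    oneClass := fun u hu2 => by
      obtain ⟨d, hd, hdt⟩ := exists_conj_fix hu hab ht (hinv hu2)
      exact isConj_iff.2 ⟨⟨d, (mem_pairStab.1 hd).1⟩, Subtype.ext hdt⟩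
    oddCentral := fun N hN hodd x hx => (hcomm _ _).2 (h.commute_normal_odd hab ht
      (map_subtype_le N) (fun g hg => le_normalizer_map H.subtype
        ⟨⟨g, hg⟩, by rw [normalizer_eq_top]; exact mem_top _, rfl⟩)
      (by rwa [card_map_of_injective H.subtype_injective]) _ (mem_map_of_mem _ hx))
    D := D
    odd := by
      rw [hD, Nat.card_congr (subgroupOfEquivOfLe (fun x hx => (mem_pairStab.1 hx).1)).toEquiv]
      exact odd_pairStab hu hab
    cover := fun k => by
      obtain ⟨d, hd, hdt⟩ := exists_conj_fix hu hab ht (conj_mem_invMap (show (k : G) • a = a from k.2) ht)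
      exact ⟨⟨d, (mem_pairStab.1 hd).1⟩, hd, Subtype.ext hdt⟩
    w := σ
    w_w := hmk
    card_fix := Nat.card_congr (Equiv.subtypeEquivRight hfixD)
    card_swap := fun d => by
      have hcard := h.card_fixedInv hab ht hw hEw (d := ((d : H) : G)) d.2
      have e1 : Nat.card {p : D // σ p = p⁻¹ ∧ p⁻¹ * d * p = σ d} =
          Nat.card (fixedInv (G := G) ((d : H) : G) a b) := by
        have hmemP : ∀ p : D, σ p = p⁻¹ → p⁻¹ * d * p = σ d →
            ((p : H) : G) * w ∈ fixedInv (G := G) ((d : H) : G) a b := by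
          intro p hp hpd
          have hp' : w * ((p : H) : G) * w⁻¹ = ((p : H) : G)⁻¹ := congrArg (fun y : D => ((y : H) : G)) hp
          have hd' : ((p : H) : G)⁻¹ * ((d : H) : G) * ((p : H) : G) = w * ((d : H) : G) * w⁻¹ :=
            congrArg (fun y : D => ((y : H) : G)) hpd
          have hwi : w⁻¹ = w := inv_eq_self_of_orderOf_two hw.1
          have hpb : ((p : H) : G) • b = b := (mem_pairStab.1 p.2).2
          refine ⟨⟨orderOf_eq_two_iff_sq.2 ⟨fun e => ?_, ?_⟩, ?_⟩, ?_⟩
          · have hb : (((p : H) : G) * w) • a = b := by rw [mul_smul, hw.2, hpb]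
            rw [e, one_smul] at hb
            exact hab hb
          · calc ((p : H) : G) * w * (((p : H) : G) * w) = ((p : H) : G) * (w * ((p : H) : G) * w⁻¹) := by
                  rw [hwi]; group
              _ = 1 := by rw [hp', mul_inv_cancel]
          · rw [mul_smul, hw.2, hpb]
          · show ((d : H) : G) * (((p : H) : G) * w) = ((p : H) : G) * w * ((d : H) : G)
            calc ((d : H) : G) * (((p : H) : G) * w) =
                  ((p : H) : G) * (((p : H) : G)⁻¹ * ((d : H) : G) * ((p : H) : G)) * w := by group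
              _ = _ := by rw [hd']; group
        refine Nat.card_eq_of_bijective (fun p => ⟨((p.1 : H) : G) * w, hmemP p.1 p.2.1 p.2.2⟩) ⟨?_, ?_⟩
        · intro p q e
          exact Subtype.ext (Subtype.ext (Subtype.ext (mul_right_cancel (congrArg Subtype.val e))))
        · rintro ⟨j, hj, hdj⟩
          have hjD : j * w⁻¹ ∈ pairStab G a b := mem_pairStab.2
            ⟨by rw [inv_eq_self_of_orderOf_two hw.1, mul_smul, hw.2, smul_back hj.1 hj.2],
             by rw [inv_eq_self_of_orderOf_two hw.1, mul_smul, smul_back hw.1 hw.2, hj.2]⟩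
          refine ⟨⟨⟨⟨j * w⁻¹, (mem_pairStab.1 hjD).1⟩, hjD⟩, ?_, ?_⟩, Subtype.ext (inv_mul_cancel_right j w)⟩
          · refine Subtype.ext (Subtype.ext ?_)
            show w * (j * w⁻¹) * w⁻¹ = (j * w⁻¹)⁻¹
            rw [mul_inv_rev, inv_inv, inv_eq_self_of_orderOf_two hw.1, inv_eq_self_of_orderOf_two hj.1,
              show w * (j * w) * w = w * j * (w * w) by group, hww, mul_one]
          · refine Subtype.ext (Subtype.ext ?_)
            show (j * w⁻¹)⁻¹ * ((d : H) : G) * (j * w⁻¹) = w * ((d : H) : G) * w⁻¹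
            calc (j * w⁻¹)⁻¹ * ((d : H) : G) * (j * w⁻¹) = w * j⁻¹ * (((d : H) : G) * j) * w⁻¹ := by group
              _ = _ := by rw [hdj.eq]; group
      rw [e1, hcard]
      exact (Nat.card_congr (hconjEquiv _ (fun s => (d : H) * s * (d : H)⁻¹ = s) (fun s hs => by
        rw [mul_inv_eq_iff_eq_mul]
        exact ⟨fun e => congrArg Subtype.val e, fun e => Subtype.ext e⟩))).symm
    star := fun d => exists_congr fun c => (hfixD _).symm
    star_pGroup := fun r _ N _ => exists_congr fun c => forall₂_congr fun n _ => (hfixD _).symm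
    ti := fun d hd k hk => h.ti hab ht d.2 (fun c hc hcd => hd ⟨⟨c, (mem_pairStab.1 hc).1⟩, hc⟩
      ((hcomm _ _).2 hcd)) k.2 hk
    commute_cent := fun x hx1 hxt s hts hxs => by
      have hxt' := (hcomm _ _).1 hxt
      exact (hcomm _ _).2 (h.commute_cent hab ht hw x.2 (fun e => hx1 (Subtype.ext (Subtype.ext e))) hxt'
        ((hfix _ x.2).2 hxt') (hinv (hconjOrd hts)) ((hcomm _ _).1 hxs))
    noSwap := fun x hx1 hxt s hts hst hxs ⟨k, hk1, hk2⟩ => by
      have hxt' := (hcomm _ _).1 hxt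
      have hxs' := (hcomm _ _).1 hxs
      have hx1' : ((x : H) : G) ≠ 1 := fun e => hx1 (Subtype.ext (Subtype.ext e))
      exact Clean.noSwap h hab x.2 hx1' ht (hinv (hconjOrd hts)) (fun e => hst (Subtype.ext e))
        (h.commute_cent hab ht hw x.2 hx1' hxt' ((hfix _ x.2).2 hxt') (hinv (hconjOrd hts)) hxs')
        hxt' hxs' ⟨k, k.2, congrArg Subtype.val hk1, congrArg Subtype.val hk2⟩
    noQuotient := fun r hr hdvd φ hφ => by
      haveI := Fact.mk hr
      have hle : pairStab G a b ≤ H := fun x hx => (mem_pairStab.1 hx).1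
      let e := subgroupOfEquivOfLe hle
      have h1 := Clean.noQuotient h hab hw (hnum ▸ hdvd) (φ.comp e.symm.toMonoidHom) fun p hp =>
        hφ _ (Subtype.ext (Subtype.ext hp))
      refine MonoidHom.ext fun p => ?_
      simpa using DFunLike.congr_fun h1 (e p)
    primeInto := fun x hxt hp hdvd => by
      obtain ⟨k, hka, hkt, hkx⟩ := Clean.primeInto h hab ht ((hcomm _ _).1 hxt) (x := (x : G))
        (by rwa [orderOf_coe]) (by rw [orderOf_coe, ← hnum]; exact hdvd)
      exact ⟨⟨k, hka⟩, (hcomm _ _).2 hkt, hkx⟩ },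
    rfl, rfl, w, hw, fun d => rfl⟩

end CfsgLib.BenderWorld.Shape
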