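import Cfsg.Agent.BenderWorld.Shape.Constituent

/-!
# The bad prime case: one self-paired suborbit makes `H` doubly transitive on the involutions

`docs/bender_route8_final_helper24.md`, G3: `D = A:E` with `E = C_D(t)` of prime order, every
nontrivial element of `E` centralising `t` alone among its conjugates.  All nontrivial
constituents of the permutation character on `D` vanish on `E - 1` and have the same degree, so by
the isometry either there is one nontrivial constituent on `H`, or `H` and `D` have the same rank;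
then no suborbit is self-paired, as `D` has odd order.
-/

set_option autoImplicit false
set_option linter.unusedSectionVars false
set_option linter.style.haveILetI false

namespace CfsgLib.BenderWorld.Shape

open CfsgLib.Characters
open scoped ComplexConjugate

attribute [local instance high] Fintype.ofFinite

universe u

section General

variable {H : Type u} [Group H] [Finite H]

/-- A group acting by conjugation, through a homomorphism, on the conjugates of `t`. -/
@[reducible]
def conjOn {G : Type u} [Group G] (j : G →* H) (t : H) : MulAction G {s : H // IsConj t s} where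
  smul x s := ⟨j x * s.1 * (j x)⁻¹, s.2.trans (isConj_iff.2 ⟨j x, rfl⟩)⟩
  one_smul s := Subtype.ext
    (show j 1 * s.1 * (j 1)⁻¹ = s.1 by rw [map_one, one_mul, inv_one, mul_one])
  mul_smul x y s := Subtype.ext
    (show j (x * y) * s.1 * (j (x * y))⁻¹ = j x * (j y * s.1 * (j y)⁻¹) * (j x)⁻¹ by
      simp [mul_assoc])

/-- The orbit relation of `conjOn`. -/
def conjRel {G : Type u} [Group G] (j : G →* H) (t : H) : Setoid {s : H // IsConj t s} :=
  letI := conjOn j t
  MulAction.orbitRel G {s : H // IsConj t s}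

theorem conjRel_iff {G : Type u} [Group G] (j : G →* H) (t : H) (a b : {s : H // IsConj t s}) :
    conjRel j t a b ↔ ∃ x : G, j x * b.1 * (j x)⁻¹ = a.1 :=
  ⟨fun ⟨x, hx⟩ => ⟨x, congrArg Subtype.val hx⟩, fun ⟨x, hx⟩ => ⟨x, Subtype.ext hx⟩⟩

/-- The norm of a permutation character counts the orbits of a point stabiliser. -/
theorem classInner_indFun_self {G : Type u} [Group G] [Finite G] (j : G →* H) (t : H)
    (C : Subgroup G) (hC : ∀ x, x ∈ C ↔ Commute (j x) t)
    (hcov : ∀ s, IsConj t s → ∃ x, j x * t * (j x)⁻¹ = s) :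
    Cfsg.classInner (Cfsg.indFun C (fun _ => (1 : ℂ))) (Cfsg.indFun C (fun _ => (1 : ℂ))) =
      (Nat.card (Quotient (conjRel (j.comp C.subtype) t)) : ℂ) := by
  classical
  rw [classInner_indFun C _ (isClassFunction_indFun C _), Cfsg.classInner,
    Finset.sum_congr rfl (g := fun c : C =>
      ((Nat.card {s : H // IsConj t s ∧ j c * s * (j c)⁻¹ = s} : ℕ) : ℂ)) fun c _ => by
      rw [one_mul, ← natCard_fixed_conj j t C hC hcov, Complex.conj_natCast]]
  letI := conjOn (j.comp C.subtype) t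
  have hburn : ∑ c : C, Nat.card {s : H // IsConj t s ∧ j c * s * (j c)⁻¹ = s} =
      Nat.card (Quotient (conjRel (j.comp C.subtype) t)) * Nat.card C := by
    change _ = Nat.card (MulAction.orbitRel.Quotient C {s : H // IsConj t s}) * _
    rw [Nat.card_eq_fintype_card, Nat.card_eq_fintype_card (α := C),
      ← MulAction.sum_card_fixedBy_eq_card_orbits_mul_card_group C {s : H // IsConj t s}]
    refine Finset.sum_congr rfl fun c _ => ?_
    rw [← Nat.card_eq_fintype_card]
    exact Nat.card_congr ((Equiv.subtypeSubtypeEquivSubtypeInter (fun s => IsConj t s)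
      (fun s => j c * s * (j c)⁻¹ = s)).symm.trans
      (Equiv.subtypeEquivRight fun s => by rw [MulAction.mem_fixedBy, Subtype.ext_iff]; rfl))
  rw [← Nat.cast_sum, hburn, Nat.cast_mul, mul_comm, mul_assoc,
    mul_inv_cancel₀ (subgroup_card_ne_zero C), mul_one]

/-- An irreducible character not inflated from a quotient `G → Q` vanishes at `g` when the
centraliser of `g` is no larger than that of its image. -/
theorem eq_zero_of_centralizer_eq {G : Type u} [Group G] [Finite G] {Q : Type u} [Group Q]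
    [Finite Q] (q : G →* Q) (hq : Function.Surjective q) {g : G}
    (hcent : Nat.card (Subgroup.centralizer ({g} : Set G)) =
      Nat.card (Subgroup.centralizer ({q g} : Set Q))) {θ : G → ℂ}
    (hθ : Cfsg.IsIrrCharacter G θ)
    (hnot : ∀ χ : Cfsg.IrrCharacter Q, θ ≠ fun x => (χ : Q → ℂ) (q x)) : θ g = 0 := by
  classical
  let F : Cfsg.IrrCharacter G → ℝ := fun ψ => Complex.normSq ((ψ : G → ℂ) g)
  let infl : Cfsg.IrrCharacter Q → Cfsg.IrrCharacter G := fun χ => ⟨_, isIrr_comp q hq χ.2⟩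
  have hinj : Function.Injective infl := fun a b h => Subtype.ext (funext fun y => by
    obtain ⟨x, rfl⟩ := hq y
    exact congrFun (congrArg Subtype.val h) x)
  have hG : ∑ ψ, F ψ = (Nat.card (Subgroup.centralizer ({g} : Set G)) : ℝ) := by
    have h := sum_irr_mul_conj_of_isConj (IsConj.refl g)
    simp only [Complex.mul_conj] at h
    rw [← Complex.ofReal_sum] at h
    exact_mod_cast h
  have hQ : ∑ χ, F (infl χ) = (Nat.card (Subgroup.centralizer ({q g} : Set Q)) : ℝ) := by
    have h := sum_irr_mul_conj_of_isConj (IsConj.refl (q g))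
    simp only [Complex.mul_conj] at h
    rw [← Complex.ofReal_sum] at h
    exact_mod_cast h
  let c : Cfsg.IrrCharacter G := ⟨θ, hθ⟩
  have hc : c ∉ Finset.univ.image infl := fun hc => by
    obtain ⟨χ, -, hχ⟩ := Finset.mem_image.1 hc
    exact hnot χ (congrArg Subtype.val hχ).symm
  have hsum : F c + ∑ ψ ∈ Finset.univ.image infl, F ψ ≤ ∑ ψ, F ψ := by
    rw [← Finset.sum_insert hc]
    exact Finset.sum_le_sum_of_subset_of_nonneg (Finset.subset_univ _)
      fun ψ _ _ => Complex.normSq_nonneg _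
  rw [Finset.sum_image fun a _ b _ h => hinj h, hQ, hG, hcent] at hsum
  exact Complex.normSq_eq_zero.1
    (le_antisymm (by linarith) (Complex.normSq_nonneg _) : Complex.normSq (θ g) = 0)

end General

namespace Setup

variable {H : Type u} [Group H] [Finite H] (S : Setup H)

theorem perm_norm :
    Cfsg.classInner S.perm S.perm =
      (Nat.card (Quotient (conjRel (Subgroup.centralizer ({S.t} : Set H)).subtype S.t)) : ℂ) := by
  rw [S.perm_eq]
  exact classInner_indFun_self (MonoidHom.id H) S.t _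
    (fun _ => Subgroup.mem_centralizer_singleton_iff) (fun _ h => isConj_iff.1 h)

theorem permD_norm :
    Cfsg.classInner (fun d : S.D => S.perm (d : H)) (fun d : S.D => S.perm (d : H)) =
      (Nat.card (Quotient (conjRel (S.D.subtype.comp S.E.subtype) S.t)) : ℂ) := by
  rw [S.perm_restrict]
  exact classInner_indFun_self S.D.subtype S.t _ (fun _ => S.mem_E) fun s h => by
    obtain ⟨x, rfl⟩ := isConj_iff.1 h
    obtain ⟨d, hd, hdx⟩ := S.cover x
    exact ⟨⟨d, hd⟩, hdx⟩

/-- If there is at most one nontrivial constituent, `C_H(t)` is transitive on the other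
conjugates of `t`. -/
theorem transitive_of_one_constituent
    (hone : ∀ χ χ' : H → ℂ, Cfsg.IsIrrCharacter H χ → Cfsg.IsIrrCharacter H χ' →
      Cfsg.classInner S.perm χ ≠ 0 → Cfsg.classInner S.perm χ' ≠ 0 → χ ≠ (fun _ => 1) →
      χ' ≠ (fun _ => 1) → χ = χ')
    {s s' : H} (hs : IsConj S.t s) (hs' : IsConj S.t s') (hne : s ≠ S.t) (hne' : s' ≠ S.t) :
    ∃ h : H, Commute h S.t ∧ h * s * h⁻¹ = s' := by
  classical
  by_contra hno
  push Not at hno
  let R := conjRel (Subgroup.centralizer ({S.t} : Set H)).subtype S.t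
  let k : Fin 3 → {s : H // IsConj S.t s} := ![⟨S.t, IsConj.refl _⟩, ⟨s, hs⟩, ⟨s', hs'⟩]
  have hfix : ∀ (x : Subgroup.centralizer ({S.t} : Set H)) {y : H},
      (x : H) * y * (x : H)⁻¹ = S.t → y = S.t := fun x {y} hy => by
    have hx := Subgroup.mem_centralizer_singleton_iff.1 x.2
    calc y = (x : H)⁻¹ * ((x : H) * y * (x : H)⁻¹) * (x : H) := by group
      _ = S.t := by rw [hy, mul_assoc, ← hx, inv_mul_cancel_left]
  have hinj : Function.Injective fun i => Quotient.mk R (k i) := by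
    intro a b hab
    obtain ⟨x, hx⟩ := (conjRel_iff _ _ _ _).1 (Quotient.exact hab)
    have hxc : Commute (x : H) S.t := Subgroup.mem_centralizer_singleton_iff.1 x.2
    fin_cases a <;> fin_cases b <;> first | rfl | skip
    · exact absurd (hfix x hx) hne
    · exact absurd (hfix x hx) hne'
    · change (x : H) * S.t * (x : H)⁻¹ = s at hx
      exact absurd (show s = S.t by rw [← hx]; exact mul_inv_eq_iff_eq_mul.2 hxc.eq) hne
    · refine absurd ?_ (hno (x : H)⁻¹ hxc.inv_left)
      change (x : H) * s' * (x : H)⁻¹ = s at hx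
      rw [← hx]; group
    · change (x : H) * S.t * (x : H)⁻¹ = s' at hx
      exact absurd (show s' = S.t by rw [← hx]; exact mul_inv_eq_iff_eq_mul.2 hxc.eq) hne'
    · exact absurd hx (hno (x : H) hxc)
  have h3 : 3 ≤ Nat.card (Quotient R) := by
    simpa using Nat.card_le_card_of_injective _ hinj
  have h2 : ∃ n : ℕ, n ≤ 2 ∧ Cfsg.classInner S.perm S.perm = n := by
    choose m hm using fun χ : Cfsg.IrrCharacter H =>
      classInner_character_irr S.isCharacter_perm χ.2
    have hm1 : ∀ χ, m χ ≤ 1 := fun χ => by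
      by_contra hgt
      have h := S.classInner_perm_eq χ.2 (by rw [hm]; exact Nat.cast_ne_zero.2 (by omega))
      rw [hm, Nat.cast_eq_one] at h
      omega
    refine ⟨∑ χ, m χ ^ 2, ?_, ?_⟩
    · let one : Cfsg.IrrCharacter H := ⟨fun _ => 1, isIrr_one⟩
      let T := Finset.univ.filter fun χ => m χ ≠ 0
      have hT : (T.erase one).card ≤ 1 := Finset.card_le_one.2 fun a ha b hb => by
        simp only [T, Finset.mem_erase, Finset.mem_filter, Finset.mem_univ, true_and] at ha hb
        exact Subtype.ext (hone _ _ a.2 b.2 (by rw [hm]; exact Nat.cast_ne_zero.2 ha.2)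
          (by rw [hm]; exact Nat.cast_ne_zero.2 hb.2) (fun h => ha.1 (Subtype.ext h))
          (fun h => hb.1 (Subtype.ext h)))
      have hTcard : T.card ≤ 2 := by
        have := Finset.pred_card_le_card_erase (s := T) (a := one)
        omega
      calc ∑ χ, m χ ^ 2 ≤ ∑ χ, (if m χ ≠ 0 then 1 else 0) := Finset.sum_le_sum fun χ _ => by
            rcases Nat.le_one_iff_eq_zero_or_eq_one.1 (hm1 χ) with h | h <;> simp [h]
        _ = T.card := by rw [Finset.sum_boole]; rfl
        _ ≤ 2 := hTcard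
    · rw [classInner_eq_sum (isClassFunction_of_isCharacter S.isCharacter_perm), Nat.cast_sum]
      exact Finset.sum_congr rfl fun χ _ => by rw [hm, Complex.conj_natCast, Nat.cast_pow, pow_two]
  obtain ⟨n, hn, hnorm⟩ := h2
  rw [S.perm_norm, Nat.cast_inj] at hnorm
  change Nat.card (Quotient R) = n at hnorm
  omega

/-- If every constituent restricts irreducibly to `D`, every orbit of `C_H(t)` on the conjugates
of `t` is an orbit of `C_D(t)`. -/
theorem orbits_eq_of_restrict
    (hres : ∀ χ : H → ℂ, Cfsg.IsIrrCharacter H χ → Cfsg.classInner S.perm χ ≠ 0 →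
      Cfsg.IsIrrCharacter S.D (fun d : S.D => χ (d : H)))
    {s s' : H} (hs : IsConj S.t s) (hs' : IsConj S.t s') {h : H} (hh : Commute h S.t)
    (hconj : h * s * h⁻¹ = s') :
    ∃ e ∈ S.E, ((e : S.D) : H) * s * ((e : S.D) : H)⁻¹ = s' := by
  classical
  let C := Subgroup.centralizer ({S.t} : Set H)
  let RH := conjRel C.subtype S.t
  let RD := conjRel (S.D.subtype.comp S.E.subtype) S.t
  have hmap : ∀ a b, RD a b → RH a b := fun a b hab => by
    obtain ⟨e, he⟩ := (conjRel_iff _ _ _ _).1 hab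
    exact (conjRel_iff _ _ _ _).2
      ⟨⟨((e : S.D) : H), Subgroup.mem_centralizer_singleton_iff.2 (S.mem_E.1 e.2).eq⟩, he⟩
  have hnorm : Cfsg.classInner S.perm S.perm =
      Cfsg.classInner (fun d : S.D => S.perm (d : H)) (fun d : S.D => S.perm (d : H)) := by
    rw [classInner_eq_sum (isClassFunction_of_isCharacter S.isCharacter_perm)]
    have hexp : (fun d : S.D => S.perm (d : H)) = ∑ χ : Cfsg.IrrCharacter H,
        Cfsg.classInner S.perm (χ : H → ℂ) • fun d : S.D => (χ : H → ℂ) (d : H) := funext fun d => by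
      rw [congrFun (character_expansion S.isCharacter_perm) (d : H)]
      simp only [Finset.sum_apply, Pi.smul_apply]
    conv_rhs => arg 1; rw [hexp]
    rw [classInner_sum_left]
    refine Finset.sum_congr rfl fun χ _ => ?_
    rw [classInner_smul_left]
    by_cases hp : Cfsg.classInner S.perm (χ : H → ℂ) = 0
    · rw [hp, zero_mul, zero_mul]
    have hθ := hres χ χ.2 hp
    obtain ⟨hm, -, hE, -⟩ := S.shared χ.2 hp hθ
      (by rw [classInner_isIrr_self hθ]; exact one_ne_zero)
    rw [hm, S.perm_restrict, classInner_conj_symm (Cfsg.indFun S.E (fun _ => (1 : ℂ))), hE, map_one]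
  rw [S.perm_norm, S.permD_norm, Nat.cast_inj] at hnorm
  have hinj : Function.Injective
      (Quotient.map' id hmap : Quotient RD → Quotient RH) :=
    ((Nat.bijective_iff_surjective_and_card _).2
      ⟨fun x => Quotient.inductionOn x fun a => ⟨Quotient.mk RD a, rfl⟩, hnorm.symm⟩).1
  have hab : Quotient.map' id hmap (Quotient.mk RD ⟨s', hs'⟩) =
      Quotient.map' id hmap (Quotient.mk RD ⟨s, hs⟩) :=
    Quotient.sound ((conjRel_iff _ _ _ _).2
      ⟨⟨h, Subgroup.mem_centralizer_singleton_iff.2 hh.eq⟩, hconj⟩)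
  obtain ⟨e, he⟩ := (conjRel_iff _ _ _ _).1 (Quotient.exact (hinj hab))
  exact ⟨e, e.2, he⟩

/-- With a swapped pair, `D = A:E` with `E` of prime order and semiregular on the other
conjugates of `t` makes `H` doubly transitive on the conjugates of `t`. -/
theorem two_transitive_of_swap (A : Subgroup S.D) [A.Normal]
    (hcompl : Subgroup.IsComplement' A S.E) {r : ℕ} (hr : r.Prime) (hcard : Nat.card S.E = r)
    (hfix : ∀ e ∈ S.E, e ≠ 1 → ∀ s : H, IsConj S.t s → Commute ((e : S.D) : H) s → s = S.t)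
    (hswap : ∃ s h : H, IsConj S.t s ∧ s ≠ S.t ∧ h * S.t * h⁻¹ = s ∧ h * s * h⁻¹ = S.t) :
    ∀ s₁ s₂ u₁ u₂ : H, IsConj S.t s₁ → IsConj S.t s₂ → IsConj S.t u₁ → IsConj S.t u₂ →
      s₁ ≠ s₂ → u₁ ≠ u₂ → ∃ h : H, h * s₁ * h⁻¹ = u₁ ∧ h * s₂ * h⁻¹ = u₂ := by
  classical
  have hdec : ∀ d : S.D, ∃ a ∈ A, ∃ e ∈ S.E, d = a * e := fun d => by
    obtain ⟨⟨⟨a, ha⟩, ⟨e, he⟩⟩, h⟩ := hcompl.2 d
    exact ⟨a, ha, e, he, h.symm⟩
  have hAE : ∀ x, x ∈ A → x ∈ S.E → x = 1 := fun x hx hx' =>
    (Subgroup.disjoint_def.1 hcompl.disjoint) hx hx'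
  haveI := Fact.mk hr
  haveI : IsCyclic S.E := isCyclic_of_prime_card hcard
  have hcomm : ∀ a ∈ S.E, ∀ b ∈ S.E, Commute a b := fun a ha b hb =>
    congrArg Subtype.val
      ((IsCyclic.isMulCommutative (α := S.E)).is_comm.comm ⟨a, ha⟩ ⟨b, hb⟩)
  -- `C_A(e) = 1`
  have hfree : ∀ e ∈ S.E, e ≠ 1 → ∀ a ∈ A, Commute e a → a = 1 := by
    intro e he he1 a ha hc
    have hc' : Commute (e : H) (a : H) := congrArg Subtype.val hc.eq
    have h := hfix e he he1 ((a : H) * S.t * (a : H)⁻¹) (isConj_iff.2 ⟨_, rfl⟩)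
      ((hc'.mul_right (S.mem_E.1 he)).mul_right hc'.inv_right)
    exact hAE a ha (S.mem_E.2 (mul_inv_eq_iff_eq_mul.1 h))
  -- characters of degree `r`
  have hval : ∀ θ : S.D → ℂ, Cfsg.IsIrrCharacter S.D θ →
      Cfsg.classInner (Cfsg.indFun S.E (fun _ => (1 : ℂ))) θ = 1 → θ ≠ (fun _ => 1) →
      ∀ e ∈ S.E, θ e = if e = 1 then (r : ℂ) else 0 := by
    intro θ hθ hmult hne1
    let q : S.D →* S.D ⧸ A := QuotientGroup.mk' A
    have hnot : ∀ χ : Cfsg.IrrCharacter (S.D ⧸ A), θ ≠ fun x => (χ : S.D ⧸ A → ℂ) (q x) := by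
      intro χ hχ
      have hsurj : Function.Surjective (q.comp S.E.subtype) := fun y => by
        obtain ⟨d, rfl⟩ := QuotientGroup.mk'_surjective A y
        obtain ⟨a, ha, e, he, rfl⟩ := hdec d
        refine ⟨⟨e, he⟩, ?_⟩
        change q e = q (a * e)
        rw [map_mul, show q a = 1 from (QuotientGroup.eq_one_iff a).2 ha, one_mul]
      have hirr := isIrr_comp (q.comp S.E.subtype) hsurj χ.2
      rw [classInner_indFun S.E _ (isClassFunction_of_isIrr hθ)] at hmult
      have h1 : (fun _ : S.E => (1 : ℂ)) = fun e : S.E => θ e := by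
        by_contra hn
        rw [classInner_isIrr_ne isIrr_one (by rw [hχ]; exact hirr) hn] at hmult
        exact zero_ne_one hmult
      refine hne1 (funext fun d => ?_)
      obtain ⟨e, he⟩ := hsurj (q d)
      rw [hχ]
      change (χ : S.D ⧸ A → ℂ) (q d) = 1
      rw [← he]
      have h2 := congrFun h1 e
      rw [hχ] at h2
      exact h2.symm
    have hzero : ∀ e ∈ S.E, e ≠ 1 → θ e = 0 := by
      intro e he he1
      refine eq_zero_of_centralizer_eq q (QuotientGroup.mk'_surjective A) ?_ hθ hnot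
      have hCE : Subgroup.centralizer ({e} : Set S.D) = S.E := by
        ext d
        rw [Subgroup.mem_centralizer_singleton_iff]
        refine ⟨fun hd => ?_, fun hd => (hcomm d hd e he).eq⟩
        obtain ⟨a, ha, f, hf, rfl⟩ := hdec d
        have hc : Commute (a * f) e := hd
        have hc2 : Commute a e := by
          have := hc.mul_left ((hcomm f hf e he).inv_left)
          rwa [mul_inv_cancel_right] at this
        rw [hfree e he he1 a ha hc2.symm, one_mul]
        exact hf
      have hCQ : Subgroup.centralizer ({q e} : Set (S.D ⧸ A)) = ⊤ := by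
        refine eq_top_iff.2 fun y _ => Subgroup.mem_centralizer_singleton_iff.2 ?_
        obtain ⟨d, rfl⟩ := QuotientGroup.mk'_surjective A y
        obtain ⟨a, ha, f, hf, rfl⟩ := hdec d
        rw [map_mul, show QuotientGroup.mk' A a = 1 from (QuotientGroup.eq_one_iff a).2 ha, one_mul,
          ← map_mul, ← map_mul,
          (hcomm f hf e he).eq]
      rw [hCE, hCQ, Subgroup.card_top, ← Subgroup.index_eq_card, hcompl.symm.index_eq_card]
    have hdeg : θ 1 = (r : ℂ) := by
      rw [classInner_indFun S.E _ (isClassFunction_of_isIrr hθ), Cfsg.classInner,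
        Finset.sum_eq_single (1 : S.E)] at hmult
      · rw [hcard, one_mul, OneMemClass.coe_one] at hmult
        obtain ⟨n, -, hn⟩ := exists_degree_pos hθ
        rw [hn, Complex.conj_natCast] at hmult
        rw [hn]
        field_simp [Nat.cast_ne_zero.2 hr.ne_zero] at hmult
        exact hmult
      · intro e _ he
        rw [hzero (e : S.D) e.2 (fun h => he (Subtype.ext h)), map_zero, mul_zero]
      · exact fun h => absurd (Finset.mem_univ _) h
    intro e he
    split_ifs with h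
    · rw [h, hdeg]
    · exact hzero e he h
  -- transitivity of `C_H(t)`
  have htrans : ∀ s s' : H, IsConj S.t s → IsConj S.t s' → s ≠ S.t → s' ≠ S.t →
      ∃ h : H, Commute h S.t ∧ h * s * h⁻¹ = s' := by
    by_cases hone : ∀ χ χ' : H → ℂ, Cfsg.IsIrrCharacter H χ → Cfsg.IsIrrCharacter H χ' →
        Cfsg.classInner S.perm χ ≠ 0 → Cfsg.classInner S.perm χ' ≠ 0 → χ ≠ (fun _ => 1) →
        χ' ≠ (fun _ => 1) → χ = χ'
    · exact fun s s' => S.transitive_of_one_constituent hone
    exfalso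
    push Not at hone
    obtain ⟨χ₁, χ₂, hχ₁, hχ₂, hp₁, hp₂, hn₁, hn₂, hne⟩ := hone
    -- every constituent restricts irreducibly
    have hres : ∀ χ : H → ℂ, Cfsg.IsIrrCharacter H χ → Cfsg.classInner S.perm χ ≠ 0 →
        Cfsg.IsIrrCharacter S.D (fun d : S.D => χ (d : H)) := by
      intro χ hχ hp
      by_cases hn : χ = fun _ => 1
      · rw [hn]; exact isIrr_one
      obtain ⟨χ', hχ', hp', hn', hne'⟩ : ∃ χ' : H → ℂ, Cfsg.IsIrrCharacter H χ' ∧
          Cfsg.classInner S.perm χ' ≠ 0 ∧ χ' ≠ (fun _ => 1) ∧ χ' ≠ χ := by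
        by_cases h : χ₁ = χ
        · exact ⟨χ₂, hχ₂, hp₂, hn₂, fun h' => hne (h.trans h'.symm)⟩
        · exact ⟨χ₁, hχ₁, hp₁, hn₁, h⟩
      obtain ⟨θ, hθ, hov⟩ := S.exists_restrict_constituent hχ
      obtain ⟨θ', hθ', hov'⟩ := S.exists_restrict_constituent hχ'
      have hθ1 : θ ≠ fun _ => 1 := fun h => hn (S.eq_one_of_over_one hχ hp (h ▸ hov))
      have hθ1' : θ' ≠ fun _ => 1 := fun h => hn' (S.eq_one_of_over_one hχ' hp' (h ▸ hov'))
      obtain ⟨hr1, -⟩ := S.restrict_of_agree hχ hp hχ' hp' hne' hθ hθ' hov hov' fun e he => by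
        rw [hval θ hθ (S.shared hχ hp hθ hov).2.2.1 hθ1 e he,
          hval θ' hθ' (S.shared hχ' hp' hθ' hov').2.2.1 hθ1' e he]
      rw [hr1]
      exact hθ
    obtain ⟨s, h, hs, hst, hht, hhs⟩ := hswap
    -- `s = a t a⁻¹` and `a⁻¹ t a` is in its suborbit
    obtain ⟨d, hd, hdh⟩ := S.cover h
    obtain ⟨a, ha, f, hf, hdaf⟩ := hdec ⟨d, hd⟩
    have hat : (a : H) * S.t * (a : H)⁻¹ = s := by
      have hd' : d = (a : H) * (f : H) := congrArg Subtype.val hdaf
      rw [← hht, ← hdh, hd']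
      calc (a : H) * S.t * (a : H)⁻¹ = (a : H) * ((f : H) * S.t * (f : H)⁻¹) * (a : H)⁻¹ := by
            rw [(S.mem_E.1 hf).eq, mul_inv_cancel_right]
        _ = _ := by group
    have hc : Commute ((a : H)⁻¹ * h) S.t := by
      change (a : H)⁻¹ * h * S.t = S.t * ((a : H)⁻¹ * h)
      calc (a : H)⁻¹ * h * S.t = (a : H)⁻¹ * (h * S.t * h⁻¹) * h := by group
        _ = S.t * ((a : H)⁻¹ * h) := by rw [hht, ← hat]; group
    obtain ⟨e, he, hes⟩ := S.orbits_eq_of_restrict hres hs
      (s' := (a : H)⁻¹ * S.t * (a : H)) (isConj_iff.2 ⟨(a : H)⁻¹, by group⟩) hc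
      (show (a : H)⁻¹ * h * s * ((a : H)⁻¹ * h)⁻¹ = _ by rw [← hhs]; group)
    -- so `e a e⁻¹ = a⁻¹`
    have hmem : a * (e * a * e⁻¹) ∈ A := mul_mem ha (Subgroup.Normal.conj_mem ‹_› a ha e)
    have het := (S.mem_E.1 he).inv_left
    have hE : a * (e * a * e⁻¹) ∈ S.E := by
      rw [S.mem_E]
      change (a : H) * ((e : H) * (a : H) * (e : H)⁻¹) * S.t =
        S.t * ((a : H) * ((e : H) * (a : H) * (e : H)⁻¹))
      calc (a : H) * ((e : H) * (a : H) * (e : H)⁻¹) * S.t =
          (a : H) * (e : H) * (a : H) * ((e : H)⁻¹ * S.t) := by group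
        _ = (a : H) * ((e : H) * ((a : H) * S.t * (a : H)⁻¹) * (e : H)⁻¹) *
            ((e : H) * (a : H) * (e : H)⁻¹) := by rw [het.eq]; group
        _ = S.t * ((a : H) * ((e : H) * (a : H) * (e : H)⁻¹)) := by rw [hat, hes]; group
    have hinv : e * a * e⁻¹ = a⁻¹ := eq_inv_of_mul_eq_one_right (hAE _ hmem hE)
    have h2 : Commute (e ^ 2) a := by
      change e ^ 2 * a = a * e ^ 2
      have : e * (e * a * e⁻¹) * e⁻¹ = a := by
        rw [hinv, show e * a⁻¹ * e⁻¹ = (e * a * e⁻¹)⁻¹ by group, hinv, inv_inv]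
      rw [pow_two]
      calc e * e * a = e * (e * a * e⁻¹) * e⁻¹ * (e * e) := by group
        _ = a * (e * e) := by rw [this]
    have h3 : Commute e a := (Gelfand.commute_of_sq S.odd h2.symm).symm
    have h4 : a ^ 2 = (1 : S.D) ^ 2 := by
      rw [h3.eq, mul_inv_cancel_right] at hinv
      rw [one_pow, pow_two]
      exact mul_eq_one_iff_eq_inv.2 hinv
    have ha1 : a = 1 := Gelfand.sq_inj S.odd h4
    exact hst (by rw [← hat, ha1]; simp)
  -- double transitivity
  intro s₁ s₂ u₁ u₂ hs₁ hs₂ hu₁ hu₂ hsne hune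
  obtain ⟨g, hg⟩ := isConj_iff.1 hs₁
  obtain ⟨g', hg'⟩ := isConj_iff.1 hu₁
  obtain ⟨c, hc, hcs⟩ := htrans (g⁻¹ * s₂ * g) (g'⁻¹ * u₂ * g')
    (hs₂.trans (isConj_iff.2 ⟨g⁻¹, by group⟩)) (hu₂.trans (isConj_iff.2 ⟨g'⁻¹, by group⟩))
    (fun h => hsne (by
      rw [← hg, ← h]; group))
    (fun h => hune (by
      rw [← hg', ← h]; group))
  refine ⟨g' * c * g⁻¹, ?_, ?_⟩
  · calc g' * c * g⁻¹ * s₁ * (g' * c * g⁻¹)⁻¹ = g' * (c * (g⁻¹ * s₁ * g) * c⁻¹) * g'⁻¹ := by group
      _ = g' * (c * S.t * c⁻¹) * g'⁻¹ := by rw [← hg]; group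
      _ = u₁ := by rw [hc.eq, mul_inv_cancel_right, hg']
  · calc g' * c * g⁻¹ * s₂ * (g' * c * g⁻¹)⁻¹ = g' * (c * (g⁻¹ * s₂ * g) * c⁻¹) * g'⁻¹ := by group
      _ = u₂ := by rw [hcs]; group

/-- Any element permuting the conjugates of `t` as a nontrivial involution gives a swapped pair
at `t`. -/
theorem exists_swap_of_involutory {g s : H} (hs : IsConj S.t s) (hne : g * s * g⁻¹ ≠ s)
    (hinv : g * (g * s * g⁻¹) * g⁻¹ = s) :
    ∃ s' h : H, IsConj S.t s' ∧ s' ≠ S.t ∧ h * S.t * h⁻¹ = s' ∧ h * s' * h⁻¹ = S.t := by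
  obtain ⟨c, hc⟩ := isConj_iff.1 hs
  refine ⟨c⁻¹ * (g * s * g⁻¹) * c, c⁻¹ * g * c, ?_, ?_, ?_, ?_⟩
  · exact hs.trans (isConj_iff.2 ⟨c⁻¹ * g, by group⟩)
  · intro h
    refine hne ?_
    calc g * s * g⁻¹ = c * (c⁻¹ * (g * s * g⁻¹) * c) * c⁻¹ := by group
      _ = s := by rw [h, hc]
  · rw [← hc]; group
  · calc c⁻¹ * g * c * (c⁻¹ * (g * s * g⁻¹) * c) * (c⁻¹ * g * c)⁻¹ =
        c⁻¹ * (g * (g * s * g⁻¹) * g⁻¹) * c := by group
      _ = S.t := by rw [hinv, ← hc]; group

end Setup

end CfsgLib.BenderWorld.Shape
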