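import Cfsg.Agent.BenderWorld.Shape.Basic
import Cfsg.Agent.BenderWorld.Gelfand

/-!
# The constituents of the permutation character on the conjugates of `t`

Steps 0, 1 and the first half of 5 of `docs/bender_sliceG_mixed_helper81.md`, from a `Setup`:
* `indFun_E_eq`: `E = C_D(t)` and `E' = C_D(w)` give the same permutation character of `D`;
* `restrict_isIrr`: a nonreal constituent restricts irreducibly to `D`, to a nonreal character
  `θ` with `θ (w d) = conj (θ d)`;
* `swapped_of_kernelProperty`: with the kernel property every `g t g⁻¹`, `g ∈ T1`, is swapped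
  with `t`.
-/

set_option autoImplicit false
set_option linter.unusedSectionVars false
set_option linter.style.haveILetI false

namespace CfsgLib.BenderWorld.Shape

open CfsgLib.Characters
open scoped ComplexConjugate

attribute [local instance high] Fintype.ofFinite

universe u

section General

variable {H : Type u} [Group H] [Finite H]

/-- Conjugation on the conjugates of `t` through a homomorphism with transitive image is induced
from the stabiliser. -/
theorem natCard_fixed_conj {G : Type u} [Group G] [Finite G] (j : G →* H) (t : H) (C : Subgroup G)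
    (hC : ∀ x, x ∈ C ↔ Commute (j x) t)
    (hcov : ∀ s, IsConj t s → ∃ x, j x * t * (j x)⁻¹ = s) (g : G) :
    (Nat.card {s : H // IsConj t s ∧ j g * s * (j g)⁻¹ = s} : ℂ) =
      Cfsg.indFun C (fun _ => (1 : ℂ)) g := by
  letI : MulAction G {s : H // IsConj t s} :=
    { smul := fun x s => ⟨j x * s.1 * (j x)⁻¹, s.2.trans (isConj_iff.2 ⟨j x, rfl⟩)⟩
      one_smul := fun s => Subtype.ext
        (show j 1 * s.1 * (j 1)⁻¹ = s.1 by rw [map_one, one_mul, inv_one, mul_one])
      mul_smul := fun x y s => Subtype.ext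
        (show j (x * y) * s.1 * (j (x * y))⁻¹ = j x * (j y * s.1 * (j y)⁻¹) * (j x)⁻¹ by
          simp [mul_assoc]) }
  let t0 : {s : H // IsConj t s} := ⟨t, IsConj.refl t⟩
  haveI : MulAction.IsPretransitive G {s : H // IsConj t s} := by
    have h0 : ∀ s : {s : H // IsConj t s}, ∃ x : G, x • t0 = s := fun s => by
      obtain ⟨x, hx⟩ := hcov s.1 s.2
      exact ⟨x, Subtype.ext hx⟩
    refine ⟨fun a b => ?_⟩
    obtain ⟨x, rfl⟩ := h0 a
    obtain ⟨y, rfl⟩ := h0 b
    exact ⟨y * x⁻¹, by rw [smul_smul, inv_mul_cancel_right]⟩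
  have hstab : MulAction.stabilizer G t0 = C := by
    ext x
    rw [MulAction.mem_stabilizer_iff, hC, Subtype.ext_iff]
    exact mul_inv_eq_iff_eq_mul
  have h := card_fixedBy_eq_indFun {s : H // IsConj t s} t0 g
  rw [hstab] at h
  rw [← h]
  congr 1
  exact Nat.card_congr ((Equiv.subtypeSubtypeEquivSubtypeInter (fun s => IsConj t s)
    (fun s => j g * s * (j g)⁻¹ = s)).symm.trans
    (Equiv.subtypeEquivRight fun s => by rw [MulAction.mem_fixedBy, Subtype.ext_iff]; rfl))

/-- The multiplicity in a transitive permutation character is the dimension of the invariants of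
a point stabiliser. -/
theorem classInner_indFun_one {n : ℕ} (ρ : Representation ℂ H (Fin n → ℂ)) (C : Subgroup H) :
    Cfsg.classInner (Cfsg.indFun C (fun _ => (1 : ℂ))) ρ.character =
      (Module.finrank ℂ (Representation.invariants (ρ.comp C.subtype)) : ℂ) := by
  haveI : Invertible (Nat.card C : ℂ) := invertibleOfNonzero (subgroup_card_ne_zero C)
  have h : ((Nat.card C : ℂ)⁻¹ * ∑ c : C, ρ.character (c : H)) =
      (Module.finrank ℂ (Representation.invariants (ρ.comp C.subtype)) : ℂ) :=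
    Representation.card_inv_mul_sum_char_eq_finrank (ρ.comp C.subtype)
  rw [classInner_indFun C _ (isClassFunction_of_isCharacter (isCharacter_character ρ)),
    ← Complex.conj_natCast, ← h, Cfsg.classInner, map_mul, map_inv₀, Complex.conj_natCast, map_sum]
  simp only [one_mul]

/-- An operator fixed on both sides by `C`, whose invariants are at most a line, vanishes if its
trace does. -/
theorem eq_zero_of_trace {n : ℕ} (ρ : Representation ℂ H (Fin n → ℂ)) (C : Subgroup H)
    (hinv : Module.finrank ℂ (Representation.invariants (ρ.comp C.subtype)) ≤ 1)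
    (A : (Fin n → ℂ) →ₗ[ℂ] (Fin n → ℂ)) (hl : ∀ c ∈ C, ρ c ∘ₗ A = A)
    (hr : ∀ c ∈ C, A ∘ₗ ρ c = A) (htr : LinearMap.trace ℂ _ A = 0) : A = 0 := by
  haveI : Invertible (Nat.card C : ℂ) := invertibleOfNonzero (subgroup_card_ne_zero C)
  set σ : Representation ℂ C (Fin n → ℂ) := ρ.comp C.subtype
  have hAmem : ∀ x, A x ∈ Representation.invariants σ := fun x c => LinearMap.congr_fun (hl c c.2) x
  rcases Nat.eq_zero_or_pos (Module.finrank ℂ (Representation.invariants σ)) with h0 | h0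
  · refine LinearMap.ext fun x => ?_
    have := hAmem x
    rwa [Submodule.finrank_eq_zero.1 h0, Submodule.mem_bot] at this
  have h1 : Module.finrank ℂ (Representation.invariants σ) = 1 := le_antisymm hinv h0
  obtain ⟨v, -, hspan⟩ := finrank_eq_one_iff'.1 h1
  obtain ⟨μ, hμ⟩ := hspan ⟨A v.1, hAmem v.1⟩
  have hμ' : μ • v.1 = A v.1 := congrArg Subtype.val hμ
  let Q : (Fin n → ℂ) →ₗ[ℂ] (Fin n → ℂ) := (Nat.card C : ℂ)⁻¹ • ∑ c : C, σ c
  have hQapp : ∀ x, Q x = (Nat.card C : ℂ)⁻¹ • ∑ c : C, σ c x := fun x => by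
    simp [Q, LinearMap.sum_apply]
  have hQ : ∀ x, Q x ∈ Representation.invariants σ := fun x c => by
    rw [hQapp, map_smul, map_sum]
    congr 1
    refine Fintype.sum_bijective (c * ·) (Group.mulLeft_bijective c) _ _ fun d => ?_
    rw [map_mul]; rfl
  have hAQ : ∀ x, A (Q x) = A x := fun x => by
    rw [hQapp, map_smul, map_sum, Finset.sum_congr rfl (g := fun _ => A x) fun c _ => ?_,
      Finset.sum_const, Finset.card_univ, ← Nat.card_eq_fintype_card, ← Nat.cast_smul_eq_nsmul ℂ,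
      smul_smul, inv_mul_cancel₀ (subgroup_card_ne_zero C), one_smul]
    exact LinearMap.congr_fun (hr c c.2) x
  have hA : A = μ • Q := LinearMap.ext fun x => by
    obtain ⟨a, ha⟩ := hspan ⟨Q x, hQ x⟩
    have ha' : a • v.1 = Q x := congrArg Subtype.val ha
    change A x = μ • Q x
    rw [← hAQ, ← ha', map_smul, ← hμ', smul_comm]
  have htrQ : LinearMap.trace ℂ _ Q = 1 := by
    rw [map_smul, map_sum, smul_eq_mul]
    have h : ((Nat.card C : ℂ)⁻¹ * ∑ c : C, σ.character c) =
        (Module.finrank ℂ (Representation.invariants σ) : ℂ) :=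
      Representation.card_inv_mul_sum_char_eq_finrank σ
    rw [h1, Nat.cast_one] at h
    exact h
  rw [hA, map_smul, htrQ, smul_eq_mul, mul_one] at htr
  rw [hA, htr, zero_smul]

/-- The fixed points on the cosets of `C`. -/
theorem card_fixedBy_conj {D : Type u} [Group D] [Finite D] (C : Subgroup D) (d : D) :
    (Nat.card (MulAction.fixedBy (D ⧸ C) d) : ℂ) = Cfsg.indFun C (fun _ => (1 : ℂ)) d := by
  rw [card_fixedBy_eq_indFun (D ⧸ C) ((1 : D) : D ⧸ C)]
  exact congrArg (fun K : Subgroup D => Cfsg.indFun K (fun _ => (1 : ℂ)) d)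
    (MulAction.stabilizer_quotient C)

end General

namespace Setup

variable {H : Type u} [Group H] [Finite H] (S : Setup H)

theorem perm_eq :
    S.perm = Cfsg.indFun (Subgroup.centralizer ({S.t} : Set H)) (fun _ => (1 : ℂ)) :=
  funext fun g => natCard_fixed_conj (MonoidHom.id H) S.t _
    (fun _ => Subgroup.mem_centralizer_singleton_iff) (fun _ h => isConj_iff.1 h) g

/-- On `D` the permutation character is that on the cosets of `E`. -/
theorem perm_restrict :
    (fun d : S.D => S.perm (d : H)) = Cfsg.indFun S.E (fun _ => (1 : ℂ)) :=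
  funext fun d => natCard_fixed_conj S.D.subtype S.t _ (fun _ => S.mem_E)
    (fun s h => by
      obtain ⟨x, rfl⟩ := isConj_iff.1 h
      obtain ⟨d, hd, hdx⟩ := S.cover x
      exact ⟨⟨d, hd⟩, hdx⟩) d

theorem isCharacter_perm : Cfsg.IsCharacter H S.perm :=
  S.perm_eq ▸ isCharacter_indFun _ isCharacter_one

/-- `d` fixes as many cosets of `C_D(t)` as of `C_D(w)`. -/
theorem indFun_E_eq :
    Cfsg.indFun S.E (fun _ => (1 : ℂ)) = Cfsg.indFun S.E' (fun _ => (1 : ℂ)) := by
  classical
  rw [← S.perm_restrict]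
  funext d
  have hE' : ∀ x : S.D, x ∈ S.E' ↔ S.w x = x := fun x => S.mem_E'
  have hsq : ∀ r : {r : S.D // S.w r = r⁻¹ ∧ (r ^ 2)⁻¹ * d * r ^ 2 = S.w d},
      S.w (r.1 ^ 2) = (r.1 ^ 2)⁻¹ ∧ (r.1 ^ 2)⁻¹ * d * r.1 ^ 2 = S.w d :=
    fun r => ⟨by rw [map_pow, r.2.1, inv_pow], r.2.2⟩
  have hbij : Function.Bijective
      (fun r => (⟨r.1 ^ 2, hsq r⟩ : {p : S.D // S.w p = p⁻¹ ∧ p⁻¹ * d * p = S.w d})) := by
    refine ⟨fun r r' h => Subtype.ext (Gelfand.sq_inj S.odd (congrArg Subtype.val h)), ?_⟩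
    rintro ⟨p, hp, hpd⟩
    obtain ⟨r, rfl⟩ := Gelfand.exists_sq_eq S.odd p
    exact ⟨⟨r, Gelfand.sqrt_inverted S.odd rfl hp, hpd⟩, rfl⟩
  have hmem : ∀ r : S.D, S.w r = r⁻¹ → (((r : S.D) : S.D ⧸ S.E') ∈
      MulAction.fixedBy (S.D ⧸ S.E') d ↔ (r ^ 2)⁻¹ * d * r ^ 2 = S.w d) := by
    intro r hr
    rw [MulAction.mem_fixedBy, MulAction.Quotient.smul_coe, smul_eq_mul, QuotientGroup.eq,
      show (d * r)⁻¹ * r = (r⁻¹ * d * r)⁻¹ by group, inv_mem_iff, hE', map_mul, map_mul, map_inv,
      hr, inv_inv]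
    constructor
    · intro h
      calc (r ^ 2)⁻¹ * d * r ^ 2 = r⁻¹ * (r⁻¹ * d * r) * r := by rw [pow_two]; group
        _ = S.w d := by rw [← h]; group
    · intro h
      rw [← h, pow_two]; group
  rw [← card_fixedBy_conj (D := S.D) S.E' d]
  change (Nat.card _ : ℂ) = _
  rw [← S.card_swap d, ← Nat.card_congr (Equiv.ofBijective _ hbij)]
  congr 1
  refine Nat.card_congr (Equiv.ofBijective
    (fun r => ⟨_, (hmem r.1 r.2.1).2 r.2.2⟩) ⟨?_, ?_⟩)
  · exact fun r r' h => Subtype.ext (Gelfand.eq_of_inv_mul_mem S.odd hE' r.2.1 r'.2.1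
      (QuotientGroup.eq.1 (congrArg Subtype.val h)))
  · rintro ⟨x, hx⟩
    obtain ⟨c, rfl⟩ := QuotientGroup.mk_surjective x
    obtain ⟨r, hr, he⟩ := Gelfand.exists_decomp S.odd S.w_w hE' c
    have heq : ((r : S.D) : S.D ⧸ S.E') = c := QuotientGroup.eq.2 he
    exact ⟨⟨r, hr, (hmem r hr).1 (heq ▸ hx)⟩, Subtype.ext heq⟩

/-- The Gelfand pair: multiplicities on `D`. -/
theorem classInner_E_eq {θ : S.D → ℂ} (hθ : Cfsg.IsIrrCharacter S.D θ) :
    Cfsg.classInner (Cfsg.indFun S.E (fun _ => (1 : ℂ))) θ = 0 ∨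
      Cfsg.classInner (Cfsg.indFun S.E (fun _ => (1 : ℂ))) θ = 1 :=
  S.indFun_E_eq ▸ Gelfand.classInner_perm_eq_zero_or_one S.odd S.w_w (fun _ => S.mem_E') hθ

/-- A constituent on `D` is twisted by `w`. -/
theorem twisted {θ : S.D → ℂ} (hθ : Cfsg.IsIrrCharacter S.D θ)
    (h : Cfsg.classInner (Cfsg.indFun S.E (fun _ => (1 : ℂ))) θ ≠ 0) (d : S.D) :
    θ (S.w d) = conj (θ d) :=
  Gelfand.twisted_of_constituent S.odd S.w_w (fun _ => S.mem_E') hθ (S.indFun_E_eq ▸ h) d

/-- A constituent on `D` is real on the elements conjugate into `E`. -/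
theorem conj_eq_self {θ : S.D → ℂ} (hθ : Cfsg.IsIrrCharacter S.D θ)
    (h : Cfsg.classInner (Cfsg.indFun S.E (fun _ => (1 : ℂ))) θ ≠ 0) {e : S.D} (he : e ∈ S.E) :
    conj (θ e) = θ e := by
  obtain ⟨c, hc⟩ := (S.star e).1 ⟨1, by simpa using S.mem_E.1 he⟩
  rw [← isClassFunction_of_isIrr hθ e c, ← S.twisted hθ h, hc]

/-- Each irreducible character of `D` is shared by at most one constituent, with multiplicity
one. -/
theorem shared {χ : H → ℂ} (hχ : Cfsg.IsIrrCharacter H χ) (hp : Cfsg.classInner S.perm χ ≠ 0)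
    {θ : S.D → ℂ} (hθ : Cfsg.IsIrrCharacter S.D θ)
    (h : Cfsg.classInner (fun d : S.D => χ (d : H)) θ ≠ 0) :
    Cfsg.classInner S.perm χ = 1 ∧ Cfsg.classInner (fun d : S.D => χ (d : H)) θ = 1 ∧
      Cfsg.classInner (Cfsg.indFun S.E (fun _ => (1 : ℂ))) θ = 1 ∧
      ∀ ψ : H → ℂ, Cfsg.IsIrrCharacter H ψ → Cfsg.classInner S.perm ψ ≠ 0 → ψ ≠ χ →
        Cfsg.classInner (fun d : S.D => ψ (d : H)) θ = 0 := by
  classical
  choose m hm using fun χ : Cfsg.IrrCharacter H =>
    classInner_character_irr S.isCharacter_perm χ.2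
  choose a ha using fun χ : Cfsg.IrrCharacter H =>
    classInner_character_irr (isCharacter_restrict S.D (isCharacter_of_isIrr χ.2)) hθ
  have hsum : Cfsg.classInner (Cfsg.indFun S.E (fun _ => (1 : ℂ))) θ = ((∑ ψ, m ψ * a ψ : ℕ) : ℂ) := by
    have hexp : (fun d : S.D => S.perm (d : H)) =
        ∑ ψ : Cfsg.IrrCharacter H, (m ψ : ℂ) • fun d : S.D => (ψ : H → ℂ) (d : H) := by
      funext d
      rw [congrFun (character_expansion S.isCharacter_perm) (d : H)]
      simp only [Finset.sum_apply, Pi.smul_apply, hm]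
    rw [← S.perm_restrict, hexp, classInner_sum_left, Nat.cast_sum]
    exact Finset.sum_congr rfl fun ψ _ => by rw [classInner_smul_left, ha, Nat.cast_mul]
  have hle : ∑ ψ, m ψ * a ψ ≤ 1 := by
    rcases S.classInner_E_eq hθ with he | he <;> rw [hsum] at he
    · rw [Nat.cast_eq_zero.1 he]; exact Nat.zero_le 1
    · rw [Nat.cast_eq_one.1 he]
  let c : Cfsg.IrrCharacter H := ⟨χ, hχ⟩
  have hmc : 0 < m c := Nat.pos_of_ne_zero fun h0 => hp ((hm c).trans (by rw [h0, Nat.cast_zero]))
  have hac : 0 < a c := Nat.pos_of_ne_zero fun h0 => h ((ha c).trans (by rw [h0, Nat.cast_zero]))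
  have hc : m c * a c ≤ ∑ ψ, m ψ * a ψ :=
    Finset.single_le_sum (f := fun ψ => m ψ * a ψ) (fun ψ _ => Nat.zero_le _) (Finset.mem_univ c)
  have hone : m c * a c = 1 := le_antisymm (hc.trans hle) (Nat.mul_pos hmc hac)
  refine ⟨(hm c).trans (by rw [Nat.eq_one_of_mul_eq_one_right hone, Nat.cast_one]),
    (ha c).trans (by rw [Nat.eq_one_of_mul_eq_one_left hone, Nat.cast_one]),
    by rw [hsum, le_antisymm hle (hone ▸ hc), Nat.cast_one], fun ψ hψ hpψ hne => ?_⟩
  let b : Cfsg.IrrCharacter H := ⟨ψ, hψ⟩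
  have hbc : b ≠ c := fun hbc => hne (congrArg Subtype.val hbc)
  have h2 : m b * a b + m c * a c ≤ 1 := by
    refine le_trans ?_ hle
    rw [← Finset.sum_pair (f := fun ψ => m ψ * a ψ) hbc]
    exact Finset.sum_le_sum_of_subset (Finset.subset_univ _)
  have hmb : 0 < m b := Nat.pos_of_ne_zero fun h0 => hpψ ((hm b).trans (by rw [h0, Nat.cast_zero]))
  have hab : a b = 0 := by
    rcases Nat.mul_eq_zero.1 (show m b * a b = 0 by omega) with h0 | h0
    · omega
    · exact h0
  exact (ha b).trans (by rw [hab, Nat.cast_zero])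

/-- A constituent meets some irreducible character of `D`. -/
theorem exists_restrict_constituent {χ : H → ℂ} (hχ : Cfsg.IsIrrCharacter H χ) :
    ∃ θ : S.D → ℂ, Cfsg.IsIrrCharacter S.D θ ∧
      Cfsg.classInner (fun d : S.D => χ (d : H)) θ ≠ 0 := by
  by_contra! h
  have hz : (fun d : S.D => χ (d : H)) = 0 := by
    rw [character_expansion (isCharacter_restrict S.D (isCharacter_of_isIrr hχ))]
    refine Finset.sum_eq_zero fun θ _ => ?_
    rw [h θ θ.2, zero_smul]
  exact irr_one_ne_zero hχ (congrFun hz 1)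

theorem classInner_perm_eq {χ : H → ℂ} (hχ : Cfsg.IsIrrCharacter H χ)
    (hp : Cfsg.classInner S.perm χ ≠ 0) : Cfsg.classInner S.perm χ = 1 := by
  obtain ⟨θ, hθ, h⟩ := S.exists_restrict_constituent hχ
  exact (S.shared hχ hp hθ h).1

/-- The conjugate of a constituent is one. -/
theorem conj_constituent {χ : H → ℂ} (hp : Cfsg.classInner S.perm χ ≠ 0) :
    Cfsg.classInner S.perm (fun g => conj (χ g)) ≠ 0 := by
  rw [show S.perm = fun g => conj (S.perm g) from funext fun g => (Complex.conj_natCast _).symm,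
    classInner_conj_conj, ne_eq, map_eq_zero]
  exact hp

/-- The isometry: inducing a class function that vanishes on `E` and restricting gives it back. -/
theorem indFun_restrict {β : S.D → ℂ} (hβ : Cfsg.IsClassFunction S.D β)
    (hE : ∀ e ∈ S.E, β e = 0) (d : S.D) : Cfsg.indFun S.D β (d : H) = β d := by
  classical
  have hgood : ∀ x : S.D, β x ≠ 0 → ∀ c : S.D, ¬ Commute ((c * x * c⁻¹ : S.D) : H) S.t :=
    fun x hx c hc => hx (by rw [← hβ x c]; exact hE _ (S.mem_E.2 hc))
  have hin : ∀ x ∈ S.D, Cfsg.extendByZero S.D β (x⁻¹ * (d : H) * x) = β d := fun x hx => by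
    rw [extendByZero_of_mem S.D β (S.D.mul_mem (S.D.mul_mem (inv_mem hx) d.2) hx)]
    have h := hβ d (⟨x, hx⟩⁻¹ : S.D)
    rw [inv_inv] at h
    exact h
  have hterm : ∀ x : H, Cfsg.extendByZero S.D β (x⁻¹ * (d : H) * x) =
      if x ∈ S.D then β d else 0 := by
    intro x
    split_ifs with hx
    · exact hin x hx
    · by_cases hm : x⁻¹ * (d : H) * x ∈ S.D
      · rw [extendByZero_of_mem S.D β hm]
        by_contra hne
        refine hx (S.ti ⟨_, hm⟩ (hgood _ hne) x ?_)
        change x * (x⁻¹ * (d : H) * x) * x⁻¹ ∈ S.D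
        rw [show x * (x⁻¹ * (d : H) * x) * x⁻¹ = (d : H) by group]
        exact d.2
      · exact extendByZero_of_not_mem S.D β hm
  rw [Cfsg.indFun, Finset.sum_congr rfl fun x _ => hterm x, ← Finset.sum_filter, Finset.sum_const,
    nsmul_eq_mul, ← Fintype.card_subtype, ← Nat.card_eq_fintype_card, ← mul_assoc,
    inv_mul_cancel₀ (subgroup_card_ne_zero S.D), one_mul]

/-- The difference of two constituents on `D` that agree on `E` induces to the difference of the
constituents over them; if the first restricts irreducibly, so does the second. -/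
theorem restrict_eq_of_agree {χ χ' : H → ℂ} (hχ : Cfsg.IsIrrCharacter H χ)
    (hp : Cfsg.classInner S.perm χ ≠ 0) (hχ' : Cfsg.IsIrrCharacter H χ')
    (hp' : Cfsg.classInner S.perm χ' ≠ 0) (hne : χ' ≠ χ) {θ θ' : S.D → ℂ}
    (hθ : Cfsg.IsIrrCharacter S.D θ) (hθ' : Cfsg.IsIrrCharacter S.D θ')
    (h : Cfsg.classInner (fun d : S.D => χ (d : H)) θ ≠ 0)
    (h' : Cfsg.classInner (fun d : S.D => χ' (d : H)) θ' ≠ 0)
    (hagree : ∀ e ∈ S.E, θ e = θ' e) :
    (fun d : S.D => χ (d : H)) - (fun d : S.D => χ' (d : H)) = θ - θ' := by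
  classical
  obtain ⟨-, haθ, -, hzero⟩ := S.shared hχ hp hθ h
  obtain ⟨-, haθ', -, hzero'⟩ := S.shared hχ' hp' hθ' h'
  have hθne : θ ≠ θ' := fun he => h' (he ▸ hzero χ' hχ' hp' hne)
  set β : S.D → ℂ := θ - θ'
  have hβc : Cfsg.IsClassFunction S.D β := fun x y => by
    simp only [β, Pi.sub_apply, isClassFunction_of_isIrr hθ x y, isClassFunction_of_isIrr hθ' x y]
  have hres : (fun d : S.D => Cfsg.indFun S.D β (d : H)) = β :=
    funext fun d => S.indFun_restrict hβc (fun e he => by simp [β, hagree e he]) d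
  have hI := isClassFunction_indFun S.D β
  -- inner products
  have hββ : Cfsg.classInner β β = 2 := by
    simp only [β, classInner_sub_left, classInner_sub_right, classInner_isIrr_self hθ,
      classInner_isIrr_self hθ', classInner_isIrr_ne hθ hθ' hθne,
      classInner_isIrr_ne hθ' hθ hθne.symm]
    norm_num
  have hrec : ∀ ψ : H → ℂ, Cfsg.IsIrrCharacter H ψ → Cfsg.classInner (Cfsg.indFun S.D β) ψ =
      conj (Cfsg.classInner (fun d : S.D => ψ (d : H)) θ) -
        conj (Cfsg.classInner (fun d : S.D => ψ (d : H)) θ') := fun ψ hψ => by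
    rw [classInner_indFun S.D _ (isClassFunction_of_isIrr hψ), classInner_sub_left,
      classInner_conj_symm θ, classInner_conj_symm θ', Complex.conj_conj, Complex.conj_conj]
  have h1 : Cfsg.classInner (Cfsg.indFun S.D β) χ = 1 := by
    rw [hrec χ hχ, haθ, hzero' χ hχ hp hne.symm, map_one, map_zero, sub_zero]
  have h2 : Cfsg.classInner (Cfsg.indFun S.D β) χ' = -1 := by
    rw [hrec χ' hχ', haθ', hzero χ' hχ' hp' hne, map_one, map_zero, zero_sub]
  set δ : H → ℂ := Cfsg.indFun S.D β - (χ - χ')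
  have hδc : Cfsg.IsClassFunction H δ := fun x y => by
    simp only [δ, Pi.sub_apply, hI x y, isClassFunction_of_isIrr hχ x y,
      isClassFunction_of_isIrr hχ' x y]
  have hδ : Cfsg.classInner δ δ = 0 := by
    have hnorm : Cfsg.classInner (Cfsg.indFun S.D β) (Cfsg.indFun S.D β) = 2 := by
      rw [classInner_indFun S.D _ hI, hres, hββ]
    have h1' : Cfsg.classInner χ (Cfsg.indFun S.D β) = 1 := by
      rw [classInner_conj_symm, h1, map_one]
    have h2' : Cfsg.classInner χ' (Cfsg.indFun S.D β) = -1 := by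
      rw [classInner_conj_symm, h2, map_neg, map_one]
    simp only [δ, classInner_sub_left, classInner_sub_right, hnorm, h1, h2, h1', h2',
      classInner_isIrr_self hχ, classInner_isIrr_self hχ', classInner_isIrr_ne hχ hχ' hne.symm,
      classInner_isIrr_ne hχ' hχ hne]
    norm_num
  have hδ0 : δ = 0 := by
    refine classFunction_eq_zero hδc fun ψ => ?_
    have h := classInner_eq_sum hδc δ
    rw [hδ] at h
    have h' : ∑ φ : Cfsg.IrrCharacter H, Complex.normSq (Cfsg.classInner δ (φ : H → ℂ)) = 0 := by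
      have h'' : ((∑ φ : Cfsg.IrrCharacter H,
          Complex.normSq (Cfsg.classInner δ (φ : H → ℂ)) : ℝ) : ℂ) = 0 := by
        rw [h, Complex.ofReal_sum]
        exact Finset.sum_congr rfl fun φ _ => (Complex.mul_conj _).symm
      exact_mod_cast h''
    exact Complex.normSq_eq_zero.1
      ((Finset.sum_eq_zero_iff_of_nonneg fun φ _ => Complex.normSq_nonneg _).1 h' ψ
        (Finset.mem_univ ψ))
  funext d
  have h := congrFun hδ0 (d : H)
  simp only [δ, Pi.sub_apply, Pi.zero_apply, sub_eq_zero] at h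
  rw [Pi.sub_apply, ← h]
  exact congrFun hres d

/-- In the situation of `restrict_eq_of_agree` both restrictions are irreducible. -/
theorem restrict_of_agree {χ χ' : H → ℂ} (hχ : Cfsg.IsIrrCharacter H χ)
    (hp : Cfsg.classInner S.perm χ ≠ 0) (hχ' : Cfsg.IsIrrCharacter H χ')
    (hp' : Cfsg.classInner S.perm χ' ≠ 0) (hne : χ' ≠ χ) {θ θ' : S.D → ℂ}
    (hθ : Cfsg.IsIrrCharacter S.D θ) (hθ' : Cfsg.IsIrrCharacter S.D θ')
    (h : Cfsg.classInner (fun d : S.D => χ (d : H)) θ ≠ 0)
    (h' : Cfsg.classInner (fun d : S.D => χ' (d : H)) θ' ≠ 0)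
    (hagree : ∀ e ∈ S.E, θ e = θ' e) :
    (fun d : S.D => χ (d : H)) = θ ∧ (fun d : S.D => χ' (d : H)) = θ' := by
  classical
  have heq := S.restrict_eq_of_agree hχ hp hχ' hp' hne hθ hθ' h h' hagree
  have key : (fun d : S.D => χ (d : H)) = θ := by
    rw [character_expansion (isCharacter_restrict S.D (isCharacter_of_isIrr hχ))]
    rw [Finset.sum_eq_single (⟨θ, hθ⟩ : Cfsg.IrrCharacter S.D), (S.shared hχ hp hθ h).2.1,
      one_smul]
    · intro ψ _ hψ
      by_cases hz : Cfsg.classInner (fun d : S.D => χ (d : H)) (ψ : S.D → ℂ) = 0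
      · rw [hz, zero_smul]
      exfalso
      obtain ⟨-, hψ1, -, hψ0⟩ := S.shared hχ hp ψ.2 hz
      have he := congrArg (fun f => Cfsg.classInner f (ψ : S.D → ℂ)) heq
      simp only [classInner_sub_left, hψ1, hψ0 χ' hχ' hp' hne, sub_zero,
        classInner_isIrr_ne hθ ψ.2 fun hc => hψ (Subtype.ext hc.symm)] at he
      have hcases : Cfsg.classInner θ' (ψ : S.D → ℂ) = 0 ∨
          Cfsg.classInner θ' (ψ : S.D → ℂ) = 1 := by
        rw [classInner_irr (⟨θ', hθ'⟩ : Cfsg.IrrCharacter S.D) ψ]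
        split_ifs
        · exact Or.inr rfl
        · exact Or.inl rfl
      rcases hcases with hc | hc <;> rw [hc] at he <;> norm_num at he
    · exact fun hx => absurd (Finset.mem_univ _) hx
  refine ⟨key, ?_⟩
  rw [key] at heq
  exact sub_right_injective heq

theorem isIrr_one_constituent : Cfsg.classInner S.perm (fun _ => (1 : ℂ)) ≠ 0 := by
  obtain ⟨n, hn⟩ := classInner_character_irr S.isCharacter_perm (isIrr_one (G := H))
  rw [S.perm_eq, classInner_indFun _ _ (isClassFunction_of_isIrr isIrr_one)]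
  rw [classInner_isIrr_self isIrr_one]
  exact one_ne_zero

/-- The only constituent over the trivial character of `D` is the trivial one. -/
theorem eq_one_of_over_one {χ : H → ℂ} (hχ : Cfsg.IsIrrCharacter H χ)
    (hp : Cfsg.classInner S.perm χ ≠ 0)
    (h : Cfsg.classInner (fun d : S.D => χ (d : H)) (fun _ => (1 : ℂ)) ≠ 0) :
    χ = fun _ => 1 := by
  by_contra hne
  refine one_ne_zero (α := ℂ) ?_
  rw [← classInner_isIrr_self (isIrr_one (G := S.D))]
  exact (S.shared hχ hp isIrr_one h).2.2.2 _ isIrr_one S.isIrr_one_constituent (Ne.symm hne)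

/-- A nonreal constituent restricts to `D` as a single nonreal `θ`, which occurs once for `E`
and for `E'` and is twisted by `w`. -/
theorem restrict_isIrr {χ : H → ℂ} (hχ : Cfsg.IsIrrCharacter H χ)
    (hp : Cfsg.classInner S.perm χ ≠ 0) (hreal : ∃ g, (χ g).im ≠ 0) :
    Cfsg.IsIrrCharacter S.D (fun d : S.D => χ (d : H)) ∧
      Cfsg.classInner (Cfsg.indFun S.E (fun _ => (1 : ℂ))) (fun d : S.D => χ (d : H)) = 1 ∧
      Cfsg.classInner (Cfsg.indFun S.E' (fun _ => (1 : ℂ))) (fun d : S.D => χ (d : H)) = 1 ∧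
      (∀ d : S.D, χ ((S.w d : S.D) : H) = conj (χ (d : H))) ∧
      ∃ d : S.D, (χ (d : H)).im ≠ 0 := by
  obtain ⟨θ, hθ, h⟩ := S.exists_restrict_constituent hχ
  obtain ⟨-, -, hmult, -⟩ := S.shared hχ hp hθ h
  have hmult0 : Cfsg.classInner (Cfsg.indFun S.E (fun _ => (1 : ℂ))) θ ≠ 0 := by
    rw [hmult]; exact one_ne_zero
  set χ' : H → ℂ := fun g => conj (χ g)
  set θ' : S.D → ℂ := fun d => conj (θ d)
  obtain ⟨g, hg⟩ := hreal
  have hne : χ' ≠ χ := fun he => hg (Complex.conj_eq_iff_im.1 (congrFun he g))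
  have h' : Cfsg.classInner (fun d : S.D => χ' (d : H)) θ' ≠ 0 := by
    change Cfsg.classInner (fun d : S.D => conj (χ (d : H))) (fun d => conj (θ d)) ≠ 0
    rw [classInner_conj_conj, ne_eq, map_eq_zero]
    exact h
  obtain ⟨hres, -⟩ := S.restrict_of_agree hχ hp (isIrr_conj hχ) (S.conj_constituent hp) hne hθ
    (isIrr_conj hθ) h h' (fun e he => (S.conj_eq_self hθ hmult0 he).symm)
  have hval : ∀ d : S.D, χ (d : H) = θ d := congrFun hres
  refine ⟨hres ▸ hθ, hres ▸ hmult, hres ▸ S.indFun_E_eq ▸ hmult,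
    fun d => by rw [hval, hval, S.twisted hθ hmult0], ?_⟩
  by_contra! hall
  have h1 : θ = fun _ => 1 :=
    eq_one_of_real_of_odd S.odd hθ fun d => hval d ▸ hall d
  have hone := S.eq_one_of_over_one hχ hp (h1 ▸ h)
  exact hg (by rw [hone]; exact Complex.one_im)

omit S in
/-- The kernel of a character, by values. -/
theorem rho_eq_one {n : ℕ} (ρ : Representation ℂ H (Fin n → ℂ)) {g : H}
    (h : ρ.character g = ρ.character 1) : ρ g = LinearMap.id :=
  (char_eq_finrank_iff ρ g).1 (h.trans (Representation.char_one ρ))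

/-- If `t` is in the kernel, so is `T1`. -/
theorem rho_T1 {n : ℕ} (ρ : Representation ℂ H (Fin n → ℂ))
    (h : ρ.character S.t = ρ.character 1) {g : H} (hg : g ∈ S.T1) : ρ g = 1 := by
  have hle : S.T1 ≤ MonoidHom.ker ρ := by
    refine Subgroup.normalClosure_le_normal ?_
    rintro _ rfl
    exact rho_eq_one ρ h
  exact hle hg

/-- With the kernel property every conjugate of `t` under `T1` can be swapped with `t`. -/
theorem swapped_of_kernelProperty (hk : S.KernelProperty) :
    ∀ g ∈ S.T1, ∃ k : H, k * S.t * k⁻¹ = g * S.t * g⁻¹ ∧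
      k * (g * S.t * g⁻¹) * k⁻¹ = S.t := by
  classical
  intro g hg
  set C : Subgroup H := Subgroup.centralizer ({S.t} : Set H)
  let Dc : H → Prop := fun x => ∃ a ∈ C, ∃ b ∈ C, x = a * g * b
  let f : H → ℂ := fun x => (if Dc x then 1 else 0) - (if Dc x⁻¹ then 1 else 0)
  have hDl : ∀ c ∈ C, ∀ x, Dc x → Dc (c * x) := fun c hc x ⟨a, ha, b, hb, he⟩ =>
    ⟨c * a, mul_mem hc ha, b, hb, by rw [he]; group⟩
  have hDr : ∀ c ∈ C, ∀ x, Dc x → Dc (x * c) := fun c hc x ⟨a, ha, b, hb, he⟩ =>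
    ⟨a, ha, b * c, mul_mem hb hc, by rw [he]; group⟩
  have hfl : ∀ c ∈ C, ∀ x, f (c * x) = f x := fun c hc x => by
    have h1 : Dc (c * x) ↔ Dc x :=
      ⟨fun h => by simpa using hDl c⁻¹ (inv_mem hc) _ h, hDl c hc x⟩
    have h2 : Dc (c * x)⁻¹ ↔ Dc x⁻¹ :=
      ⟨fun h => by simpa [mul_assoc] using hDr c hc _ h,
        fun h => by simpa using hDr c⁻¹ (inv_mem hc) _ h⟩
    simp only [f, h1, h2]
  have hfr : ∀ c ∈ C, ∀ x, f (x * c) = f x := fun c hc x => by
    have h1 : Dc (x * c) ↔ Dc x :=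
      ⟨fun h => by simpa using hDr c⁻¹ (inv_mem hc) _ h, hDr c hc x⟩
    have h2 : Dc (x * c)⁻¹ ↔ Dc x⁻¹ :=
      ⟨fun h => by simpa using hDl c hc _ h,
        fun h => by simpa using hDl c⁻¹ (inv_mem hc) _ h⟩
    simp only [f, h1, h2]
  have hanti : ∀ x, f x⁻¹ = - f x := fun x => by simp only [f, inv_inv, neg_sub]
  have hterm : ∀ χ : Cfsg.IrrCharacter H,
      ∑ x, f x * (χ : H → ℂ) (x * g⁻¹) = ∑ x, f x * (χ : H → ℂ) x := by
    rintro ⟨_, n, ρ, hρ, rfl⟩
    set A : (Fin n → ℂ) →ₗ[ℂ] (Fin n → ℂ) := ∑ x, f x • ρ x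
    have htrace : ∀ y, ∑ x, f x * ρ.character (x * y) = LinearMap.trace ℂ _ (A * ρ y) := by
      intro y
      rw [Finset.sum_mul, map_sum]
      refine Finset.sum_congr rfl fun x _ => ?_
      rw [smul_mul_assoc, map_smul, smul_eq_mul, ← map_mul]
      rfl
    have hchar : ∑ x, f x * ρ.character x = LinearMap.trace ℂ _ A := by
      simpa using htrace 1
    change ∑ x, f x * ρ.character (x * g⁻¹) = ∑ x, f x * ρ.character x
    by_cases hT : ρ.character S.t = ρ.character 1
    · refine Finset.sum_congr rfl fun x _ => ?_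
      rw [Representation.character, Representation.character, map_mul,
        S.rho_T1 ρ hT (inv_mem hg), mul_one]
    suffices hA : A = 0 by rw [htrace, hchar, hA, zero_mul, map_zero]
    have hinv : Module.finrank ℂ (Representation.invariants (ρ.comp C.subtype)) ≤ 1 := by
      by_cases hp : Cfsg.classInner S.perm ρ.character = 0
      · rw [S.perm_eq, classInner_indFun_one, Nat.cast_eq_zero] at hp
        exact hp ▸ Nat.zero_le 1
      · have h1 := S.classInner_perm_eq ⟨n, ρ, hρ, rfl⟩ hp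
        rw [S.perm_eq, classInner_indFun_one, Nat.cast_eq_one] at h1
        exact h1.le
    have hl : ∀ c ∈ C, ρ c ∘ₗ A = A := fun c hc => by
      rw [← Module.End.mul_eq_comp, Finset.mul_sum]
      refine Fintype.sum_bijective (c * ·) (Group.mulLeft_bijective c) _ _ fun x => ?_
      rw [mul_smul_comm, ← map_mul, hfl c hc]
    have hr : ∀ c ∈ C, A ∘ₗ ρ c = A := fun c hc => by
      rw [← Module.End.mul_eq_comp, Finset.sum_mul]
      refine Fintype.sum_bijective (· * c) (Group.mulRight_bijective c) _ _ fun x => ?_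
      rw [smul_mul_assoc, ← map_mul, hfr c hc]
    by_cases hp : Cfsg.classInner S.perm ρ.character = 0
    · rw [S.perm_eq, classInner_indFun_one, Nat.cast_eq_zero, Submodule.finrank_eq_zero] at hp
      refine LinearMap.ext fun v => ?_
      have hv : A v ∈ Representation.invariants (ρ.comp C.subtype) :=
        fun c => LinearMap.congr_fun (hl c c.2) v
      rwa [hp, Submodule.mem_bot] at hv
    have hreal : ∀ x, (ρ.character x).im = 0 := by
      by_contra! hnr
      exact hT (hk _ ⟨n, ρ, hρ, rfl⟩ hp hnr)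
    refine eq_zero_of_trace ρ C hinv A hl hr ?_
    rw [← hchar]
    have hneg : ∑ x, f x * ρ.character x = - ∑ x, f x * ρ.character x := by
      rw [← Finset.sum_neg_distrib]
      refine Fintype.sum_equiv (Equiv.inv H) _ _ fun x => ?_
      rw [Equiv.inv_apply, hanti, neg_mul, neg_neg, char_inv ρ,
        Complex.conj_eq_iff_im.2 (hreal x)]
    exact self_eq_neg.1 hneg
  have hinvn : ∀ y, (Nat.card H : ℂ) * f y =
      ∑ χ : Cfsg.IrrCharacter H, (χ : H → ℂ) 1 * ∑ x, f x * (χ : H → ℂ) (x * y⁻¹) := by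
    intro y
    simp only [Finset.mul_sum]
    rw [Finset.sum_comm, Finset.sum_eq_single y]
    · rw [mul_inv_cancel, ← sum_degree_sq, Finset.sum_mul]
      exact Finset.sum_congr rfl fun χ _ => by ring
    · intro x _ hx
      have h0 := sum_degree_mul (G := H) (x * y⁻¹)
      rw [if_neg fun he => hx (mul_inv_eq_one.1 he)] at h0
      calc ∑ χ : Cfsg.IrrCharacter H, (χ : H → ℂ) 1 * (f x * (χ : H → ℂ) (x * y⁻¹))
          = f x * ∑ χ : Cfsg.IrrCharacter H, (χ : H → ℂ) 1 * (χ : H → ℂ) (x * y⁻¹) := by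
            rw [Finset.mul_sum]
            exact Finset.sum_congr rfl fun χ _ => by ring
        _ = 0 := by rw [h0, mul_zero]
    · exact fun hy => absurd (Finset.mem_univ _) hy
  have hg1 : f g = f 1 := by
    refine mul_left_cancel₀ (natCard_ne_zero (G := H)) ?_
    rw [hinvn g, hinvn 1]
    simp only [inv_one, mul_one]
    exact Finset.sum_congr rfl fun χ _ => by rw [hterm χ]
  have hD1 : Dc g := ⟨1, one_mem C, 1, one_mem C, by group⟩
  have hDinv : Dc g⁻¹ := by
    by_contra hno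
    simp only [f, inv_one, sub_self, if_pos hD1, if_neg hno, sub_zero] at hg1
    exact one_ne_zero hg1
  obtain ⟨a, ha, b, hb, he⟩ := hDinv
  have hat : a * S.t * a⁻¹ = S.t := by
    rw [Subgroup.mem_centralizer_singleton_iff.1 ha, mul_inv_cancel_right]
  have hbt : b⁻¹ * S.t * b⁻¹⁻¹ = S.t := by
    rw [Subgroup.mem_centralizer_singleton_iff.1 (inv_mem hb), mul_inv_cancel_right]
  have hba : b * S.t * b⁻¹ = S.t := by
    rw [Subgroup.mem_centralizer_singleton_iff.1 hb, mul_inv_cancel_right]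
  refine ⟨g * b, ?_, ?_⟩
  · calc g * b * S.t * (g * b)⁻¹ = g * (b * S.t * b⁻¹) * g⁻¹ := by group
      _ = g * S.t * g⁻¹ := by rw [hba]
  · have he2 : g * b * g = a⁻¹ := by
      calc g * b * g = a⁻¹ * (a * g * b) * g := by group
        _ = a⁻¹ := by rw [← he]; group
    calc g * b * (g * S.t * g⁻¹) * (g * b)⁻¹ = g * b * g * S.t * (g * b * g)⁻¹ := by group
      _ = a⁻¹ * S.t * a := by rw [he2, inv_inv]
      _ = S.t := by
        conv_lhs => rw [← hat]
        group

end Setup

end CfsgLib.BenderWorld.Shape
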