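import Cfsg.Agent.BenderWorld.Shape.Basic
import Cfsg.Agent.PLocal.Cores
import Cfsg.Agent.Characters.Burnside
import Mathlib.GroupTheory.GroupAction.ConjAct

/-!
# The subgroup generated by the involutions

If the involutions do not all commute, every proper normal subgroup of `T1` has odd order and centralises `T1`;
`T1` modulo its odd core is a non-abelian simple group, so two primes divide the class of `t` in `T1`.
-/

set_option autoImplicit false
set_option linter.style.haveILetI false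

namespace CfsgLib.BenderWorld.Shape

universe u

namespace Setup

variable {H : Type u} [Group H] [Finite H] (S : Setup H)

theorem t_mul_t : S.t * S.t = 1 := by
  have := pow_orderOf_eq_one S.t
  rwa [S.ht, pow_two] at this

instance T1_normal : S.T1.Normal := inferInstanceAs (Subgroup.normalClosure _).Normal

theorem t_mem_T1 : S.t ∈ S.T1 := Subgroup.subset_normalClosure rfl

theorem involution_mem_T1 {u : H} (hu : orderOf u = 2) : u ∈ S.T1 := by
  obtain ⟨c, hc⟩ := S.oneClass u hu
  have h : u = (c : H) * S.t * (c : H)⁻¹ := eq_mul_inv_of_mul_eq hc.symm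
  exact h ▸ (inferInstance : S.T1.Normal).conj_mem _ S.t_mem_T1 _

include S in
theorem commute_oddNormal {N : Subgroup H} [hN : N.Normal] (ho : Odd (Nat.card N)) {x u : H} (hx : x ∈ N)
    (hu : orderOf u = 2) : Commute x u := by
  obtain ⟨c, hc⟩ := S.oneClass u hu
  have h : u = (c : H) * S.t * (c : H)⁻¹ := eq_mul_inv_of_mul_eq hc.symm
  have h1 := (S.oddCentral N hN ho _ (hN.conj_mem x hx (c : H)⁻¹)).map (MulAut.conj (c : H)).toMonoidHom
  rw [h]
  simpa [mul_assoc] using h1

/-- The odd core of `T1`, as a subgroup of `T1`. -/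
def Z1 : Subgroup S.T1 := Cfsg.pPrimeCore 2 S.T1

instance Z1_normal : S.Z1.Normal := inferInstanceAs (Cfsg.pPrimeCore 2 S.T1).Normal

theorem odd_Z1 : Odd (Nat.card S.Z1) :=
  Nat.coprime_two_right.1 (CfsgLib.PLocal.coprime_card_pPrimeCore 2 S.T1)

instance Z1_map_normal : (S.Z1.map S.T1.subtype).Normal := by
  haveI : S.Z1.Characteristic := inferInstanceAs (Cfsg.pPrimeCore 2 S.T1).Characteristic
  exact ConjAct.normal_of_characteristic_of_normal

theorem mem_center_of_mem_Z1 {x : S.T1} (hx : x ∈ S.Z1) (y : S.T1) : Commute x y := by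
  have ho : Odd (Nat.card (S.Z1.map S.T1.subtype)) := by
    rw [Subgroup.card_map_of_injective (Subgroup.subtype_injective _)]; exact S.odd_Z1
  have key : ∀ z ∈ S.T1, Commute (x : H) z := by
    intro z hz
    have hle : S.T1 ≤ Subgroup.centralizer ({(x : H)} : Set H) := by
      refine (Subgroup.closure_le _).2 fun w hw => ?_
      obtain ⟨a, rfl, c, hc⟩ := Group.mem_conjugatesOfSet_iff.1 hw
      have hw2 : orderOf w = 2 := by
        rw [show w = (c : H) * S.t * (c : H)⁻¹ from eq_mul_inv_of_mul_eq hc.symm,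
          ← MulAut.conj_apply, MulEquiv.orderOf_eq, S.ht]
      rw [SetLike.mem_coe, Subgroup.mem_centralizer_singleton_iff]
      exact (S.commute_oddNormal ho ⟨x, hx, rfl⟩ hw2).symm.eq
    exact (Subgroup.mem_centralizer_singleton_iff.1 (hle hz)).symm
  exact Subtype.ext (key y y.2)

theorem commute_t_of_mem_Z1 {x : S.T1} (hx : x ∈ S.Z1) : Commute (x : H) S.t :=
  (S.mem_center_of_mem_Z1 hx ⟨S.t, S.t_mem_T1⟩).map S.T1.subtype

theorem le_Z1 {N : Subgroup S.T1} [N.Normal] (ho : Odd (Nat.card N)) : N ≤ S.Z1 :=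
  CfsgLib.PLocal.le_pPrimeCore (Nat.coprime_two_right.2 ho)

/-- An involution equal to an odd central multiple of itself: the multiple is trivial. -/
theorem eq_one_of_mul {c : S.T1} (hc : c ∈ S.Z1) (h : c * c = 1) : c = 1 := by
  have h1 : orderOf (⟨c, hc⟩ : S.Z1) ∣ 2 :=
    orderOf_dvd_of_pow_eq_one (Subtype.ext (by rw [Subgroup.coe_pow, pow_two]; exact h))
  have h2 := _root_.orderOf_dvd_natCard (⟨c, hc⟩ : S.Z1)
  have h3 := Nat.eq_one_of_dvd_coprimes (Nat.coprime_two_left.2 S.odd_Z1) h1 h2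
  exact congrArg Subtype.val (orderOf_eq_one_iff.1 h3)

/-- An involution commuting modulo `Z1` with an element commutes with it. -/
theorem commute_of_commutator_mem {i g : S.T1} (hi : i * i = 1) (h : i * g * i⁻¹ * g⁻¹ ∈ S.Z1) :
    Commute i g := by
  have hinv : i⁻¹ = i := inv_eq_of_mul_eq_one_right hi
  have h2 : ∀ x : S.T1, i * (i * x) = x := fun x => by rw [← mul_assoc, hi, one_mul]
  set c := i * g * i⁻¹ * g⁻¹ with hc
  have hcc := S.mem_center_of_mem_Z1 h i
  have hone : c = 1 := by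
    refine S.eq_one_of_mul h ?_
    calc c * c = c * (i * i) * c := by rw [hi, mul_one]
      _ = c * i * (i * c) := by group
      _ = i * c * (i * c) := by rw [hcc.eq]
      _ = 1 := by rw [hc, hinv]; simp [mul_assoc, h2]
  exact commutatorElement_eq_one_iff_commute.1 hone

variable (hnc : ¬ ∀ u v : H, orderOf u = 2 → orderOf v = 2 → Commute u v)
include hnc

/-- Every proper normal subgroup of `T1` has odd order. -/
theorem eq_top_or_odd (N : Subgroup S.T1) [hN : N.Normal] : N = ⊤ ∨ Odd (Nat.card N) := by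
  classical
  by_contra hcon
  push Not at hcon
  obtain ⟨hNtop, hNodd⟩ := hcon
  let P : Subgroup S.T1 → Prop := fun M => M.Normal ∧ ¬ Odd (Nat.card M)
  obtain ⟨M, hMN, hM, hMmin⟩ : ∃ M ≤ N, P M ∧ ∀ K, P K → K ≤ M → K = M := by
    obtain ⟨M, hM, hmin⟩ := (wellFounded_lt (α := Subgroup S.T1)).has_min {K | P K ∧ K ≤ N}
      ⟨N, ⟨hN, hNodd⟩, le_rfl⟩
    exact ⟨M, hM.2, hM.1, fun K hK hKM => eq_of_le_of_not_lt hKM (hmin K ⟨hK, hKM.trans hM.2⟩)⟩
  let φ : H → (S.T1 ≃* S.T1) := fun h => (MulAut.conjNormal h : MulAut S.T1)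
  let cj : H → Subgroup S.T1 := fun h => M.map (φ h).toMonoidHom
  have hcjP : ∀ h, P (cj h) := fun h => ⟨hM.1.map _ (φ h).surjective, by
    rw [Subgroup.card_map_of_injective (f := (φ h).toMonoidHom) (φ h).injective]; exact hM.2⟩
  have hcjmin : ∀ h, ∀ K, P K → K ≤ cj h → K = cj h := by
    intro h K hK hle
    have h1 : K.comap (φ h).toMonoidHom = M := by
      refine hMmin _ ⟨hK.1.comap _, ?_⟩ ?_
      · rw [show K.comap (φ h).toMonoidHom = K.map (φ h).symm.toMonoidHom from
          Subgroup.comap_equiv_eq_map_symm' _ K, Subgroup.card_map_of_injective (f := (φ h).symm.toMonoidHom) (φ h).symm.injective]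
        exact hK.2
      · intro x hx
        obtain ⟨y, hy, he⟩ := hle hx
        exact (φ h).injective he ▸ hy
    rw [← show (K.comap (φ h).toMonoidHom).map (φ h).toMonoidHom = K from
      Subgroup.map_comap_eq_self_of_surjective (φ h).surjective K, h1]
  -- distinct conjugates meet in central elements
  have hmeet : ∀ g h, cj g ≠ cj h → cj g ⊓ cj h ≤ S.Z1 := by
    intro g h hne
    haveI := (hcjP g).1
    haveI := (hcjP h).1
    refine S.le_Z1 (by_contra fun ho => hne ?_)
    exact (hcjmin g _ ⟨inferInstance, ho⟩ inf_le_left).symm.trans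
      (hcjmin h _ ⟨inferInstance, ho⟩ inf_le_right)
  have hcomm : ∀ g h, cj g ≠ cj h → ∀ x ∈ cj g, ∀ y ∈ cj h, x * y * x⁻¹ * y⁻¹ ∈ S.Z1 := by
    intro g h hne x hx y hy
    refine hmeet g h hne ⟨?_, ?_⟩
    · rw [show x * y * x⁻¹ * y⁻¹ = x * (y * x⁻¹ * y⁻¹) by group]
      exact mul_mem hx ((hcjP g).1.conj_mem x⁻¹ ((cj g).inv_mem hx) y)
    · exact mul_mem ((hcjP h).1.conj_mem y hy x) ((cj h).inv_mem hy)
  -- every involution lies in a conjugate
  obtain ⟨i₀, hi₀M, hi₀⟩ : ∃ i ∈ M, orderOf i = 2 := by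
    haveI := Fact.mk Nat.prime_two
    obtain ⟨i, hi⟩ := exists_prime_orderOf_dvd_card' (G := M) 2
      (even_iff_two_dvd.1 (Nat.not_odd_iff_even.1 hM.2))
    exact ⟨i, i.2, by rw [Subgroup.orderOf_coe]; exact hi⟩
  have hinv : ∀ i : S.T1, orderOf i = 2 → ∃ h, i ∈ cj h := by
    intro i hi
    obtain ⟨c, hc⟩ := (S.oneClass _ ((Subgroup.orderOf_coe i₀).trans hi₀)).symm.trans
      (S.oneClass _ ((Subgroup.orderOf_coe i).trans hi))
    refine ⟨(c : H), i₀, hi₀M, Subtype.ext ?_⟩
    simp only [φ, MulEquiv.coe_toMonoidHom, MulAut.conjNormal_apply]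
    exact (eq_mul_inv_of_mul_eq hc.symm).symm
  have hsq : ∀ i : S.T1, orderOf i = 2 → i * i = 1 := fun i hi => by
    have := pow_orderOf_eq_one i
    rwa [hi, pow_two] at this
  -- the conjugates coincide
  have hall : ∀ g h, cj g = cj h := by
    intro g h
    by_contra hne
    refine hnc fun u v hu hv => ?_
    obtain ⟨i, hig, hi⟩ : ∃ i ∈ cj g, orderOf i = 2 :=
      ⟨_, ⟨i₀, hi₀M, rfl⟩, by rw [MulEquiv.coe_toMonoidHom, MulEquiv.orderOf_eq, hi₀]⟩
    obtain ⟨j, hjh, hj⟩ : ∃ j ∈ cj h, orderOf j = 2 :=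
      ⟨_, ⟨i₀, hi₀M, rfl⟩, by rw [MulEquiv.coe_toMonoidHom, MulEquiv.orderOf_eq, hi₀]⟩
    have hij : Commute i j := S.commute_of_commutator_mem (hsq i hi) (hcomm g h hne i hig j hjh)
    have hk1 : i * j ≠ 1 := by
      intro e
      refine hne ?_
      have hji : j = i := by
        rw [← inv_eq_of_mul_eq_one_right e, inv_eq_of_mul_eq_one_right (hsq i hi)]
      have hiZ := hmeet g h hne ⟨hig, hji ▸ hjh⟩
      have := S.eq_one_of_mul hiZ (hsq i hi)
      rw [this, orderOf_one] at hi
      omega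
    have hk : orderOf (i * j) = 2 := by
      refine orderOf_eq_prime ?_ hk1
      rw [pow_two]
      calc i * j * (i * j) = i * (j * i) * j := by group
        _ = (i * i) * (j * j) := by rw [← hij.eq]; group
        _ = 1 := by rw [hsq i hi, hsq j hj, one_mul]
    obtain ⟨f, hf⟩ := hinv _ hk
    have hfg : cj f ≠ cj g := fun e => by
      rw [e] at hf
      have h1 : j ∈ cj g := by simpa using mul_mem (inv_mem hig) hf
      have hjZ := hmeet g h hne ⟨h1, hjh⟩
      have := S.eq_one_of_mul hjZ (hsq j hj)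
      rw [this, orderOf_one] at hj
      omega
    -- `i` is central in `cj g`
    have hcen : ∀ x ∈ cj g, Commute i x := by
      intro x hx
      refine S.commute_of_commutator_mem (hsq i hi) ?_
      have hA := hcomm f g hfg _ hf x hx
      have hB := hcomm h g (Ne.symm hne) j hjh x hx
      have e : i * x * i⁻¹ * x⁻¹ =
          (i * (j * x * j⁻¹ * x⁻¹) * i⁻¹)⁻¹ * ((i * j) * x * (i * j)⁻¹ * x⁻¹) := by group
      rw [e]
      exact mul_mem (inv_mem (S.Z1_normal.conj_mem _ hB i)) hA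
    -- hence with every involution
    have hci : ∀ w : S.T1, orderOf w = 2 → Commute i w := by
      intro w hw
      obtain ⟨f', hf'⟩ := hinv w hw
      by_cases e : cj f' = cj g
      · exact hcen w (e ▸ hf')
      · exact S.commute_of_commutator_mem (hsq i hi) (hcomm g f' (Ne.symm e) i hig w hf')
    obtain ⟨c, hc⟩ := (S.oneClass _ ((Subgroup.orderOf_coe i).trans hi)).symm.trans (S.oneClass u hu)
    have hu' : u = (c : H) * (i : H) * (c : H)⁻¹ := eq_mul_inv_of_mul_eq hc.symm
    have hv' : orderOf ((c : H)⁻¹ * v * (c : H)) = 2 := by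
      rw [← MulEquiv.orderOf_eq (MulAut.conj (c : H))]; simpa [mul_assoc] using hv
    have h1 := ((hci ⟨_, S.involution_mem_T1 hv'⟩ (by rw [Subgroup.orderOf_mk]; exact hv')).map S.T1.subtype).map
      (MulAut.conj (c : H)).toMonoidHom
    rw [hu']
    simpa [mul_assoc] using h1
  have h1 : cj 1 = M := by
    simp only [cj, φ, map_one]
    exact Subgroup.map_id M
  refine hNtop (top_unique (le_trans ?_ hMN))
  intro x _
  have hle : S.T1 ≤ M.map S.T1.subtype := by
    refine (Subgroup.closure_le _).2 fun w hw => ?_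
    obtain ⟨a, rfl, c, hc⟩ := Group.mem_conjugatesOfSet_iff.1 hw
    have hw2 : orderOf w = 2 := by
      rw [show w = (c : H) * S.t * (c : H)⁻¹ from eq_mul_inv_of_mul_eq hc.symm,
        ← MulAut.conj_apply, MulEquiv.orderOf_eq, S.ht]
    obtain ⟨f, hf⟩ := hinv ⟨w, S.involution_mem_T1 hw2⟩ (by rw [Subgroup.orderOf_mk]; exact hw2)
    rw [hall f 1, h1] at hf
    exact ⟨_, hf, rfl⟩
  obtain ⟨y, hy, he⟩ := hle x.2
  exact Subtype.ext he ▸ hy

/-- Every normal subgroup of `T1` is `T1` or central. -/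
theorem eq_top_or_le_Z1 (N : Subgroup S.T1) [N.Normal] : N = ⊤ ∨ N ≤ S.Z1 :=
  (S.eq_top_or_odd hnc N).imp_right fun h => S.le_Z1 h

theorem eq_top_of_t_mem {N : Subgroup S.T1} [N.Normal] (h : (⟨S.t, S.t_mem_T1⟩ : S.T1) ∈ N) : N = ⊤ := by
  refine (S.eq_top_or_le_Z1 hnc N).resolve_right fun hle => ?_
  have h1 := S.eq_one_of_mul (hle h) (Subtype.ext S.t_mul_t)
  have h2 : orderOf S.t = 1 := by rw [show S.t = 1 from congrArg Subtype.val h1, orderOf_one]
  rw [S.ht] at h2
  omega

/-- `t` does not centralise its block. -/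
theorem exists_not_commute : ∃ g ∈ S.T1, ¬ Commute (g * S.t * g⁻¹) S.t := by
  by_contra h
  push Not at h
  let t' : S.T1 := ⟨S.t, S.t_mem_T1⟩
  have htop : Subgroup.normalClosure ({t'} : Set S.T1) = ⊤ :=
    S.eq_top_of_t_mem hnc (Subgroup.subset_normalClosure rfl)
  have hle : Subgroup.normalClosure ({t'} : Set S.T1) ≤ Subgroup.centralizer ({t'} : Set S.T1) := by
    refine (Subgroup.closure_le _).2 fun w hw => ?_
    obtain ⟨a, rfl, c, hc⟩ := Group.mem_conjugatesOfSet_iff.1 hw
    rw [SetLike.mem_coe, Subgroup.mem_centralizer_singleton_iff]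
    apply Subtype.ext
    rw [show w = (c : S.T1) * t' * (c : S.T1)⁻¹ from eq_mul_inv_of_mul_eq hc.symm]
    simpa using (h _ (c : S.T1).2).eq
  refine hnc fun u v hu hv => ?_
  obtain ⟨c, hc⟩ := S.oneClass u hu
  have hu' : u = (c : H) * S.t * (c : H)⁻¹ := eq_mul_inv_of_mul_eq hc.symm
  have hmem : (c : H)⁻¹ * v * (c : H) ∈ S.T1 := by
    simpa using S.T1_normal.conj_mem v (S.involution_mem_T1 hv) (c : H)⁻¹
  have h1 := ((Subgroup.mem_centralizer_singleton_iff.1
    (hle (htop ▸ Subgroup.mem_top (⟨_, hmem⟩ : S.T1)))).symm)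
  have h2 : Commute S.t ((c : H)⁻¹ * v * (c : H)) := congrArg Subtype.val h1
  have h3 := h2.map (MulAut.conj (c : H)).toMonoidHom
  rw [hu']
  simpa [mul_assoc] using h3

/-- Two primes divide the class of `t` in `T1`. -/
theorem twoPrimes : ∃ p q : ℕ, p.Prime ∧ q.Prime ∧ p ≠ q ∧
    p ∣ (Subgroup.centralizer ({S.t} : Set H)).relIndex S.T1 ∧
    q ∣ (Subgroup.centralizer ({S.t} : Set H)).relIndex S.T1 := by
  classical
  set n := (Subgroup.centralizer ({S.t} : Set H)).relIndex S.T1 with hn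
  set t' : S.T1 := ⟨S.t, S.t_mem_T1⟩
  obtain ⟨g₀, hg₀, hg₀t⟩ := S.exists_not_commute hnc
  let Q := S.T1 ⧸ S.Z1
  let π : S.T1 →* Q := QuotientGroup.mk' S.Z1
  have hπ : Function.Surjective π := QuotientGroup.mk'_surjective _
  have hcent : ∀ x : S.T1, Commute (π x) (π t') ↔ Commute (x : H) S.t := by
    intro x
    constructor
    · intro h
      have h1 : t' * x * t'⁻¹ * x⁻¹ ∈ S.Z1 := by
        rw [← QuotientGroup.eq_one_iff, ← QuotientGroup.mk'_apply]
        simp only [map_mul, map_inv]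
        exact commutatorElement_eq_one_iff_commute.2 h.symm
      exact ((S.commute_of_commutator_mem (Subtype.ext S.t_mul_t) h1).map S.T1.subtype).symm
    · intro h
      exact Commute.map (Subtype.ext h.eq : Commute x t') π
  have ht1 : π t' ≠ 1 := by
    intro h
    have := S.eq_top_of_t_mem hnc (N := S.Z1) ((QuotientGroup.eq_one_iff _).1 h)
    refine hg₀t ?_
    have hg : (⟨g₀, hg₀⟩ : S.T1) ∈ S.Z1 := this ▸ Subgroup.mem_top _
    have h1 : Commute g₀ S.t := S.commute_t_of_mem_Z1 hg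
    rw [h1.eq, mul_inv_cancel_right]
  haveI : Nontrivial Q := ⟨⟨π t', 1, ht1⟩⟩
  haveI : IsSimpleGroup Q := ⟨fun N hN => by
    rcases S.eq_top_or_le_Z1 hnc (N.comap π) with h | h
    · exact Or.inr (Subgroup.comap_injective hπ (h.trans (Subgroup.comap_top π).symm))
    · refine Or.inl (eq_bot_iff.2 fun x hx => ?_)
      obtain ⟨y, rfl⟩ := hπ x
      exact (QuotientGroup.eq_one_iff _).2 (h hx)⟩
  have hidx : (Subgroup.centralizer ({π t'} : Set Q)).index = n := by
    rw [← Subgroup.index_comap_of_surjective _ hπ, hn, Subgroup.relIndex]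
    congr 1
    ext x
    simp only [Subgroup.mem_comap, Subgroup.mem_centralizer_singleton_iff, Subgroup.mem_subgroupOf]
    exact hcent x
  have hpp : ∀ p k : ℕ, p.Prime → n ≠ p ^ k := by
    intro p k hp hk
    have hc := CfsgLib.Characters.prime_card_of_primePow_class p k hp (π t') ht1 (hidx.trans hk)
    haveI := Fact.mk hc
    haveI : IsCyclic Q := isCyclic_of_prime_card rfl
    refine hg₀t ?_
    have h1 := (hcent ⟨g₀, hg₀⟩).1 (Std.Commutative.comm (op := (· * ·)) _ _)
    rw [h1.eq, mul_inv_cancel_right]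
  have hn0 : n ≠ 0 := Subgroup.index_ne_zero_of_finite
  obtain ⟨p, hp, hpn⟩ := Nat.exists_prime_and_dvd (n := n) fun h => hpp 2 0 Nat.prime_two (by simpa using h)
  by_contra hcon
  push Not at hcon
  exact hpp p _ hp (Nat.eq_prime_pow_of_unique_prime_dvd hn0 fun {q} hq hqn => by
    by_contra hne
    exact hcon p q hp hq (Ne.symm hne) hpn hqn)

end Setup

end CfsgLib.BenderWorld.Shape
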